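import Groth.Agent.ModelsG.H46.ChainMain
import Groth.Agent.ModelsG.H46.InterProd
import Groth.Agent.Models.H65.InterForm
import Groth.Agent.Models.H43.FormGlue
import Groth.Agent.Grpsch.PicGrp

/-!
# Global functions on connected closed fibres

`X` regular, proper and flat over a discrete valuation ring, with connected closed fibre, `Γ` the list of its
components, `m_i` their multiplicities.
* `exists_inv`: the ideals of the components have inverses;
* `form`: the intersection form is negative semidefinite with kernel spanned by the fibre;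
* `exists_chain`: the chain from the reduced fibre to the primitive fibre, with global functions a field;
* `isField_fibre`: if the `m_i` are coprime, the global functions on the closed fibre form a field.
-/

set_option autoImplicit false
universe u

open CategoryTheory CategoryTheory.Limits AlgebraicGeometry Opposite TopologicalSpace

namespace K481.FibreField

open Groth.Agent Groth.Agent.Dix.IdealModCartier Groth.Agent.Divis.EffCartier Groth.Agent.Dix.IdealQuot
open Groth.Agent.Models.H65 Groth.Agent.Models.H71.Comps Groth.Agent.Models.H36.FibreFact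

variable {R : Type u} [CommRing R] [IsDomain R] [IsDiscreteValuationRing R]
variable {X : Over (Spec (CommRingCat.of R))}
variable {n : ℕ} {Γ : Fin n → ArSurf.VertComp R X}

/-- Inverses of the ideals of the components. -/
theorem exists_inv [IsProper X.hom] [Flat X.hom] (hreg : Models.IsRegularScheme X.left) (hΓ : Models.IsComponentList R X Γ) :
    ∃ L : Fin n → X.left.Modules, ∀ i, ClSub.IsInverseOf (L i) (ClSub.idealMod (Γ i).ι.ker) := by
  have hN : IsLocallyNoetherian X.left := LocallyOfFiniteType.isLocallyNoetherian X.hom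
  have hinv : ∀ i, ∃ L : X.left.Modules, ClSub.IsInverseOf L (ClSub.idealMod (Γ i).ι.ker) := by
    intro i
    obtain ⟨M, -, ⟨e⟩⟩ := Grpsch.PicGrp.exists_inverse
      (Dix.IdealModCartier.isInvertible_idealMod
        (isEffCartier_ker hreg (Γ i) (range_mem_fibreComponents hΓ i)))
    exact ⟨M, ⟨Ega2.Tens.swap _ _ ≪≫ e⟩⟩
  choose L hL using hinv
  exact ⟨L, hL⟩

/-- Connectedness of the intersection graph. -/
theorem conn [IsProper X.hom] [Flat X.hom] (hreg : Models.IsRegularScheme X.left)
    (hΓ : Models.IsComponentList R X Γ) (hconn : _root_.IsConnected (Models.specialFibreSet R X))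
    {L : Fin n → X.left.Modules} (hL : ∀ i, ClSub.IsInverseOf (L i) (ClSub.idealMod (Γ i).ι.ker))
    (I : Finset (Fin n)) (hI : I.Nonempty) (hI' : I ≠ Finset.univ) :
    ∃ i ∈ I, ∃ j ∉ I, ArSurf.inter R X (L j) (Γ i) ≠ 0 := by
  obtain ⟨i, hi, j, hj, hij⟩ := exists_meet_of_isPreconnected hΓ hconn.isPreconnected I hI hI'
  refine ⟨i, hi, j, hj, ?_⟩
  have hne : i ≠ j := fun h => hj (h ▸ hi)
  rw [Ne, InterForm.eq_zero_iff hreg hΓ hL hne, Set.not_disjoint_iff_nonempty_inter]
  exact hij

/-- The intersection form. -/
theorem form [IsProper X.hom] [Flat X.hom] (hreg : Models.IsRegularScheme X.left)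
    (hΓ : Models.IsComponentList R X Γ) (hconn : _root_.IsConnected (Models.specialFibreSet R X))
    {L : Fin n → X.left.Modules} (hL : ∀ i, ClSub.IsInverseOf (L i) (ClSub.idealMod (Γ i).ι.ker))
    (a : Fin n → ℤ) :
    (∑ q : Fin n × Fin n, a q.1 * a q.2 * ArSurf.inter R X (L q.2) (Γ q.1)) ≤ 0 ∧
      ((∑ q : Fin n × Fin n, a q.1 * a q.2 * ArSurf.inter R X (L q.2) (Γ q.1)) = 0 ↔
        ∃ c : ℚ, ∀ i, (a i : ℚ) = c * (Models.mult R X (Γ i) : ℚ)) :=
  Models.H43.FormGlue.form_nonpos_and_eq_zero_iff
    (fun i j => ArSurf.inter R X (L j) (Γ i)) (fun i => Models.mult R X (Γ i))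
    (fun i j => InterForm.symm hreg hΓ hL i j) (fun i j hij => InterForm.nonneg hreg hΓ hL hij)
    (fun i => mult_pos hreg hΓ i) (fun j => InterForm.sum_mult hreg hΓ hL j)
    (fun I hI hI' => conn hreg hΓ hconn hL I hI hI') a

/-- The chain from the reduced fibre to the primitive fibre. -/
theorem exists_chain [IsProper X.hom] [Flat X.hom] (hreg : Models.IsRegularScheme X.left)
    (hΓ : Models.IsComponentList R X Γ) (hconn : _root_.IsConnected (Models.specialFibreSet R X)) :
    ∃ (s : ℕ) (a : Fin (s + 1) → Fin n → ℕ), (a 0 = fun _ => 1) ∧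
      (a (Fin.last s) = fun i => Models.mult R X (Γ i) / Models.multGcd R X Γ) ∧
      (∀ j : Fin s, ∃ i, a j.succ = a j.castSucc + Pi.single i 1) ∧
      ∀ j, IsField Γ((∏ i, (Γ i).ι.ker ^ a j i).subscheme, ⊤) := by
  obtain ⟨L, hL⟩ := exists_inv hreg hΓ
  have hneg := form hreg hΓ hconn hL
  exact ModelsG.H46.ChainMain.main Γ
    (fun i => Dix.IdealModCartier.isEffCartierIdeal_of_isInverseOf (hL i)) (pos_of_nonempty hΓ hconn.nonempty)
    (fun i j => ArSurf.inter R X (L j) (Γ i))
    (fun b i => by
      rw [ModelsG.H46.InterProd.inter_idealMod_prod_of_inverse (Γ i) _ L hL b]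
      congr 1
      exact Finset.sum_congr rfl fun k _ => by rw [InterForm.symm hreg hΓ hL i k])
    (fun i => Models.mult R X (Γ i)) (fun i => mult_pos hreg hΓ i)
    (fun i j hij => InterForm.nonneg hreg hΓ hL hij) (fun j => InterForm.sum_mult hreg hΓ hL j)
    (fun I hI hI' => conn hreg hΓ hconn hL I hI hI') (fun z => (hneg z).1)
    (fun z hz => (hneg z).2.1 hz)

/-- If the multiplicities of a connected closed fibre are coprime, its global functions form a field. -/
theorem isField_fibre [IsProper X.hom] [Flat X.hom] (hreg : Models.IsRegularScheme X.left)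
    (hΓ : Models.IsComponentList R X Γ) (hconn : _root_.IsConnected (Models.specialFibreSet R X))
    (hgcd : Models.multGcd R X Γ = 1) : IsField Γ((Models.specialFibreIdeal R X).subscheme, ⊤) := by
  obtain ⟨s, a, -, hl, -, hF⟩ := exists_chain hreg hΓ hconn
  have h1 := hF (Fin.last s)
  have hl' : a (Fin.last s) = fun i => Models.mult R X (Γ i) := by
    rw [hl, hgcd]
    funext i
    rw [Nat.div_one]
  rw [hl'] at h1
  rwa [← specialFibreIdeal_eq_prod hreg hΓ] at h1

end K481.FibreField
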