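import Groth.Agent.CycB.FlatProper
import Groth.Agent.Models.H55.CompGeom
import Groth.Agent.Models.H65.ContrInter
import Groth.Agent.Dix.RegSurfLoc979
import Groth.Agent.FlatA.SteinNoeth
import Groth.Agent.ArSurf.K481.FibreField

set_option autoImplicit false
universe u

open CategoryTheory CategoryTheory.Limits AlgebraicGeometry Opposite TopologicalSpace
open scoped TensorProduct

namespace K481.CohFlat

open IsLocalRing Groth.Agent Groth.Agent.CycB.FiberStalk

/-- The kernel of `Spec B ⟶ Spec A`. -/
theorem ker_SpecMap {A B : Type u} [CommRing A] [CommRing B] (φ : A →+* B) :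
    (Spec.map (CommRingCat.ofHom φ)).ker = Curv2.idealSheaf A (RingHom.ker φ) := by
  rw [Scheme.ker_of_isAffine, Curv2.idealSheaf]
  congr 1
  have hbij := ConcreteCategory.bijective_of_isIso (Scheme.ΓSpecIso (CommRingCat.of A)).inv
  have hbij' := ConcreteCategory.bijective_of_isIso (Scheme.ΓSpecIso (CommRingCat.of B)).inv
  ext z
  obtain ⟨w, rfl⟩ := hbij.2 z
  rw [RingHom.mem_ker]
  have h1 : (Spec.map (CommRingCat.ofHom φ)).appTop ((Scheme.ΓSpecIso (CommRingCat.of A)).inv w) =
      (Scheme.ΓSpecIso (CommRingCat.of B)).inv (φ w) := by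
    have h3 := Scheme.ΓSpecIso_inv_naturality (CommRingCat.ofHom φ)
    exact congr($h3 w).symm
  refine Iff.trans (Eq.congr_left h1) ?_
  rw [map_eq_zero_iff _ hbij'.1, ← RingHom.mem_ker]
  constructor
  · exact fun hw => Ideal.mem_map_of_mem _ hw
  · intro hw
    rw [Ideal.mem_map_iff_of_surjective _ hbij.2] at hw
    obtain ⟨w', hw', h⟩ := hw
    rwa [← hbij.1 h]

variable {R : Type u} [CommRing R] [IsDomain R] [IsDiscreteValuationRing R]
variable {X : Over (Spec (CommRingCat.of R))}

/-- The ideal of the fibre through a point of the closed fibre. -/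
theorem fibIdeal_eq_map (ξ : X.left) (hξ : X.hom ξ = closedPoint R) :
    fibIdeal X.hom ξ = Ideal.map (Models.stalkHom R X ξ) (maximalIdeal R) := by
  let _ : Algebra R ((Spec (CommRingCat.of R)).presheaf.stalk (X.hom ξ)) := StructureSheaf.stalkAlgebra R (X.hom ξ)
  have hloc : IsLocalization.AtPrime ((Spec (CommRingCat.of R)).presheaf.stalk (X.hom ξ)) (X.hom ξ).asIdeal :=
    StructureSheaf.IsLocalization.to_stalk R (X.hom ξ)
  have h2 : Models.stalkHom R X ξ = (X.hom.stalkMap ξ).hom.comp
      (algebraMap R ((Spec (CommRingCat.of R)).presheaf.stalk (X.hom ξ))) := by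
    ext r
    exact (congr($(X.hom.germ_stalkMap ⊤ ξ trivial) ((Scheme.ΓSpecIso (CommRingCat.of R)).inv r))).symm
  rw [h2, ← Ideal.map_map]
  unfold fibIdeal
  congr 1
  have h3 := IsLocalization.AtPrime.map_eq_maximalIdeal (X.hom ξ).asIdeal
    ((Spec (CommRingCat.of R)).presheaf.stalk (X.hom ξ))
  rw [← h3]
  congr 1
  rw [hξ]
  rfl

/-- The morphism of the closed point. -/
noncomputable abbrev ρ (R : Type u) [CommRing R] [IsLocalRing R] :
    Spec (CommRingCat.of (ResidueField R)) ⟶ Spec (CommRingCat.of R) :=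
  Spec.map (CommRingCat.ofHom (residue R))

instance : IsClosedImmersion (ρ R) := IsClosedImmersion.spec_of_surjective _ IsLocalRing.residue_surjective

theorem ρ_apply (z : Spec (CommRingCat.of (ResidueField R))) : ρ R z = closedPoint R := by
  have : Subsingleton (PrimeSpectrum (ResidueField R)) := inferInstance
  have h : z = closedPoint (ResidueField R) := Subsingleton.elim (α := PrimeSpectrum (ResidueField R)) _ _
  rw [h]
  exact IsLocalRing.comap_closedPoint (IsLocalRing.residue R)

theorem range_ρ : Set.range (ρ R) = {closedPoint R} := by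
  ext y
  constructor
  · rintro ⟨z, rfl⟩
    exact ρ_apply z
  · rintro rfl
    exact ⟨closedPoint (ResidueField R), ρ_apply _⟩

/-- Connectedness of the closed fibre. -/
theorem isConnected_specialFibreSet [ConnectedSpace ↥(pullback X.hom (ρ R))] :
    _root_.IsConnected (Models.specialFibreSet R X) := by
  have h1 : _root_.IsConnected (Set.range (pullback.fst X.hom (ρ R))) :=
    isConnected_range (pullback.fst X.hom (ρ R)).continuous
  rw [Scheme.Pullback.range_fst, range_ρ] at h1
  exact h1

/-- The scheme theoretic closed fibre. -/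
theorem nonempty_iso : Nonempty (pullback X.hom (ρ R) ≅ (Models.specialFibreIdeal R X).subscheme) := by
  have h1 : (pullback.fst X.hom (ρ R)).ker = (Models.specialFibreIdeal R X).subschemeι.ker := by
    rw [Scheme.IdealSheafData.ker_fst_of_isClosedImmersion, ker_SpecMap, IsLocalRing.ker_residue,
      Scheme.IdealSheafData.ker_subschemeι]
    rfl
  have := IsClosedImmersion.isIso_lift _ _ h1
  exact ⟨(asIso (IsClosedImmersion.lift _ _ h1.le)).symm⟩


theorem fibIdeal_field {Z : Scheme.{u}} {K : Type u} [Field K] (q : Z ⟶ Spec (CommRingCat.of K)) (z : Z) :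
    fibIdeal q z = ⊥ := by
  let _ : Algebra K ((Spec (CommRingCat.of K)).presheaf.stalk (q z)) := StructureSheaf.stalkAlgebra K (q z)
  have hloc : IsLocalization.AtPrime ((Spec (CommRingCat.of K)).presheaf.stalk (q z)) (q z).asIdeal :=
    StructureSheaf.IsLocalization.to_stalk K (q z)
  have h3 := IsLocalization.AtPrime.map_eq_maximalIdeal (q z).asIdeal
    ((Spec (CommRingCat.of K)).presheaf.stalk (q z))
  have h4 : (q z).asIdeal = ⊥ := by
    rcases Ideal.eq_bot_or_top (q z).asIdeal with h | h
    · exact h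
    · exact absurd h (q z).2.ne_top
  unfold fibIdeal
  rw [← h3, h4, Ideal.map_bot, Ideal.map_bot]

open Groth.Agent.Dix.FibreMin

/-- A common divisor of the multiplicities of the components divides the lengths of the local rings of the geometric
fibre. -/
theorem dvd_length {n : ℕ} {Γ : Fin n → ArSurf.VertComp R X} (hΓ : Models.IsComponentList R X Γ)
    {K : Type u} [Field K] {Xb : Scheme.{u}} {fst : Xb ⟶ X.left} {snd : Xb ⟶ Spec (CommRingCat.of K)}
    {g : Spec (CommRingCat.of K) ⟶ Spec (CommRingCat.of R)}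
    (hpb : IsPullback fst snd X.hom g) (hg : ∀ z, g z = closedPoint R) (ℓ : ℕ)
    (hℓ : ∀ i, ℓ ∣ Models.mult R X (Γ i)) (x : Xb) :
    ℓ ∣ (Module.length (Xb.presheaf.stalk x) (Xb.presheaf.stalk x)).toNat := by
  obtain ⟨m, hm⟩ := Groth.Agent.CycB.FlatProper.exists_mult_eq hpb x
  rw [(Submodule.quotEquivOfEqBot _ (fibIdeal_field snd x)).length_eq] at hm
  have hx : X.hom (fst x) = closedPoint R := by
    rw [← Scheme.Hom.comp_apply, hpb.w, Scheme.Hom.comp_apply]
    exact hg _
  rw [hm, ENat.toNat_mul]
  by_cases h : Module.length (X.left.presheaf.stalk (fst x))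
      (X.left.presheaf.stalk (fst x) ⧸ fibIdeal X.hom (fst x)) = ⊤
  · rw [h]
    simp
  refine Dvd.dvd.mul_right ?_ _
  have hmin : IsMinPt X.hom (fst x) := fun z hz hpz =>
    Groth.Agent.CycB.FlatProper.fibGeneric_of_length_ne_top X.hom (fst x) h z hpz hz
  have hmem : closure {fst x} ∈ Models.fibreComponents R X :=
    (Groth.Agent.Models.H55.CompGeom.mem_fibreComponents_iff _).2 ⟨fst x, hx, hmin, rfl⟩
  rw [← hΓ.2] at hmem
  obtain ⟨i, hi⟩ := hmem
  have hgen : Models.genPtOf R X (Γ i) = fst x := by
    have h1 := Groth.Agent.Models.H36.FibreFact.closure_genPt (Γ i)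
    have h2 : closure {Models.genPtOf R X (Γ i)} = closure {fst x} := h1.trans hi
    have h4 : Models.genPtOf R X (Γ i) ⤳ fst x := by
      rw [specializes_iff_mem_closure, h2]; exact subset_closure rfl
    have h5 : fst x ⤳ Models.genPtOf R X (Γ i) := by
      rw [specializes_iff_mem_closure, ← h2]; exact subset_closure rfl
    exact (h4.antisymm h5).eq
  have h6 := hℓ i
  unfold Models.mult at h6
  rw [hgen, ← fibIdeal_eq_map _ hx] at h6
  exact h6

end K481.CohFlat
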