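import Groth.Agent.ArSurf.K481.GeomLen
import Groth.Agent.ArSurf.K481.CohFlat
import Groth.Agent.VarietyB.ResMap

/-!
# Cohomological flatness in degree zero
-/

set_option autoImplicit false
universe u

open CategoryTheory CategoryTheory.Limits AlgebraicGeometry Opposite TopologicalSpace
open scoped TensorProduct

namespace K481.CohFlatMain

open IsLocalRing Groth.Agent K481.CohFlat

/-- A proper scheme over a field whose functions form a field and with connected base change to an algebraically
closed field, such that the lengths of the local rings of the base change are coprime: the functions are constants. -/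
theorem bijective_of_primes {k K : Type u} [Field k] [Field K] [IsAlgClosed K] [Algebra k K] {Y Xb : Scheme.{u}}
    (p : Y ⟶ Spec (CommRingCat.of k)) [IsProper p] (hκ : IsField Γ(Y, ⊤)) (fst : Xb ⟶ Y)
    (snd : Xb ⟶ Spec (CommRingCat.of K)) (hpb : IsPullback fst snd p (Spec.map (CommRingCat.ofHom (algebraMap k K))))
    [ConnectedSpace Xb]
    (hd : ∀ ℓ : ℕ, ℓ.Prime → ∃ x : Xb, ¬ ℓ ∣ (Module.length (Xb.presheaf.stalk x) (Xb.presheaf.stalk x)).toNat) :
    Function.Bijective p.appTop.hom := by
  let _ : Field Γ(Y, ⊤) := hκ.toField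
  let ψ : k →+* Γ(Y, ⊤) := ((Scheme.ΓSpecIso (CommRingCat.of k)).inv ≫ p.appTop).hom
  have hψ : ψ.Finite := FlatA.SteinNoeth.finite_toGlobal k Y p
  let _ : Algebra k Γ(Y, ⊤) := ψ.toAlgebra
  have hfin : FiniteDimensional k Γ(Y, ⊤) := hψ
  have hp : Y.toSpecΓ ≫ Spec.map (CommRingCat.ofHom (algebraMap k Γ(Y, ⊤))) = p :=
    VarietyB.ResMap.specMap_toGlobal p
  have h1 : ∀ x : Xb, Module.finrank k Γ(Y, ⊤) ∣
      (Module.length (Xb.presheaf.stalk x) (Xb.presheaf.stalk x)).toNat := by
    intro x
    refine GeomLen.dvd_length (k := k) (κ := Γ(Y, ⊤)) (K := K) Y.toSpecΓ fst snd ?_ x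
    rw [hp]
    exact hpb
  have h2 : Module.finrank k Γ(Y, ⊤) = 1 := by
    by_contra hne
    obtain ⟨ℓ, hℓ, hdvd⟩ := Nat.exists_prime_and_dvd hne
    obtain ⟨x, hx⟩ := hd ℓ hℓ
    exact hx (hdvd.trans (h1 x))
  have h3 : Function.Bijective ψ := Algebra.finrank_eq_one_iff_bijective_algebraMap.mp h2
  have h4 : p.appTop = (Scheme.ΓSpecIso (CommRingCat.of k)).hom ≫ CommRingCat.ofHom ψ := by
    change _ = (Scheme.ΓSpecIso (CommRingCat.of k)).hom ≫ (Scheme.ΓSpecIso (CommRingCat.of k)).inv ≫ p.appTop
    rw [Iso.hom_inv_id_assoc]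
  rw [h4]
  exact h3.comp (ConcreteCategory.bijective_of_isIso (Scheme.ΓSpecIso (CommRingCat.of k)).hom)

variable {R : Type u} [CommRing R] [IsDomain R] [IsDiscreteValuationRing R]
variable {X : Over (Spec (CommRingCat.of R))}

/-- The geometric fibre as a base change of the fibre. -/
theorem isPullback_geom (K : Type u) [Field K] [Algebra (ResidueField R) K] :
    ∃ fst : pullback X.hom (Spec.map (CommRingCat.ofHom ((algebraMap (ResidueField R) K).comp (residue R)))) ⟶
        pullback X.hom (ρ R),
      IsPullback fst (pullback.snd X.hom _) (pullback.snd X.hom (ρ R))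
        (Spec.map (CommRingCat.ofHom (algebraMap (ResidueField R) K))) := by
  have hg : Spec.map (CommRingCat.ofHom ((algebraMap (ResidueField R) K).comp (residue R))) =
      Spec.map (CommRingCat.ofHom (algebraMap (ResidueField R) K)) ≫ ρ R := by
    rw [CommRingCat.ofHom_comp, Spec.map_comp]
  rw [hg]
  refine ⟨pullback.lift (pullback.fst _ _) (pullback.snd _ _ ≫ Spec.map (CommRingCat.ofHom (algebraMap (ResidueField R) K)))
    (by rw [Category.assoc]; exact pullback.condition), ?_⟩
  refine (IsPullback.of_bot ?_ ?_ (IsPullback.of_hasPullback X.hom (ρ R)).flip).flip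
  · rw [pullback.lift_fst]
    exact (IsPullback.of_hasPullback _ _).flip
  · rw [pullback.lift_snd]

end K481.CohFlatMain
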