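import Groth.Agent.ArSurf.K481.PerfConn
import Groth.Agent.ArSurf.K481.CohFlat
import Groth.Agent.VarietyB.ResMap
import Groth.Agent.FlatA.SteinConn
import Groth.Agent.CurvesB.HZero

/-!
# Cohomological flatness in degree zero over a perfect residue field
-/

set_option autoImplicit false
universe u

open CategoryTheory CategoryTheory.Limits AlgebraicGeometry Opposite TopologicalSpace
open scoped TensorProduct

namespace K481.CohFlatPerf

open IsLocalRing Groth.Agent K481.CohFlat

theorem isPullback_of_mono_left {C : Type*} [Category* C] {Z A A' B S : C} {f : Z ⟶ A} {g : Z ⟶ B} (i : A ⟶ A')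
    [Mono i] {a : A' ⟶ S} {b : B ⟶ S} (h : IsPullback (f ≫ i) g a b) : IsPullback f g (i ≫ a) b := by
  have hw : f ≫ (i ≫ a) = g ≫ b := by
    rw [← Category.assoc]
    exact h.w
  refine ⟨⟨hw⟩, ⟨PullbackCone.IsLimit.mk _ (fun s => h.lift (s.fst ≫ i) s.snd ?_) ?_ ?_ ?_⟩⟩
  · rw [Category.assoc, s.condition]
  · intro s
    rw [← cancel_mono i, Category.assoc]
    exact h.lift_fst _ _ _
  · exact fun s => h.lift_snd _ _ _
  · intro s m h1 h2
    refine h.hom_ext ?_ ?_
    · rw [← Category.assoc, h1, h.lift_fst]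
    · rw [h2, h.lift_snd]

variable {R : Type u} [CommRing R] [IsDomain R] [IsDiscreteValuationRing R]
variable {X : Over (Spec (CommRingCat.of R))}

theorem surjective_appTop [PerfectField (ResidueField R)] [IsProper X.hom]
    (hκ : IsField Γ(pullback X.hom (ρ R), ⊤)) :
    Function.Surjective (pullback.fst X.hom (ρ R)).appTop.hom := by
  let Y := pullback X.hom (ρ R)
  let i : Y ⟶ X.left := pullback.fst X.hom (ρ R)
  let q : Y ⟶ Spec (CommRingCat.of (ResidueField R)) := pullback.snd X.hom (ρ R)
  have hq : IsProper q := inferInstance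
  let _ : Field Γ(Y, ⊤) := hκ.toField
  let φ : Γ(X.left, ⊤) →+* Γ(Y, ⊤) := i.appTop.hom
  let ψ : ResidueField R →+* Γ(Y, ⊤) := Coh.toGlobal q
  have hψ : ψ.Finite := FlatA.SteinNoeth.finite_toGlobal (ResidueField R) Y q
  let K := AlgebraicClosure Γ(Y, ⊤)
  let ι : Γ(Y, ⊤) →+* K := algebraMap _ _
  have hcomp : ψ.comp (residue R) = φ.comp (Coh.toGlobal X.hom) := by
    have h1 : (CommRingCat.ofHom (R := R) (S := Γ(Y, ⊤)) (ψ.comp (residue R))) =
        CommRingCat.ofHom (R := R) (S := Γ(Y, ⊤)) (φ.comp (Coh.toGlobal X.hom)) := by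
      have h2 : (Scheme.ΓSpecIso (CommRingCat.of R)).inv ≫ (q ≫ ρ R).appTop =
          (Scheme.ΓSpecIso (CommRingCat.of R)).inv ≫ (i ≫ X.hom).appTop := by
        rw [show q ≫ ρ R = i ≫ X.hom from pullback.condition.symm]
      rw [Scheme.Hom.comp_appTop, Scheme.Hom.comp_appTop, ← Category.assoc,
        ← Scheme.ΓSpecIso_inv_naturality, Category.assoc, ← Category.assoc] at h2
      exact h2
    exact congrArg CommRingCat.Hom.hom h1
  have hψφ : ∀ c, ψ c ∈ φ.range := by
    intro c
    obtain ⟨r, rfl⟩ := residue_surjective c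
    exact ⟨Coh.toGlobal X.hom r, (RingHom.congr_fun hcomp r).symm⟩
  let g : X.left ⟶ Spec Γ(X.left, ⊤) := X.left.toSpecΓ
  have hg : g ≫ Spec.map (CommRingCat.ofHom (R := R) (S := Γ(X.left, ⊤)) (Coh.toGlobal X.hom)) = X.hom :=
    VarietyB.ResMap.specMap_toGlobal X.hom
  have hgp : IsProper g := by
    have : IsProper (g ≫ Spec.map (CommRingCat.ofHom (R := R) (S := Γ(X.left, ⊤)) (Coh.toGlobal X.hom))) := by
      rw [hg]; infer_instance
    exact IsProper.of_comp g (Spec.map (CommRingCat.ofHom (R := R) (S := Γ(X.left, ⊤)) (Coh.toGlobal X.hom)))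
  have hgi : IsIso g.appTop := by
    rw [Scheme.toSpecΓ_appTop]
    infer_instance
  let y : Spec (CommRingCat.of K) ⟶ Spec Γ(X.left, ⊤) := Spec.map (CommRingCat.ofHom (ι.comp φ))
  have hc : ConnectedSpace ↥(pullback g y) :=
    FlatA.SteinConn.connectedSpace_pullback (R := Γ(X.left, ⊤)) g y
  have hi : IsClosedImmersion i := inferInstance
  let f : pullback g y ⟶ Y := pullback.lift (pullback.fst g y)
    (pullback.snd g y ≫ Spec.map (CommRingCat.ofHom (ι.comp ψ))) (by
      have h1 : Spec.map (CommRingCat.ofHom (ι.comp ψ)) ≫ ρ R =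
          y ≫ Spec.map (CommRingCat.ofHom (R := R) (S := Γ(X.left, ⊤)) (Coh.toGlobal X.hom)) := by
        rw [← Spec.map_comp, ← Spec.map_comp]
        congr 1
        have h2 : (ι.comp ψ).comp (residue R) = (ι.comp φ).comp (Coh.toGlobal X.hom) := by
          rw [RingHom.comp_assoc, RingHom.comp_assoc, hcomp]
        exact congrArg CommRingCat.ofHom h2
      rw [Category.assoc, h1, ← Category.assoc, ← pullback.condition, Category.assoc, hg])
  have hf : f ≫ i = pullback.fst g y := pullback.lift_fst _ _ _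
  have hpb : IsPullback f (pullback.snd g y) (i ≫ g) y := by
    apply isPullback_of_mono_left
    rw [hf]
    exact IsPullback.of_hasPullback _ _
  have hig : i ≫ g = Y.toSpecΓ ≫ Spec.map (CommRingCat.ofHom φ) := (Scheme.toSpecΓ_naturality i)
  rw [hig] at hpb
  exact K481.PerfConn.surjective_of_connected φ ι ψ hψ hψφ Y.toSpecΓ f (pullback.snd g y) hpb


/-- The restriction of functions to the closed fibre, as a subscheme. -/
theorem surjective_subschemeι [PerfectField (ResidueField R)] [IsProper X.hom]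
    (hκ : IsField Γ((Models.specialFibreIdeal R X).subscheme, ⊤)) :
    Function.Surjective (Models.specialFibreIdeal R X).subschemeι.appTop.hom := by
  have h1 : (Models.specialFibreIdeal R X).subschemeι.ker = (pullback.fst X.hom (ρ R)).ker := by
    rw [Scheme.IdealSheafData.ker_fst_of_isClosedImmersion, ker_SpecMap, IsLocalRing.ker_residue,
      Scheme.IdealSheafData.ker_subschemeι]
    rfl
  have hiso := IsClosedImmersion.isIso_lift _ _ h1
  let e := asIso (IsClosedImmersion.lift (Models.specialFibreIdeal R X).subschemeι (pullback.fst X.hom (ρ R)) h1.le)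
  have he : e.hom ≫ (Models.specialFibreIdeal R X).subschemeι = pullback.fst X.hom (ρ R) :=
    IsClosedImmersion.lift_fac _ _ _
  have hF' : IsField Γ(pullback X.hom (ρ R), ⊤) :=
    MulEquiv.isField hκ (Scheme.Γ.mapIso e.op).commRingCatIsoToRingEquiv.symm.toMulEquiv
  have h2 := surjective_appTop hF'
  rw [← he] at h2
  intro y
  obtain ⟨x, hx⟩ := h2 (e.hom.appTop.hom y)
  refine ⟨x, ?_⟩
  have hinj : Function.Injective e.hom.appTop.hom :=
    (Scheme.Γ.mapIso e.op).commRingCatIsoToRingEquiv.injective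
  apply hinj
  rw [← hx, Scheme.Hom.comp_appTop]
  rfl

/-- The same on `H^0`. -/
theorem surjective_H0 [PerfectField (ResidueField R)] [IsProper X.hom]
    (hκ : IsField Γ((Models.specialFibreIdeal R X).subscheme, ⊤)) :
    Function.Surjective (Sheaf.H.map ((SheafOfModules.toSheaf X.left.ringCatSheaf).map
      (ClSub.toSubscheme (Models.specialFibreIdeal R X))) 0) := by
  intro y
  obtain ⟨x, hx⟩ := surjective_subschemeι hκ (CurvesB.HZero.equivAdd _ y)
  refine ⟨(CurvesB.HZero.equivAdd _).symm x, ?_⟩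
  apply (CurvesB.HZero.equivAdd _).injective
  refine (CurvesB.HZero.equivAdd_map _ _).trans ?_
  rw [(CurvesB.HZero.equivAdd _).apply_symm_apply]
  exact hx

end K481.CohFlatPerf
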