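import Groth.Agent.Models.H71.Comps

/-!
# Lists of vertical prime divisors covering the closed fibre
-/

set_option autoImplicit false
universe u

open CategoryTheory CategoryTheory.Limits AlgebraicGeometry

namespace K481.CompList

open Groth.Agent.Dix.VertGeom Groth.Agent.Models.H71.Comps

variable {R : Type u} [CommRing R] [IsDomain R] [IsDiscreteValuationRing R]
  {X : Over (Spec (CommRingCat.of R))}

/-- Two vertical prime divisors, one contained in the other, are equal as sets. -/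
lemma rg_eq_of_subset {Γ Γ' : ArSurf.VertComp R X} (h : rg Γ ⊆ rg Γ') : rg Γ = rg Γ' := by
  have h0 : Γ.ι (genericPoint Γ.curve.left) ∈ Γ'.ι.ker.support := by
    rw [mem_support_ker_iff]
    exact h ⟨_, rfl⟩
  have h1 : Γ.ι.ker = Γ'.ι.ker := ker_eq_of_mem Γ.ι Γ'.ι Γ.dim_eq Γ'.dim_eq h0
  ext x
  have h2 := mem_support_ker_iff Γ.ι x
  have h3 := mem_support_ker_iff Γ'.ι x
  rw [h1] at h2
  exact h2.symm.trans h3

/-- An irreducible subset covered by finitely many vertical prime divisors lies in one of them. -/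
lemma exists_subset_rg {r : ℕ} (Γ : Fin r → ArSurf.VertComp R X) {S : Set X.left}
    (hS : IsIrreducible S) (hcov : ∀ x ∈ S, ∃ i, x ∈ rg (Γ i)) : ∃ i, S ⊆ rg (Γ i) := by
  classical
  have h1 := (isIrreducible_iff_sUnion_isClosed.1 hS) (Finset.univ.image fun i => rg (Γ i))
    (by
      intro Z hZ
      obtain ⟨i, -, rfl⟩ := Finset.mem_image.1 hZ
      exact isClosed_rg (Γ i))
    (by
      intro x hx
      obtain ⟨i, hi⟩ := hcov x hx
      exact ⟨_, Finset.mem_coe.2 (Finset.mem_image_of_mem _ (Finset.mem_univ i)), hi⟩)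
  obtain ⟨Z, hZ, hSZ⟩ := h1
  obtain ⟨i, -, rfl⟩ := Finset.mem_image.1 hZ
  exact ⟨i, hSZ⟩

theorem isComponentList {r : ℕ} (Γ : Fin r → ArSurf.VertComp R X)
    (hdist : Function.Injective fun i => Set.range ((Γ i).ι.base : (Γ i).curve.left → X.left))
    (hcov : ∀ x : ↥X.left, X.hom.base x = IsLocalRing.closedPoint R →
      ∃ i, x ∈ Set.range ((Γ i).ι.base : (Γ i).curve.left → X.left)) :
    Models.IsComponentList R X Γ := by
  refine ⟨hdist, ?_⟩
  ext Z
  constructor
  · rintro ⟨i, rfl⟩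
    refine ⟨⟨isIrreducible_rg (Γ i), rg_subset (Γ i)⟩, ?_⟩
    rintro S ⟨hS, hSX⟩ hle
    obtain ⟨j, hj⟩ := exists_subset_rg Γ hS (fun x hx => hcov x (hSX hx))
    have h1 : rg (Γ i) ⊆ rg (Γ j) := hle.trans hj
    change S ⊆ rg (Γ i)
    rw [rg_eq_of_subset h1]
    exact hj
  · intro hZ
    obtain ⟨⟨hZi, hZX⟩, hmax⟩ := hZ
    obtain ⟨j, hj⟩ := exists_subset_rg Γ hZi (fun x hx => hcov x (hZX hx))
    exact ⟨j, (subset_antisymm hj (hmax ⟨isIrreducible_rg (Γ j), rg_subset (Γ j)⟩ hj)).symm⟩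

end K481.CompList
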