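import Groth.Agent.Ega4B.ElimMain

/-!
# Elimination of indeterminacy for a rational map given on a nonempty open subscheme
-/

set_option autoImplicit false

universe u

open CategoryTheory CategoryTheory.Limits AlgebraicGeometry IsLocalRing
open Groth.Agent.Ega4B.ElimAlg Groth.Agent.Ega4B.ElimPt Groth.Agent.Ega4B.RegChain Groth.Agent.Ega4B.ElimChain
open Groth.Agent.Dix.FlatMonoStalk Groth.Agent.Dix.ExcPts Groth.Agent.Dix.Center Groth.Agent.Dix.MinusCurve
open Groth.Agent.Dix.GenFibre Groth.Agent Groth.Agent.Ega4B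

namespace K481.ElimOpen

variable {R : Type u} [CommRing R] [IsDomain R]

lemma genericPoint_mem {X : Scheme.{u}} [IrreducibleSpace X] (U : X.Opens) (hU : (U : Set X).Nonempty) :
    genericPoint X ∈ U := by
  obtain ⟨x, hx⟩ := hU
  exact (genericPoint_specializes x).mem_open U.2 hx

/-- The point of the function field is dense in every nonempty open subscheme. -/
theorem isDominant_fromSpecStalkOfMem {X : Scheme.{u}} [IsIntegral X] (U : X.Opens) (h : genericPoint X ∈ U) :
    IsDominant (U.fromSpecStalkOfMem (genericPoint X) h) := by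
  refine ⟨fun z => ?_⟩
  have h1 : U.ι (U.fromSpecStalkOfMem (genericPoint X) h (closedPoint _)) = genericPoint X := by
    rw [← Scheme.Hom.comp_apply, Scheme.Opens.fromSpecStalkOfMem_ι, Scheme.fromSpecStalk_closedPoint]
  have h2 : U.fromSpecStalkOfMem (genericPoint X) h (closedPoint _) ⤳ z := by
    rw [← U.ι.isOpenEmbedding.isInducing.specializes_iff, h1]
    exact Dix.Center.genericPoint_specializes X _
  exact h2.mem_closed isClosed_closure (subset_closure ⟨_, rfl⟩)

omit [IsDomain R] in
/-- **Elimination of indeterminacy.** -/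
theorem exists_elim_open [IsDedekindDomain R] {X₁ X₂ : Over (Spec (CommRingCat.of R))} (hX₁ : IsRegSurf R X₁)
    (hX₂ : Neron.IsProjectiveOver R X₂) (U : X₁.left.Opens) (hU : (U : Set X₁.left).Nonempty)
    (φ : (U : Scheme.{u}) ⟶ X₂.left) (hφ : φ ≫ X₂.hom = U.ι ≫ X₁.hom) :
    ∃ (Z : Over (Spec (CommRingCat.of R))) (r : Z ⟶ X₁) (n : ℕ) (g : Z ⟶ X₂), RChain r n ∧
      (r.left ⁻¹ᵁ U).ι ≫ g.left = (r.left ∣_ U) ≫ φ := by
  have hX₁i := hX₁.isIntegral
  have hX₁f := hX₁.flat
  have hX₂p := isProper_of_isProjectiveOver hX₂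
  -- the marking of `X₁`
  have hηU : genericPoint X₁.left ∈ U := genericPoint_mem U hU
  have hξ₁ := marked_functionField X₁.left
  -- the rational map on the function field
  let s₁ : Spec (CommRingCat.of X₁.left.functionField) ⟶ (U : Scheme.{u}) :=
    U.fromSpecStalkOfMem (genericPoint X₁.left) hηU
  have hs₁ : s₁ ≫ U.ι = X₁.left.fromSpecStalk (genericPoint X₁.left) :=
    Scheme.Opens.fromSpecStalkOfMem_ι _ _ _
  let p : Spec (CommRingCat.of X₁.left.functionField) ⟶ X₂.left := s₁ ≫ φ
  have hp : p ≫ X₂.hom = X₁.left.fromSpecStalk (genericPoint X₁.left) ≫ X₁.hom := by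
    rw [← hs₁, Category.assoc, Category.assoc, hφ]
  obtain ⟨S, hS, hS'⟩ := ProjLift.exists_finite_projective hX₂ p
  obtain ⟨Z, r, n, ξ', hr, h1, h2, h3⟩ := exists_elim_finite S hS X₁ hX₁ _ hξ₁
  have hZ := hr.source hX₁
  have hZi := hZ.isIntegral
  have hZf := hZ.flat
  -- the local rings of `Z`
  obtain ⟨ι, hι, hιinj, hιfrac⟩ := h2.out (genericPoint Z.left)
  have hιbij : Function.Bijective ι := by
    refine ⟨hιinj, fun k => ?_⟩
    obtain ⟨a, b, hb, hk⟩ := hιfrac k
    let _ : Field (Z.left.presheaf.stalk (genericPoint Z.left)) :=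
      inferInstanceAs (Field Z.left.functionField)
    refine ⟨a / b, ?_⟩
    rw [map_div₀, ← hk]
    have hb' : ι b ≠ 0 := fun h => hb (hιinj (by rw [h, map_zero]))
    field_simp
  have hιiso' : IsIso (CommRingCat.ofHom ι) := by
    rw [ConcreteCategory.isIso_iff_bijective]
    exact hιbij
  have hιiso : IsIso (Spec.map (CommRingCat.ofHom ι)) := inferInstance
  -- `e : Spec K ⟶ Spec K(Z)` and its inverse
  obtain ⟨e, he⟩ : ∃ e : Spec (CommRingCat.of X₁.left.functionField) ⟶ Spec Z.left.functionField,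
    e = Spec.map (CommRingCat.ofHom ι) := ⟨_, rfl⟩
  have heiso : IsIso e := by
    rw [he]
    exact hιiso
  let ξZ : Spec Z.left.functionField ⟶ X₂.left := inv e ≫ p
  have hξZ : e ≫ ξZ = p := IsIso.hom_inv_id_assoc _ _
  have hb : ξ' ≫ Z.hom = p ≫ X₂.hom := by
    rw [hp, ← h1, Category.assoc, Over.w]
  obtain ⟨f, hf1, hf2⟩ := Dix.EllScheme.exists_hom_of_stalks Z.hom X₂.hom ξZ (fun z => by
    obtain ⟨ιz, hιz, hιzinj, -⟩ := h2.out z
    have hreg := hZ.regular z
    have hdom : IsDomain (Z.left.presheaf.stalk z) := inferInstance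
    obtain ⟨q, hq1, hq2⟩ := hS' (Z.left.presheaf.stalk z) ιz hιzinj
      (fun h hh => (goodAt_iff hιz).1 (h3 h hh z)) (Z.left.fromSpecStalk z ≫ Z.hom) (by
        rw [← hb, ← Category.assoc]
        exact congrArg (fun t => t ≫ Z.hom) hιz)
    refine ⟨q, hq2, ?_⟩
    rw [← cancel_epi e, hξZ, ← hq1, he]
    have h4 : Spec.map (CommRingCat.ofHom ι) ≫
        Spec.map (Z.left.presheaf.stalkSpecializes (genericPoint_specializes z)) =
        Spec.map (CommRingCat.ofHom ιz) := by
      rw [← Spec.map_comp]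
      congr 1
      exact congrArg CommRingCat.ofHom
        ((hι.specializes (Dix.Center.genericPoint_specializes Z.left z)).unique hιz)
    rw [← h4, Category.assoc])
  let g : Z ⟶ X₂ := Over.homMk f hf1
  refine ⟨Z, r, n, g, hr, ?_⟩
  -- the point of the function field of `Z` in `r⁻¹ U`
  have h5 : e ≫ Z.left.fromSpecStalk (genericPoint Z.left) ≫ r.left =
      X₁.left.fromSpecStalk (genericPoint X₁.left) := by
    rw [← h1, ← Category.assoc, he]
    exact congrArg (fun t => t ≫ r.left) hι
  have hηZ : genericPoint Z.left ∈ r.left ⁻¹ᵁ U := by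
    change r.left (genericPoint Z.left) ∈ U
    have h6 : r.left (genericPoint Z.left) = genericPoint X₁.left := by
      have h7 := congrArg (fun t : Spec (CommRingCat.of X₁.left.functionField) ⟶ X₁.left =>
        t (closedPoint _)) h5
      have h8 : (X₁.left.fromSpecStalk (genericPoint X₁.left)) (closedPoint _) = genericPoint X₁.left :=
        Scheme.fromSpecStalk_closedPoint
      rw [← h8, ← h5, Scheme.Hom.comp_apply, Scheme.Hom.comp_apply]
      congr 1
      have h9 : e (closedPoint _) = (closedPoint _ : Spec Z.left.functionField) :=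
        Subsingleton.elim (α := PrimeSpectrum Z.left.functionField) _ _
      rw [h9]
      exact Scheme.fromSpecStalk_closedPoint.symm
    rw [h6]
    exact hηU
  let sZ := (r.left ⁻¹ᵁ U).fromSpecStalkOfMem (genericPoint Z.left) hηZ
  have hsZ : sZ ≫ (r.left ⁻¹ᵁ U).ι = Z.left.fromSpecStalk (genericPoint Z.left) :=
    Scheme.Opens.fromSpecStalkOfMem_ι _ _ _
  have hdom : IsDominant sZ := isDominant_fromSpecStalkOfMem _ _
  have hcomp : sZ ≫ (r.left ∣_ U) = inv e ≫ s₁ := by
    rw [← cancel_mono U.ι, Category.assoc, morphismRestrict_ι, ← Category.assoc, hsZ, Category.assoc, hs₁,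
      IsIso.eq_inv_comp, h5]
  refine ext_of_isDominant_of_isSeparated X₂.hom ?_ sZ ?_
  · rw [Category.assoc, Category.assoc, hφ, ← Category.assoc (r.left ∣_ U), morphismRestrict_ι, Category.assoc,
      Over.w, Over.w]
  · rw [← Category.assoc, hsZ, ← Category.assoc, hcomp, Category.assoc]
    exact hf2

end K481.ElimOpen
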