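import Groth.Agent.ArSurf.K482.PicMain
import Groth.Agent.ArSurf.K482.CanonTool
import Groth.Agent.Surf.K461.SerreDual
import Groth.Agent.Surf.K455.RelDim
import Groth.Agent.Fga.EulerIso
import Groth.Agent.ASBun.K791.Tens

/-!
# The sheaf of differentials of a smooth proper curve with `h⁰(O) = 1`, `χ(O) = 0` is trivial
-/

set_option autoImplicit false
universe u

open CategoryTheory CategoryTheory.Limits AlgebraicGeometry Opposite TopologicalSpace

namespace K481.GenusOne

open Groth.Agent

variable {k : Type u} [Field k] {Y : Scheme.{u}} [Y.Over (Spec (CommRingCat.of k))]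

/-- A smooth integral curve over a field is smooth of relative dimension one. -/
theorem smoothOfRelativeDimension [IsIntegral Y] [IsNoetherian Y] [Smooth (Y ↘ (Spec (CommRingCat.of k)))]
    (hdim : topologicalKrullDim Y = 1) : SmoothOfRelativeDimension 1 (Y ↘ (Spec (CommRingCat.of k))) := by
  refine K455.RelDim.smoothOfRelativeDimension k (Y ↘ (Spec (CommRingCat.of k))) 1 fun Z hZ => ?_
  rw [irreducibleComponents_eq_singleton, Set.mem_singleton_iff] at hZ
  subst hZ
  rw [(Homeomorph.Set.univ Y).isHomeomorph.topologicalKrullDim_eq, hdim]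
  rfl

theorem main [IsIntegral Y] [IsProper (Y ↘ (Spec (CommRingCat.of k)))]
    [Smooth (Y ↘ (Spec (CommRingCat.of k)))] (hdim : topologicalKrullDim Y = 1)
    (h0 : Module.finrank k (Coh.HH Y (Coh.structureModule Y) 0) = 1)
    (hχ : FGA.eulerCharLE k Y (Coh.structureModule Y) 1 = 0) {W : Y.Modules}
    (hW : ExtPow.IsExtPow 1 (Omega.sheaf (Y ↘ (Spec (CommRingCat.of k)))) W) :
    Nonempty (W ≅ Coh.structureModule Y) := by
  have hN : IsLocallyNoetherian Y := LocallyOfFiniteType.isLocallyNoetherian (Y ↘ (Spec (CommRingCat.of k)))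
  have hc : CompactSpace Y := QuasiCompact.compactSpace_of_compactSpace (Y ↘ (Spec (CommRingCat.of k)))
  have hNoeth : IsNoetherian Y := { }
  have hsm := smoothOfRelativeDimension (k := k) hdim
  have hΩ := Dual.H339.OmegaRank.isFinLocFreeOfRank_omega 1 (Y ↘ (Spec (CommRingCat.of k)))
  have hWi : PicF.IsInvertible W := K482.CanonTool.isInvertible_extPow hΩ hW
  have hOq : Coh.IsQCoh (Coh.structureModule Y) := (Fdesc.StructMod.isCoh_structureModule Y).1
  have e : Nonempty (CohB1.tensorMod (Coh.structureModule Y) (Coh.structureModule Y) ≅ Coh.structureModule Y) :=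
    ⟨ASBun.K791.Tens.tensRUnit _⟩
  have e' : CohB1.tensorMod W (Coh.structureModule Y) ≅ W := ASBun.K791.Tens.tensRUnit _
  have h1 := K461.SerreDual.finrank_eq k 1 hW e hOq 0 1 rfl
  have h2 := K461.SerreDual.finrank_eq k 1 hW e hOq 1 0 rfl
  have h3 := hχ
  rw [K482.CurveVan.eulerCharLE_one, h0] at h3
  have h4 : FGA.eulerCharLE k Y W 1 = 0 := by
    rw [← Fga.EulerIso.eulerCharLE_congr k e' 1, K482.CurveVan.eulerCharLE_one, ← h1, ← h2, h0]
    omega
  have h5 : ArSurf.curveDeg k Y W = 0 := by
    unfold ArSurf.curveDeg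
    rw [h4, hχ, sub_zero]
  have h6 : 0 < Module.finrank k (Coh.HH Y W 0) := by
    rw [K482.CurveVan.eulerCharLE_one] at h4
    have h8 : Module.finrank k (Coh.HH Y W 1) = 1 := by
      rw [← (Fga.EulerIso.HHequiv k e' 1).finrank_eq, ← h2, h0]
    omega
  have h7 : Nontrivial (Coh.HH Y W 0) := Module.nontrivial_of_finrank_pos h6
  obtain ⟨s, hs⟩ : ∃ s : Coh.structureModule Y ⟶ W, s ≠ 0 := by
    by_contra hcon
    push Not at hcon
    have h3 : Subsingleton Γ(W, ⊤) := by
      refine subsingleton_of_forall_eq 0 fun m => ?_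
      have h4 := hcon (Fdesc.LocGen.homOf m)
      have h5 := Fdesc.LocGen.sec_homOf m ⊤
      rw [h4, Fdesc.LocGen.res_refl] at h5
      exact h5.symm
    have h6 : Subsingleton (Coh.HH Y W 0) := (CurvesB.HZero.equivAdd W).toEquiv.subsingleton
    exact not_subsingleton _ h6
  have := K482.PicMain.isIso_of_deg_zero hdim hWi h5 s hs
  exact ⟨(asIso s).symm⟩

end K481.GenusOne
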