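import Groth.Agent.ArSurf.K481.VertTriv
import Groth.Agent.ArSurf.K481.GenusOne
import Groth.Agent.ArSurf.K479.GenDim
import Groth.Agent.ArSurf.K480.NegDef
import Groth.Agent.ArSurf.K482.CanonVia
import Groth.Agent.Canon.K107.RegFlat
import Groth.Agent.Models.K380.Slope
import Groth.Agent.Curves.K314.H0One
import Groth.Agent.Dix.GenFibre
import Groth.Agent.Sga3.H780.RigidProper
import Groth.Agent.S13307
import Groth.Agent.S7920

/-!
# Canonical sheaves of elliptic arithmetic surfaces
-/

set_option autoImplicit false
universe u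

open CategoryTheory CategoryTheory.Limits AlgebraicGeometry Opposite TopologicalSpace

namespace K481.EllTriv

open Groth.Agent Groth.Agent.Dix.GenFibre

variable {R : Type u} [CommRing R] [IsDomain R] [IsDiscreteValuationRing R]

/-- The canonical sheaf is trivial on the generic fibre if this is a smooth geometrically irreducible curve of
genus one. -/
theorem trivial_generic (X : Over (Spec (CommRingCat.of R))) (hX : ArSurf.IsArithSurface R X)
    [Smooth ((Neron.genericFibre R).obj X).hom] [GeometricallyIrreducible ((Neron.genericFibre R).obj X).hom]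
    (hg : FGA.eulerCharLE (FractionRing R) ((Neron.genericFibre R).obj X).left
      (Coh.structureModule ((Neron.genericFibre R).obj X).left) 1 = 0)
    (ω : X.left.Modules) (hω : Canon.IsCanonical X.hom ω) :
    Nonempty ((Scheme.Modules.pullback (genι X)).obj ω ≅ Coh.structureModule ((Neron.genericFibre R).obj X).left) := by
  have hp : IsProper X.hom := Dix.InterSurf.isProper_hom hX
  have hint : IsIntegral X.left := hX.2.1
  have hdim := hX.2.2.1
  have hflat : Flat X.hom := hX.2.2.2.1
  have hint' := K479.GenDim.isIntegral_genericFibre X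
  have hdim' := K479.GenDim.topologicalKrullDim_genericFibre X hdim
  have hpK : IsProper ((Neron.genericFibre R).obj X).hom :=
    MorphismProperty.of_isPullback (isPullback_genι X) hp
  have hpK' : IsProper (((Neron.genericFibre R).obj X).left ↘ Spec (CommRingCat.of (FractionRing R))) := hpK
  have hsmK' : Smooth (((Neron.genericFibre R).obj X).left ↘ Spec (CommRingCat.of (FractionRing R))) :=
    (inferInstance : Smooth ((Neron.genericFibre R).obj X).hom)
  have hgi' : GeometricallyIrreducible (((Neron.genericFibre R).obj X).left ↘ Spec (CommRingCat.of (FractionRing R))) :=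
    (inferInstance : GeometricallyIrreducible ((Neron.genericFibre R).obj X).hom)
  have h0 := K314.H0One.finrank_eq_one_of_smooth (FractionRing R) ((Neron.genericFibre R).obj X).left
  have hN : IsLocallyNoetherian ((Neron.genericFibre R).obj X).left :=
    LocallyOfFiniteType.isLocallyNoetherian ((Neron.genericFibre R).obj X).hom
  have hc : CompactSpace ((Neron.genericFibre R).obj X).left :=
    QuasiCompact.compactSpace_of_compactSpace ((Neron.genericFibre R).obj X).hom
  have hNoeth : IsNoetherian ((Neron.genericFibre R).obj X).left := { }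
  have hsm1 : SmoothOfRelativeDimension 1 ((Neron.genericFibre R).obj X).hom :=
    GenusOne.smoothOfRelativeDimension (k := FractionRing R) hdim'
  have hΩ := Dual.H339.OmegaRank.isFinLocFreeOfRank_omega 1 ((Neron.genericFibre R).obj X).hom
  obtain ⟨W, hW⟩ := K482.CanonTool.exists_isExtPow 1 (Krr.H495.Rank.isFinLocFree_of_rank hΩ)
  have hvia : Canon.IsCanonicalVia (𝟙 ((Neron.genericFibre R).obj X).left) ((Neron.genericFibre R).obj X).hom 0 1 W :=
    ⟨_, W, Sga67.TensorOps.isExtPow_zero _, hW,
      ⟨ASBun.K791.Tens.tensRUnit W ≪≫ ((Scheme.Modules.pullbackId _).app W).symm⟩⟩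
  have hcan : Canon.IsCanonical ((Neron.genericFibre R).obj X).hom W :=
    ⟨_, _, _, 0, 1, Category.id_comp _, K107.RegFlat.regImm_id _, hsm1, inferInstance, inferInstance, hvia⟩
  obtain ⟨m, j, hj, hjw⟩ := hX.2.2.2.2
  obtain ⟨e1⟩ := S13307.result X.left (Spec (CommRingCat.of R)) (Spec (CommRingCat.of (FractionRing R))) X.hom
    (Neron.genPt R) ⟨m, j, inferInstance, hjw⟩ (Or.inl hflat) ω hω W hcan
  obtain ⟨e2⟩ := GenusOne.main (k := FractionRing R) (Y := ((Neron.genericFibre R).obj X).left) hdim' h0 hg hW
  exact ⟨e1.symm ≪≫ e2⟩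

theorem main (X : Over (Spec (CommRingCat.of R))) (hX : ArSurf.IsArithSurface R X)
    [Smooth ((Neron.genericFibre R).obj X).hom] [GeometricallyIrreducible ((Neron.genericFibre R).obj X).hom]
    (hg : FGA.eulerCharLE (FractionRing R) ((Neron.genericFibre R).obj X).left
      (Coh.structureModule ((Neron.genericFibre R).obj X).left) 1 = 0)
    (σ : Spec (CommRingCat.of R) ⟶ X.left) (hσ : σ ≫ X.hom = 𝟙 _)
    (ω : X.left.Modules) (hω : Canon.IsCanonical X.hom ω)
    (hnef : ∀ C : ArSurf.VertComp R X, 0 ≤ ArSurf.inter R X ω C)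
    (hsum : ∀ {n : ℕ} (Γ : Fin n → ArSurf.VertComp R X), Models.IsComponentList R X Γ →
      ∑ i, (Models.mult R X (Γ i) : ℤ) * ArSurf.inter R X ω (Γ i) = 0) :
    Nonempty (ω ≅ Coh.structureModule X.left) := by
  have hp : IsProper X.hom := Dix.InterSurf.isProper_hom hX
  have hint : IsIntegral X.left := hX.2.1
  have hdim := hX.2.2.1
  have hflat : Flat X.hom := hX.2.2.2.1
  obtain ⟨n, Γ, hΓ⟩ := K480.NegDef.exists_componentList hint hdim hflat hp
  have hdeg : ∀ i, ArSurf.inter R X ω (Γ i) = 0 := by
    intro i
    have h1 := (Finset.sum_eq_zero_iff_of_nonneg (fun i _ => mul_nonneg (Int.natCast_nonneg _) (hnef (Γ i)))).1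
      (hsum Γ hΓ) i (Finset.mem_univ i)
    have h2 := Models.H36.FibreFact.mult_pos (R := R) hX.1 hΓ i
    rcases mul_eq_zero.1 h1 with h3 | h3
    · omega
    · exact h3
  have hpK : IsProper ((Neron.genericFibre R).obj X).hom :=
    MorphismProperty.of_isPullback (isPullback_genι X) hp
  have hgint : GeometricallyIntegral ((Neron.genericFibre R).obj X).hom :=
    Flat2B.SmoothGeom.geometricallyIntegral_of_smooth _
  have hH0 : IsIso ((Neron.genericFibre R).obj X).hom.appTop := Sga3.H780.RigidProper.isIso_appTop_hom _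
  have hconn : _root_.IsConnected (Models.specialFibreSet R X) :=
    K380.Slope.isConnected_specialFibreSet (isPullback_genι X) hH0
  obtain ⟨-, -, ⟨i₀, hi₀, -⟩, hmult⟩ := S7920.result R X hX Γ hΓ σ hσ
  exact VertTriv.main hX hconn hΓ (K482.CanonVia.isInvertible_canonical hω) (isPullback_genι X)
    (trivial_generic X hX hg ω hω) hdeg i₀ (hmult i₀ hi₀)

end K481.EllTriv
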