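import Groth.Agent.ModelsG.H46.ChainMain
import Groth.Agent.ModelsG.H46.InterProd
import Groth.Agent.Models.H65.InterForm
import Groth.Agent.Models.H71.Comps
import Groth.Agent.Dix.VertForm

/-!
# Fundamental divisors

Computation sequences for the fundamental divisor of a connected family of vertical prime divisors.
-/

set_option autoImplicit false
universe u

open CategoryTheory CategoryTheory.Limits AlgebraicGeometry Opposite TopologicalSpace

namespace K481.FundDiv

open Groth.Agent Groth.Agent.Dix.IdealModCartier Groth.Agent.Dix.InterNum Groth.Agent.Dix.VertGeom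
open Groth.Agent.Dix.InterSurf Groth.Agent.ModelsG.H46 Groth.Agent.Dix.IdealQuot Groth.Agent.Dix.VertForm

variable {R : Type u} [CommRing R] [IsDomain R] [IsDiscreteValuationRing R]
variable {X : Over (Spec (CommRingCat.of R))}

/-- The generic point of a vertical prime divisor does not lie on another one. -/
theorem gp_notMem (hX : ArSurf.IsArithSurface R X) (Γ Γ' : ArSurf.VertComp R X)
    (hne : Set.range (Γ.ι.base : Γ.curve.left → X.left) ≠ Set.range (Γ'.ι.base : Γ'.curve.left → X.left)) :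
    gp Γ ∉ Γ'.ι.ker.support := by
  have hp : IsProper X.hom := isProper_hom hX
  intro h
  apply hne
  have h1 := ker_eq_of_gp_mem Γ Γ' h
  ext x
  have h2 := mem_support_ker_iff Γ.ι x
  have h3 := mem_support_ker_iff Γ'.ι x
  rw [h1] at h2
  exact h2.symm.trans h3

/-- Two different vertical prime divisors have nonnegative intersection number, positive if they meet. -/
theorem inter_nonneg (hX : ArSurf.IsArithSurface R X) (Γ Γ' : ArSurf.VertComp R X)
    (hne : Set.range (Γ.ι.base : Γ.curve.left → X.left) ≠ Set.range (Γ'.ι.base : Γ'.curve.left → X.left))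
    {L : X.left.Modules} (hL : ClSub.IsInverseOf L (ClSub.idealMod Γ'.ι.ker)) :
    0 ≤ ArSurf.inter R X L Γ ∧ (ArSurf.inter R X L Γ = 0 → Disjoint (Set.range (Γ.ι.base : Γ.curve.left → X.left))
      (Set.range (Γ'.ι.base : Γ'.curve.left → X.left))) := by
  have hp : IsProper X.hom := isProper_hom hX
  have hfl : Flat X.hom := hX.2.2.2.1
  have e1 := isEffCartierIdeal_of_isInverseOf hL
  have h1 : ArSurf.inter R X L Γ = (hz Γ Γ'.ι.ker : ℤ) := by
    rw [inter_inverse hX hL Γ]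
    change - dd Γ _ = _
    rw [dd_eq hX Γ e1 (gp_notMem hX Γ Γ' hne), neg_neg]
  rw [h1]
  refine ⟨Int.natCast_nonneg _, fun h => ?_⟩
  rw [Nat.cast_eq_zero] at h
  have h2 := (Groth.Agent.Models.H65.InterForm.hz_eq_zero_iff Γ Γ'.ι.ker).1 h
  rw [Set.disjoint_left] at h2 ⊢
  intro x hx hx'
  exact h2 hx ((mem_support_ker_iff Γ'.ι x).2 hx')

variable {r : ℕ} {Γ : Fin r → ArSurf.VertComp R X}

/-- Partitions of a connected union of vertical prime divisors have a meeting pair. -/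
theorem exists_meet
    (hconn : _root_.IsConnected (⋃ i, Set.range ((Γ i).ι.base : (Γ i).curve.left → X.left)))
    (I : Finset (Fin r)) (hI : I.Nonempty) (hI' : I ≠ Finset.univ) :
    ∃ i ∈ I, ∃ j ∉ I, (Set.range ((Γ i).ι.base : (Γ i).curve.left → X.left) ∩
      Set.range ((Γ j).ι.base : (Γ j).curve.left → X.left)).Nonempty := by
  classical
  by_contra hcon
  push Not at hcon
  obtain ⟨i₀, hi₀⟩ := hI
  obtain ⟨j₀, hj₀⟩ : ∃ j, j ∉ I := by
    by_contra h
    push Not at h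
    exact hI' (Finset.eq_univ_iff_forall.2 h)
  let rg : Fin r → Set X.left := fun i => Set.range ((Γ i).ι.base : (Γ i).curve.left → X.left)
  have hcl : ∀ i, IsClosed (rg i) := fun i => (Γ i).ι.isClosedEmbedding.isClosed_range
  have hgm : ∀ i, gp (Γ i) ∈ rg i := fun i => ⟨_, rfl⟩
  let A : Set X.left := ⋃ i ∈ I, rg i
  let B : Set X.left := ⋃ j ∈ Iᶜ, rg j
  have hA : IsClosed A := isClosed_biUnion_finset fun i _ => hcl i
  have hB : IsClosed B := isClosed_biUnion_finset fun i _ => hcl i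
  have hAB : (⋃ i, rg i) ⊆ A ∪ B := by
    intro x hx
    obtain ⟨i, hi⟩ := Set.mem_iUnion.1 hx
    by_cases h : i ∈ I
    · exact Or.inl (Set.mem_biUnion (Finset.mem_coe.2 h) hi)
    · exact Or.inr (Set.mem_biUnion (Finset.mem_coe.2 (Finset.mem_compl.2 h)) hi)
  have h1 := isPreconnected_closed_iff.1 hconn.isPreconnected A B hA hB hAB
    ⟨gp (Γ i₀), Set.mem_iUnion.2 ⟨i₀, hgm i₀⟩, Set.mem_biUnion (Finset.mem_coe.2 hi₀) (hgm i₀)⟩
    ⟨gp (Γ j₀), Set.mem_iUnion.2 ⟨j₀, hgm j₀⟩, Set.mem_biUnion (Finset.mem_coe.2 (Finset.mem_compl.2 hj₀)) (hgm j₀)⟩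
  obtain ⟨x, -, hxA, hxB⟩ := h1
  obtain ⟨i, hi, hxi⟩ := Set.mem_iUnion₂.1 hxA
  obtain ⟨j, hj, hxj⟩ := Set.mem_iUnion₂.1 hxB
  have h2 := hcon i hi j (Finset.mem_compl.1 hj)
  exact (Set.mem_empty_iff_false x).1 (h2 ▸ ⟨hxi, hxj⟩)

/-- The step of a computation sequence (pure arithmetic). -/
theorem exists_step {r : ℕ} (A : Fin r → Fin r → ℤ) (hoff : ∀ i j, i ≠ j → 0 ≤ A i j)
    (hconn : ∀ I : Finset (Fin r), I.Nonempty → I ≠ Finset.univ → ∃ i ∈ I, ∃ j ∉ I, A i j ≠ 0)
    (z : Fin r → ℕ) (hz : ∀ i, ∑ j, (z j : ℤ) * A j i ≤ 0)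
    (hmin : ∀ z' : Fin r → ℕ, (∀ i, 1 ≤ z' i) → (∀ i, ∑ j, (z' j : ℤ) * A j i ≤ 0) → ∀ i, z i ≤ z' i)
    (b : Fin r → ℕ) (hb : b ≤ z) (hne : b ≠ z) {i₀ : Fin r} (hi₀ : 1 ≤ b i₀) :
    ∃ i, b i < z i ∧ 0 < ∑ j, (b j : ℤ) * A j i := by
  classical
  by_contra hcon
  push Not at hcon
  have hle : ∀ i, ∑ j, (b j : ℤ) * A j i ≤ 0 := by
    intro i
    by_cases h : b i < z i
    · exact hcon i h
    · have hbi : b i = z i := le_antisymm (hb i) (not_lt.1 h)
      refine le_trans (Finset.sum_le_sum fun j _ => ?_) (hz i)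
      by_cases hji : j = i
      · subst hji
        rw [hbi]
      · have h1 := hoff j i hji
        have h2 : (b j : ℤ) ≤ z j := by exact_mod_cast hb j
        exact mul_le_mul_of_nonneg_right h2 h1
  have hsupp : ∀ i, 1 ≤ b i := by
    by_contra h
    push Not at h
    obtain ⟨i₁, hi₁⟩ := h
    obtain ⟨i, hi, j, hj, hij⟩ := hconn (Finset.univ.filter fun i => 1 ≤ b i) ⟨i₀, by simp [hi₀]⟩ (by
      intro h
      have h2 : i₁ ∈ Finset.univ.filter fun i => 1 ≤ b i := by rw [h]; exact Finset.mem_univ _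
      simp only [Finset.mem_filter, Finset.mem_univ, true_and] at h2
      omega)
    simp only [Finset.mem_filter, Finset.mem_univ, true_and, not_le] at hi hj
    have hbj : b j = 0 := by omega
    have hne' : i ≠ j := by rintro rfl; omega
    have h3 : 0 < ∑ k, (b k : ℤ) * A k j := by
      have h4 : 0 < (b i : ℤ) * A i j :=
        mul_pos (by exact_mod_cast hi) (lt_of_le_of_ne (hoff i j hne') (Ne.symm hij))
      refine lt_of_lt_of_le h4 (Finset.single_le_sum (f := fun k => (b k : ℤ) * A k j) (fun k _ => ?_)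
        (Finset.mem_univ i))
      by_cases hkj : k = j
      · subst hkj
        simp [hbj]
      · exact mul_nonneg (Int.natCast_nonneg _) (hoff k j hkj)
    exact absurd (hle j) (not_le.2 h3)
  apply hne
  funext i
  exact le_antisymm (hb i) (hmin b hsupp hle i)

/-- Functions on the fundamental divisor form a field. -/
theorem isField_fundamental (hX : ArSurf.IsArithSurface R X)
    (hΓ : Function.Injective fun i => Set.range ((Γ i).ι.base : (Γ i).curve.left → X.left))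
    (hconn : _root_.IsConnected (⋃ i, Set.range ((Γ i).ι.base : (Γ i).curve.left → X.left)))
    (L : Fin r → X.left.Modules) (hL : ∀ j, ClSub.IsInverseOf (L j) (ClSub.idealMod (Γ j).ι.ker))
    (z : Fin r → ℕ) (hz1 : ∀ i, 1 ≤ z i)
    (hz : ∀ i, ∑ j, (z j : ℤ) * ArSurf.inter R X (L j) (Γ i) ≤ 0)
    (hmin : ∀ z' : Fin r → ℕ, (∀ i, 1 ≤ z' i) → (∀ i, ∑ j, (z' j : ℤ) * ArSurf.inter R X (L j) (Γ i) ≤ 0) →
      ∀ i, z i ≤ z' i) :
    IsField Γ((∏ j, (Γ j).ι.ker ^ z j).subscheme, ⊤) := by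
  classical
  have hp : IsProper X.hom := isProper_hom hX
  have hP : ∀ i, BlowUp.IsEffCartierIdeal (Γ i).ι.ker := fun i => isEffCartierIdeal_of_isInverseOf (hL i)
  obtain ⟨i0⟩ : Nonempty (Fin r) := by
    obtain ⟨x, hx⟩ := hconn.nonempty
    obtain ⟨i, -⟩ := Set.mem_iUnion.1 hx
    exact ⟨i⟩
  have hmul : ∀ (b : Fin r → ℕ) (i : Fin r), (∏ k, (Γ k).ι.ker ^ (b + Pi.single i 1 : Fin r → ℕ) k) =
      (∏ k, (Γ k).ι.ker ^ b k) * (Γ i).ι.ker := by
    intro b i
    simp only [Pi.add_apply, pow_add, Finset.prod_mul_distrib]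
    congr 1
    rw [Finset.prod_eq_single i]
    · simp
    · intro k _ hk
      rw [Pi.single_eq_of_ne hk, pow_zero]
    · simp
  have step : ∀ (b : Fin r → ℕ) (i : Fin r), 0 < ∑ k, (b k : ℤ) * ArSurf.inter R X (L k) (Γ i) →
      IsField Γ((∏ k, (Γ k).ι.ker ^ b k).subscheme, ⊤) →
      IsField Γ((∏ k, (Γ k).ι.ker ^ (b + Pi.single i 1 : Fin r → ℕ) k).subscheme, ⊤) := by
    intro b i hpos h0
    rw [hmul]
    refine FieldStep.isField_subscheme_mul (Γ i) (isEff_prod _ hP _ b) ?_ h0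
    rw [InterProd.inter_idealMod_prod_of_inverse (Γ i) _ L hL b]
    omega
  have hoff : ∀ i j, i ≠ j → 0 ≤ ArSurf.inter R X (L i) (Γ j) := fun i j hij =>
    (inter_nonneg hX (Γ j) (Γ i) (fun h => hij (hΓ h).symm) (hL i)).1
  have hcn : ∀ I : Finset (Fin r), I.Nonempty → I ≠ Finset.univ →
      ∃ i ∈ I, ∃ j ∉ I, ArSurf.inter R X (L i) (Γ j) ≠ 0 := by
    intro I hI hI'
    obtain ⟨i, hi, j, hj, hij⟩ := exists_meet hconn I hI hI'
    refine ⟨i, hi, j, hj, fun h => ?_⟩
    have hne : i ≠ j := fun h => hj (h ▸ hi)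
    have h1 := (inter_nonneg hX (Γ j) (Γ i) (fun h => hne (hΓ h).symm) (hL i)).2 h
    exact Set.not_disjoint_iff_nonempty_inter.2 hij h1.symm
  obtain ⟨s, a, -, hl, -, hPa⟩ := Chain.exists_chain z
    (fun b => 1 ≤ b i0 ∧ IsField Γ((∏ k, (Γ k).ι.ker ^ b k).subscheme, ⊤)) (by
      rintro b hb hne ⟨hb0, hF⟩
      obtain ⟨i, hi, hpos⟩ := exists_step (fun j i => ArSurf.inter R X (L j) (Γ i)) hoff hcn z hz hmin b hb hne hb0
      refine ⟨i, hi, ?_, step b i hpos hF⟩
      simp only [Pi.add_apply]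
      omega)
    _ (Pi.single i0 1) (by
      intro k
      by_cases hk : k = i0
      · subst hk; simpa using hz1 k
      · simp [Pi.single_eq_of_ne hk]) rfl ⟨by simp, by
        have h1 := hmul 0 i0
        have h2 : (∏ k, (Γ k).ι.ker ^ (0 : Fin r → ℕ) k) = 1 :=
          Finset.prod_eq_one fun k _ => pow_zero _
        rw [zero_add, h2, one_mul] at h1
        rw [h1]
        exact FieldStep.isField_ker_subscheme (Γ i0)⟩
  have := hPa (Fin.last s)
  rw [hl] at this
  exact this.2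

end K481.FundDiv
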