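import Groth.Agent.CycB.FlatProper
import Mathlib.AlgebraicGeometry.Stalk
import Mathlib.RingTheory.LocalRing.Length
import Mathlib.Topology.Separation.Connected
import Mathlib.FieldTheory.IsAlgClosed.Basic

set_option autoImplicit false
universe u

open CategoryTheory CategoryTheory.Limits AlgebraicGeometry Opposite TopologicalSpace
open scoped TensorProduct

namespace K481.GeomLen

open IsLocalRing

/-- The length of a finite local algebra over an algebraically closed field. -/
theorem length_eq_finrank {K A : Type*} [Field K] [IsAlgClosed K] [CommRing A] [IsLocalRing A] [Algebra K A]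
    [Module.Finite K A] : Module.length A A = Module.finrank K A := by
  have hloc : IsLocalHom (algebraMap K A) := ⟨fun a ha => by
    rw [isUnit_iff_ne_zero]
    rintro rfl
    rw [map_zero] at ha
    exact not_isUnit_zero ha⟩
  have h1 := IsLocalRing.length_restrictScalars K A A
  have h2 : Function.Surjective (algebraMap (ResidueField K) (ResidueField A)) := by
    have h3 : Function.Surjective (algebraMap K (ResidueField A)) :=
      (IsAlgClosed.algebraMap_bijective_of_isIntegral (k := K) (K := ResidueField A)).2
    intro x
    obtain ⟨y, hy⟩ := h3 x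
    refine ⟨residue K y, ?_⟩
    rw [← hy]
    rfl
  have h3 : Module.length (ResidueField K) (ResidueField A) = 1 := by
    rw [Module.length_eq_of_surjective (R := ResidueField A) (S := ResidueField K) (M := ResidueField A) h2]
    exact Module.length_eq_one _ _
  rw [h3, mul_one] at h1
  rw [← h1, Module.length_eq_rank, ← Module.finrank_eq_rank, map_natCast]

/-- The length of a ring over itself only depends on the ring. -/
theorem length_self_congr {A B : Type*} [CommRing A] [CommRing B] (e : A ≃+* B) :
    Module.length A A = Module.length B B := by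
  let i1 : Algebra A B := (e : A →+* B).toAlgebra
  let e' : A ≃ₐ[A] B := AlgEquiv.ofRingEquiv (f := e) (fun a => rfl)
  rw [e'.toLinearEquiv.length_eq]
  exact Module.length_eq_of_surjective (R := B) (S := A) (M := B) e.surjective

/-- A nonzero Artinian ring with connected spectrum is local. -/
theorem isLocalRing_of_connected {A : Type*} [CommRing A] [IsArtinianRing A] [ConnectedSpace (PrimeSpectrum A)] :
    IsLocalRing A := by
  have h1 : Subsingleton (PrimeSpectrum A) := PreconnectedSpace.trivial_of_discrete
  have h2 : Nontrivial A := by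
    obtain ⟨p⟩ : Nonempty (PrimeSpectrum A) := inferInstance
    exact ⟨⟨0, 1, fun h => p.2.ne_top (by rw [Ideal.eq_top_iff_one, ← h]; exact p.asIdeal.zero_mem)⟩⟩
  obtain ⟨m, hm⟩ := Ideal.exists_maximal A
  refine IsLocalRing.of_unique_max_ideal ⟨m, hm, fun m' hm' => ?_⟩
  have := Subsingleton.elim (⟨m', hm'.isPrime⟩ : PrimeSpectrum A) ⟨m, hm.isPrime⟩
  exact congrArg PrimeSpectrum.asIdeal this

/-- `Y` over a finite extension `κ` of `k`, with connected base change to an algebraically closed field `K` over `k`:
the degree of `κ` over `k` divides the lengths of the local rings of the base change. -/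
theorem dvd_length {k κ K : Type u} [Field k] [Field κ] [Field K] [IsAlgClosed K] [Algebra k κ] [Algebra k K]
    [FiniteDimensional k κ] {Y Xb : Scheme.{u}} (t : Y ⟶ Spec (CommRingCat.of κ))
    (fst : Xb ⟶ Y) (snd : Xb ⟶ Spec (CommRingCat.of K))
    (hpb : IsPullback fst snd (t ≫ Spec.map (CommRingCat.ofHom (algebraMap k κ)))
      (Spec.map (CommRingCat.ofHom (algebraMap k K))))
    [hc : ConnectedSpace Xb] (x : Xb) :
    Module.finrank k κ ∣ (Module.length (Xb.presheaf.stalk x) (Xb.presheaf.stalk x)).toNat := by
  have hY : Nonempty Y := ⟨fst x⟩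
  let A := CommRingCat.of (K ⊗[k] κ)
  let inl : CommRingCat.of K ⟶ A := CommRingCat.ofHom Algebra.TensorProduct.includeLeftRingHom
  let inr : CommRingCat.of κ ⟶ A :=
    CommRingCat.ofHom (Algebra.TensorProduct.includeRight (R := k) (A := K) (B := κ)).toRingHom
  have hA : IsPullback (Spec.map inl) (Spec.map inr) (Spec.map (CommRingCat.ofHom (algebraMap k K)))
      (Spec.map (CommRingCat.ofHom (algebraMap k κ))) :=
    isPullback_SpecMap_of_isPushout _ _ _ _ (CommRingCat.isPushout_tensorProduct k K κ)
  let π : Xb ⟶ Spec A := hA.lift snd (fst ≫ t) (by rw [Category.assoc]; exact hpb.w.symm)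
  have hπ : π ≫ Spec.map inl = snd := hA.lift_fst _ _ _
  have hπ' : π ≫ Spec.map inr = fst ≫ t := hA.lift_snd _ _ _
  have h1 : IsPullback π fst (Spec.map inr) t := by
    refine IsPullback.of_right ?_ hπ' hA
    rw [hπ]
    exact hpb.flip
  have hsub : Subsingleton (Spec (CommRingCat.of κ)) := inferInstanceAs (Subsingleton (PrimeSpectrum κ))
  have hfl : Flat π := MorphismProperty.of_isPullback h1.flip (inferInstanceAs (Flat t))
  have hst : Surjective t := ⟨fun y => ⟨hY.some, Subsingleton.elim _ _⟩⟩
  have hsj : Surjective π := MorphismProperty.of_isPullback h1.flip hst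
  have hfin : Module.Finite K (K ⊗[k] κ) := inferInstance
  have hAa : IsArtinianRing (K ⊗[k] κ) := IsArtinianRing.of_finite K _
  have hcs : ConnectedSpace (PrimeSpectrum (K ⊗[k] κ)) := by
    have h2 : Function.Surjective π := π.surjective
    exact h2.connectedSpace π.continuous
  have hl : IsLocalRing (K ⊗[k] κ) := isLocalRing_of_connected
  have hlen : Module.length (K ⊗[k] κ) (K ⊗[k] κ) = Module.finrank k κ := by
    rw [length_eq_finrank (K := K), Module.finrank_baseChange]
  have hss : Subsingleton (PrimeSpectrum (K ⊗[k] κ)) := PreconnectedSpace.trivial_of_discrete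
  have hpt : π x = closedPoint (K ⊗[k] κ) := Subsingleton.elim (α := PrimeSpectrum (K ⊗[k] κ)) _ _
  have h3 := Groth.Agent.CycB.FlatProper.length_stalk_of_flat π x
  have h4 : Module.length ((Spec A).presheaf.stalk (π x)) ((Spec A).presheaf.stalk (π x)) = Module.finrank k κ := by
    rw [hpt, ← hlen]
    exact length_self_congr (stalkClosedPointIso A).commRingCatIsoToRingEquiv
  rw [h3, h4, ENat.toNat_mul, ENat.toNat_natCast]
  exact dvd_mul_right _ _

end K481.GeomLen
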