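import Mathlib.Algebra.BigOperators.Ring.Finset
import Mathlib.Algebra.Order.BigOperators.Group.Finset
import Mathlib.Algebra.BigOperators.Fin
import Mathlib.Data.Rat.Cast.Order
import Mathlib.Algebra.BigOperators.Field
import Mathlib.Tactic.Ring
import Mathlib.Tactic.Linarith
import Mathlib.Tactic.Positivity
import Mathlib.Tactic.FieldSimp

/-!
# The kernel of an intersection matrix with connected graph (linear algebra)
-/

set_option autoImplicit false

open Finset

namespace K481.Kernel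

/-- The kernel of an intersection matrix with connected graph and a positive vector in the kernel is the
rational line of that vector. -/
theorem exists_ratio {r : ℕ} (m : Fin r → Fin r → ℤ) (hoff : ∀ i j, i ≠ j → 0 ≤ m i j)
    (n : Fin r → ℤ) (hn : ∀ i, 0 < n i) (hrow : ∀ i, ∑ j, n j * m i j = 0)
    (hconn : ∀ I : Finset (Fin r), I.Nonempty → I ≠ univ → ∃ i ∈ I, ∃ j ∉ I, m i j ≠ 0)
    (a : Fin r → ℤ) (ha : ∀ i, ∑ j, a j * m i j = 0) : ∃ c : ℚ, ∀ i, (a i : ℚ) = c * n i := by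
  classical
  rcases Nat.eq_zero_or_pos r with hr | hr
  · subst hr
    exact ⟨0, fun i => i.elim0⟩
  have hne : (univ : Finset (Fin r)).Nonempty := ⟨⟨0, hr⟩, mem_univ _⟩
  obtain ⟨i₀, -, hi₀⟩ := exists_max_image univ (fun i => (a i : ℚ) / n i) hne
  set c : ℚ := (a i₀ : ℚ) / n i₀ with hc
  have hn' : ∀ i, (0 : ℚ) < n i := fun i => by exact_mod_cast hn i
  have hle : ∀ i, (a i : ℚ) ≤ c * n i := fun i => (div_le_iff₀ (hn' i)).1 (hi₀ i (mem_univ i))
  let I : Finset (Fin r) := univ.filter fun i => (a i : ℚ) = c * n i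
  have hI : ∀ i, i ∈ I ↔ (a i : ℚ) = c * n i := fun i => by simp [I]
  have hI0 : i₀ ∈ I := by
    rw [hI, hc, div_mul_cancel₀ _ (hn' i₀).ne']
  by_cases hIu : I = univ
  · exact ⟨c, fun i => (hI i).1 (hIu ▸ mem_univ i)⟩
  exfalso
  obtain ⟨i, hi, j, hj, hij⟩ := hconn I ⟨i₀, hI0⟩ hIu
  have hne' : i ≠ j := fun h => hj (h ▸ hi)
  have h1 : ∑ l, (c * n l - a l) * (m i l : ℚ) = 0 := by
    have h2 : (∑ l, (n l : ℚ) * m i l) = 0 := by exact_mod_cast hrow i
    have h3 : (∑ l, (a l : ℚ) * m i l) = 0 := by exact_mod_cast ha i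
    have h4 : ∑ l, (c * n l - a l) * (m i l : ℚ) =
        c * (∑ l, (n l : ℚ) * m i l) - ∑ l, (a l : ℚ) * m i l := by
      rw [mul_sum, ← sum_sub_distrib]
      exact sum_congr rfl fun l _ => by ring
    rw [h4, h2, h3]; ring
  have h5 : ∀ l ∈ (univ : Finset (Fin r)), 0 ≤ (c * n l - a l) * (m i l : ℚ) := by
    intro l _
    by_cases hil : i = l
    · subst hil
      rw [(hI i).1 hi, sub_self, zero_mul]
    · refine mul_nonneg (sub_nonneg.2 (hle l)) ?_
      exact_mod_cast hoff i l hil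
  have h6 := (sum_eq_zero_iff_of_nonneg h5).1 h1 j (mem_univ j)
  rcases mul_eq_zero.1 h6 with h7 | h7
  · exact hj ((hI j).2 (sub_eq_zero.1 h7).symm)
  · exact hij (by exact_mod_cast h7)

end K481.Kernel
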