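import Mathlib.RingTheory.Length
import Mathlib.RingTheory.Ideal.Quotient.Operations
import Mathlib.RingTheory.UniqueFactorizationDomain.Basic
import Mathlib.Tactic.LinearCombination

/-!
# Lengths of quotients by products of relatively prime elements
-/

set_option autoImplicit false

universe u

namespace K481.LenCoker

variable {A : Type u} [CommRing A]

/-- `length A/(fh, g) = length A/(f, g) + length A/(h, g)` when `f` is a nonzerodivisor modulo `g`. -/
theorem length_mul (f h g : A) (hf : ∀ a, g ∣ f * a → g ∣ a) :
    Module.length A (A ⧸ Ideal.span ({f * h, g} : Set A)) =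
      Module.length A (A ⧸ Ideal.span ({f, g} : Set A)) +
        Module.length A (A ⧸ Ideal.span ({h, g} : Set A)) := by
  -- multiplication by `f`
  let μ : A →ₗ[A] A := LinearMap.mulLeft A f
  have h1 : Ideal.span ({h, g} : Set A) ≤ Submodule.comap μ (Ideal.span ({f * h, g} : Set A)) := by
    rw [Ideal.span_le]
    rintro x hx
    rcases hx with rfl | hx
    · change f * x ∈ Ideal.span ({f * x, g} : Set A)
      exact Ideal.subset_span (by simp)
    · rw [Set.mem_singleton_iff] at hx
      subst hx
      change f * x ∈ Ideal.span ({f * h, x} : Set A)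
      exact Ideal.mul_mem_left _ _ (Ideal.subset_span (by simp))
  have h2 : Ideal.span ({f * h, g} : Set A) ≤ Ideal.span ({f, g} : Set A) := by
    rw [Ideal.span_le]
    rintro x hx
    rcases hx with rfl | hx
    · exact Ideal.mul_mem_right _ _ (Ideal.subset_span (by simp))
    · rw [Set.mem_singleton_iff] at hx
      subst hx
      exact Ideal.subset_span (by simp)
  let α : (A ⧸ Ideal.span ({h, g} : Set A)) →ₗ[A] (A ⧸ Ideal.span ({f * h, g} : Set A)) :=
    Submodule.mapQ _ _ μ h1
  let β : (A ⧸ Ideal.span ({f * h, g} : Set A)) →ₗ[A] (A ⧸ Ideal.span ({f, g} : Set A)) :=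
    Submodule.mapQ _ _ LinearMap.id h2
  have hα : Function.Injective α := by
    rw [← LinearMap.ker_eq_bot, LinearMap.ker_eq_bot']
    intro x hx
    obtain ⟨a, rfl⟩ := Submodule.Quotient.mk_surjective _ x
    change Submodule.Quotient.mk (f * a) = 0 at hx
    rw [Submodule.Quotient.mk_eq_zero] at hx ⊢
    rw [Ideal.mem_span_pair] at hx ⊢
    obtain ⟨b, c, hbc⟩ := hx
    have h3 : g ∣ f * (a - b * h) := ⟨c, by linear_combination -hbc⟩
    obtain ⟨d, hd⟩ := hf _ h3
    exact ⟨b, d, by linear_combination -hd⟩
  have hβ : Function.Surjective β := by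
    intro x
    obtain ⟨a, rfl⟩ := Submodule.Quotient.mk_surjective _ x
    exact ⟨Submodule.Quotient.mk a, rfl⟩
  have hex : Function.Exact α β := by
    intro x
    obtain ⟨a, rfl⟩ := Submodule.Quotient.mk_surjective _ x
    constructor
    · intro hx
      change Submodule.Quotient.mk a = 0 at hx
      rw [Submodule.Quotient.mk_eq_zero, Ideal.mem_span_pair] at hx
      obtain ⟨b, c, hbc⟩ := hx
      refine ⟨Submodule.Quotient.mk b, ?_⟩
      change Submodule.Quotient.mk (f * b) = Submodule.Quotient.mk a
      rw [Submodule.Quotient.eq]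
      rw [Ideal.mem_span_pair]
      exact ⟨0, -c, by linear_combination -hbc⟩
    · rintro ⟨y, hy⟩
      obtain ⟨b, rfl⟩ := Submodule.Quotient.mk_surjective _ y
      rw [← hy]
      change Submodule.Quotient.mk (f * b) = 0
      rw [Submodule.Quotient.mk_eq_zero]
      exact Ideal.mul_mem_right _ _ (Ideal.subset_span (by simp))
  rw [Module.length_eq_add_of_exact α β hα hβ hex, add_comm]

theorem length_one (g : A) : Module.length A (A ⧸ Ideal.span ({1, g} : Set A)) = 0 := by
  have : Ideal.span ({1, g} : Set A) = ⊤ := by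
    rw [Ideal.eq_top_iff_one]
    exact Ideal.subset_span (by simp)
  rw [Module.length_eq_zero_iff, Submodule.Quotient.subsingleton_iff]
  exact this

theorem length_prod {ι : Type*} (s : Finset ι) (f : ι → A) (g : A)
    (hf : ∀ i ∈ s, ∀ a, g ∣ f i * a → g ∣ a) :
    Module.length A (A ⧸ Ideal.span ({∏ i ∈ s, f i, g} : Set A)) =
      ∑ i ∈ s, Module.length A (A ⧸ Ideal.span ({f i, g} : Set A)) := by
  classical
  induction s using Finset.induction_on with
  | empty =>
    rw [Finset.prod_empty, Finset.sum_empty]
    exact length_one g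
  | insert k s hk ih =>
    rw [Finset.prod_insert hk, Finset.sum_insert hk,
      length_mul _ _ _ (hf k (Finset.mem_insert_self _ _)),
      ih fun i hi => hf i (Finset.mem_insert_of_mem hi)]

/-- The diagonal map `A → ∏ A/(f i)`. -/
noncomputable def diag {n : ℕ} (f : Fin n → A) : A →ₗ[A] ((i : Fin n) → A ⧸ Ideal.span {f i}) :=
  LinearMap.pi fun i => Submodule.mkQ (Ideal.span {f i})

lemma mem_ker_diag {n : ℕ} (f : Fin n → A) (a : A) : diag f a = 0 ↔ ∀ i, f i ∣ a := by
  rw [funext_iff]
  refine forall_congr' fun i => ?_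
  change Submodule.Quotient.mk a = 0 ↔ _
  rw [Submodule.Quotient.mk_eq_zero, Ideal.mem_span_singleton]

/-- The inductive step: `0 → A/(∏_{i<n} f i, f n) → coker_{n+1} → coker_n → 0`. -/
theorem length_step {n : ℕ} (f : Fin (n + 1) → A)
    (hk : ∀ a, (∀ i : Fin n, f i.castSucc ∣ a) → ∏ i : Fin n, f i.castSucc ∣ a) :
    Module.length A (((i : Fin (n + 1)) → A ⧸ Ideal.span {f i}) ⧸ LinearMap.range (diag f)) =
      Module.length A (A ⧸ Ideal.span ({∏ i : Fin n, f i.castSucc, f (Fin.last n)} : Set A)) +
      Module.length A (((i : Fin n) → A ⧸ Ideal.span {f i.castSucc}) ⧸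
        LinearMap.range (diag fun i => f i.castSucc)) := by
  -- the inclusion of the last factor
  let j : (A ⧸ Ideal.span {f (Fin.last n)}) →ₗ[A] ((i : Fin (n + 1)) → A ⧸ Ideal.span {f i}) :=
    LinearMap.single A (fun i => A ⧸ Ideal.span {f i}) (Fin.last n)
  let j' : A →ₗ[A] (((i : Fin (n + 1)) → A ⧸ Ideal.span {f i}) ⧸ LinearMap.range (diag f)) :=
    (Submodule.mkQ _).comp (j.comp (Submodule.mkQ _))
  have hj' : ∀ a, j' a = 0 ↔ a ∈ Ideal.span ({∏ i : Fin n, f i.castSucc, f (Fin.last n)} : Set A) := by
    intro a
    change Submodule.Quotient.mk (j (Submodule.Quotient.mk a)) = 0 ↔ _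
    rw [Submodule.Quotient.mk_eq_zero, Ideal.mem_span_pair]
    constructor
    · rintro ⟨b, hb⟩
      have h1 : ∀ i : Fin n, f i.castSucc ∣ b := by
        intro i
        have h2 := congrFun hb i.castSucc
        have h3 : j (Submodule.Quotient.mk a) i.castSucc = 0 := by
          change Pi.single (Fin.last n) _ i.castSucc = _
          rw [Pi.single_eq_of_ne (Fin.castSucc_lt_last i).ne]
        rw [h3] at h2
        change Submodule.Quotient.mk b = 0 at h2
        rwa [Submodule.Quotient.mk_eq_zero, Ideal.mem_span_singleton] at h2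
      have h4 := congrFun hb (Fin.last n)
      have h5 : j (Submodule.Quotient.mk a) (Fin.last n) = Submodule.Quotient.mk a := by
        change Pi.single (Fin.last n) _ (Fin.last n) = _
        rw [Pi.single_eq_same]
      rw [h5] at h4
      change Submodule.Quotient.mk b = Submodule.Quotient.mk a at h4
      rw [Submodule.Quotient.eq, Ideal.mem_span_singleton] at h4
      obtain ⟨c, hc⟩ := hk b h1
      obtain ⟨d, hd⟩ := h4
      exact ⟨c, -d, by linear_combination -hc + hd⟩
    · rintro ⟨c, d, hcd⟩
      refine ⟨c * ∏ i : Fin n, f i.castSucc, ?_⟩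
      funext i
      induction i using Fin.lastCases with
      | last =>
        have h5 : j (Submodule.Quotient.mk a) (Fin.last n) = Submodule.Quotient.mk a := by
          change Pi.single (Fin.last n) _ (Fin.last n) = _
          rw [Pi.single_eq_same]
        rw [h5]
        change Submodule.Quotient.mk _ = Submodule.Quotient.mk a
        rw [Submodule.Quotient.eq, Ideal.mem_span_singleton]
        exact ⟨-d, by linear_combination hcd⟩
      | cast i =>
        have h3 : j (Submodule.Quotient.mk a) i.castSucc = 0 := by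
          change Pi.single (Fin.last n) _ i.castSucc = _
          rw [Pi.single_eq_of_ne (Fin.castSucc_lt_last i).ne]
        rw [h3]
        change Submodule.Quotient.mk _ = 0
        rw [Submodule.Quotient.mk_eq_zero, Ideal.mem_span_singleton]
        exact Dvd.dvd.mul_left (Finset.dvd_prod_of_mem (fun i : Fin n => f i.castSucc)
          (Finset.mem_univ i)) c
  let α : (A ⧸ Ideal.span ({∏ i : Fin n, f i.castSucc, f (Fin.last n)} : Set A)) →ₗ[A]
      (((i : Fin (n + 1)) → A ⧸ Ideal.span {f i}) ⧸ LinearMap.range (diag f)) :=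
    Submodule.liftQ _ j' (fun a ha => (hj' a).2 ha)
  -- the projection
  let π : ((i : Fin (n + 1)) → A ⧸ Ideal.span {f i}) →ₗ[A]
      ((i : Fin n) → A ⧸ Ideal.span {f i.castSucc}) :=
    LinearMap.pi fun i => LinearMap.proj i.castSucc
  let β : (((i : Fin (n + 1)) → A ⧸ Ideal.span {f i}) ⧸ LinearMap.range (diag f)) →ₗ[A]
      (((i : Fin n) → A ⧸ Ideal.span {f i.castSucc}) ⧸ LinearMap.range (diag fun i => f i.castSucc)) :=
    Submodule.mapQ _ _ π (by rintro _ ⟨a, rfl⟩; exact ⟨a, rfl⟩)
  have hα : Function.Injective α := by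
    rw [← LinearMap.ker_eq_bot, LinearMap.ker_eq_bot']
    intro x hx
    obtain ⟨a, rfl⟩ := Submodule.Quotient.mk_surjective _ x
    rw [Submodule.Quotient.mk_eq_zero]
    exact (hj' a).1 hx
  have hβ : Function.Surjective β := by
    intro x
    obtain ⟨y, rfl⟩ := Submodule.Quotient.mk_surjective _ x
    refine ⟨Submodule.Quotient.mk (Fin.snoc (α := fun i => A ⧸ Ideal.span {f i}) y 0), ?_⟩
    change Submodule.Quotient.mk (π _) = Submodule.Quotient.mk y
    congr 1
    funext i
    change Fin.snoc (α := fun i => A ⧸ Ideal.span {f i}) y 0 i.castSucc = y i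
    rw [Fin.snoc_castSucc]
  have hex : Function.Exact α β := by
    intro x
    obtain ⟨y, rfl⟩ := Submodule.Quotient.mk_surjective _ x
    constructor
    · intro hx
      change Submodule.Quotient.mk (π y) = 0 at hx
      rw [Submodule.Quotient.mk_eq_zero] at hx
      obtain ⟨b, hb⟩ := hx
      obtain ⟨c, hc⟩ := Submodule.Quotient.mk_surjective _ (y (Fin.last n))
      refine ⟨Submodule.Quotient.mk (c - b), ?_⟩
      change Submodule.Quotient.mk (j (Submodule.Quotient.mk (c - b))) = Submodule.Quotient.mk y
      rw [Submodule.Quotient.eq]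
      refine ⟨-b, ?_⟩
      funext i
      induction i using Fin.lastCases with
      | last =>
        have h5 : j (Submodule.Quotient.mk (c - b)) (Fin.last n) = Submodule.Quotient.mk (c - b) := by
          change Pi.single (Fin.last n) _ (Fin.last n) = _
          rw [Pi.single_eq_same]
        rw [Pi.sub_apply, h5, ← hc]
        change Submodule.Quotient.mk (-b) = _
        rw [← Submodule.Quotient.mk_sub]
        congr 1
        ring
      | cast i =>
        have h3 : j (Submodule.Quotient.mk (c - b)) i.castSucc = 0 := by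
          change Pi.single (Fin.last n) _ i.castSucc = _
          rw [Pi.single_eq_of_ne (Fin.castSucc_lt_last i).ne]
        have h4 : Submodule.Quotient.mk b = y i.castSucc := congrFun hb i
        rw [Pi.sub_apply, h3, ← h4, zero_sub]
        rfl
    · rintro ⟨z, hz⟩
      obtain ⟨b, rfl⟩ := Submodule.Quotient.mk_surjective _ z
      rw [← hz]
      change Submodule.Quotient.mk (π (j (Submodule.Quotient.mk b))) = 0
      rw [Submodule.Quotient.mk_eq_zero]
      refine ⟨0, ?_⟩
      rw [map_zero]
      funext i
      have h3 : j (Submodule.Quotient.mk b) i.castSucc = 0 := by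
        change Pi.single (Fin.last n) _ i.castSucc = _
        rw [Pi.single_eq_of_ne (Fin.castSucc_lt_last i).ne]
      exact h3.symm
  exact Module.length_eq_add_of_exact α β hα hβ hex

theorem length_diag [IsDomain A] [UniqueFactorizationMonoid A] {n : ℕ} (f : Fin n → A)
    (hirr : ∀ i, Irreducible (f i)) (hcop : ∀ i j, i ≠ j → IsRelPrime (f i) (f j)) :
    Module.length A (((i : Fin n) → A ⧸ Ideal.span {f i}) ⧸ LinearMap.range (diag f)) =
      ∑ i : Fin n, ∑ j : Fin n, if i < j then
        Module.length A (A ⧸ Ideal.span ({f i, f j} : Set A)) else 0 := by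
  induction n with
  | zero =>
    rw [Finset.univ_eq_empty, Finset.sum_empty, Module.length_eq_zero_iff]
    infer_instance
  | succ n ih =>
    have hne : ∀ i : Fin n, i.castSucc ≠ Fin.last n := fun i => (Fin.castSucc_lt_last i).ne
    rw [length_step f fun a ha => Finset.prod_dvd_of_isRelPrime
        (fun i _ j _ hij => hcop _ _ fun h => hij (Fin.castSucc_injective n h)) fun i _ => ha i,
      ih (fun i => f i.castSucc) (fun i => hirr _)
        (fun i j hij => hcop _ _ fun h => hij (Fin.castSucc_injective n h)),
      length_prod Finset.univ (fun i : Fin n => f i.castSucc) (f (Fin.last n))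
        (fun i _ a ha => (hcop _ _ (hne i)).symm.dvd_of_dvd_mul_left ha)]
    rw [Fin.sum_univ_castSucc (n := n)]
    have h1 : ∀ i : Fin n, (∑ j : Fin (n + 1), if i.castSucc < j then
        Module.length A (A ⧸ Ideal.span ({f i.castSucc, f j} : Set A)) else 0) =
        (∑ j : Fin n, if i < j then
        Module.length A (A ⧸ Ideal.span ({f i.castSucc, f j.castSucc} : Set A)) else 0) +
        Module.length A (A ⧸ Ideal.span ({f i.castSucc, f (Fin.last n)} : Set A)) := by
      intro i
      rw [Fin.sum_univ_castSucc, if_pos (Fin.castSucc_lt_last i)]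
      rfl
    have h2 : (∑ j : Fin (n + 1), if Fin.last n < j then
        Module.length A (A ⧸ Ideal.span ({f (Fin.last n), f j} : Set A)) else 0) = 0 := by
      refine Finset.sum_eq_zero fun j _ => ?_
      rw [if_neg (Fin.le_last j).not_gt]
    rw [h2, add_zero, Finset.sum_congr rfl fun i _ => h1 i, Finset.sum_add_distrib, add_comm]

end K481.LenCoker
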