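import Groth.Agent.Dix.MinimalUnique

/-!
# Uniqueness of relatively minimal models when `H⁰(X_K, O) = K`

The results of `Groth.Agent.Dix.MinimalUnique` with the geometric integrality of the generic fibre replaced
by `H⁰(X_K, O) = K` (which is what the connectedness of the closed fibres needs).
-/

set_option autoImplicit false
universe u

open CategoryTheory CategoryTheory.Limits AlgebraicGeometry Opposite TopologicalSpace

namespace K481.MinUniqH0

open Groth.Agent.Dix Groth.Agent.Dix.MinusCurve Groth.Agent.Dix.PointIdeal Groth.Agent.Ega4B.RegChain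
open Groth.Agent.Dix.GenFibre Groth.Agent.Dix.RegSurfLoc979 Groth.Agent.Dix.RegSurfConn979
open Groth.Agent.Dix.MinimalUnique Groth.Agent

section Conn

variable {R : Type u} [CommRing R] [IsDomain R]

/-- The function-field point of `Spec R` is `Spec` of the fraction field. -/
lemma exists_isPullback_fiber_iso (X : Over (Spec (CommRingCat.of R))) :
    ∃ (b : X.hom.fiber (genericPoint (Spec (CommRingCat.of R))) ⟶ ((Neron.genericFibre R).obj X).left)
      (a : Spec ((Spec (CommRingCat.of R)).residueField (genericPoint (Spec (CommRingCat.of R)))) ⟶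
        Spec (CommRingCat.of (FractionRing R))),
      IsIso a ∧ IsPullback b (X.hom.fiberToSpecResidueField (genericPoint (Spec (CommRingCat.of R))))
        ((Neron.genericFibre R).obj X).hom a := by
  obtain ⟨a, ha⟩ := exists_lift_genPt (R := R)
    (L := (Spec (CommRingCat.of R)).residueField (genericPoint (Spec (CommRingCat.of R))))
    (Field.toIsField _)
    ((Spec (CommRingCat.of R)).fromSpecResidueField (genericPoint (Spec (CommRingCat.of R)))) (by
      intro z
      rw [Scheme.fromSpecResidueField_apply]
      exact asIdeal_genericPoint)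
  have h1 : IsPullback (X.hom.fiberι _) (X.hom.fiberToSpecResidueField _) X.hom
      ((Spec (CommRingCat.of R)).fromSpecResidueField (genericPoint (Spec (CommRingCat.of R)))) :=
    IsPullback.of_hasPullback _ _
  rw [← ha] at h1
  -- `a` is a flat monomorphism between one-point schemes
  have hmono : Mono a := by
    have h2 : Mono (a ≫ Neron.genPt R) := by
      rw [ha]
      infer_instance
    exact mono_of_mono a (Neron.genPt R)
  have hflat : Flat a := by
    obtain ⟨φ, rfl⟩ := Spec.map_surjective a
    rw [HasRingHomProperty.Spec_iff (P := @Flat)]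
    algebraize [φ.hom]
    have : Module.Flat (FractionRing R)
      ((Spec (CommRingCat.of R)).residueField (genericPoint (Spec (CommRingCat.of R)))) := inferInstance
    exact this
  have hiso : IsIso a := by
    have hsurj : Surjective a := by
      refine ⟨fun z => ?_⟩
      have hne : Nonempty ↥(Spec ((Spec (CommRingCat.of R)).residueField
          (genericPoint (Spec (CommRingCat.of R))))) := inferInstance
      exact ⟨hne.some, Subsingleton.elim (α := PrimeSpectrum (FractionRing R)) _ _⟩
    exact Flat.isIso_of_surjective_of_mono a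
  refine ⟨(isPullback_genι X).lift (X.hom.fiberι _) (X.hom.fiberToSpecResidueField _ ≫ a) (by
    rw [h1.w, Category.assoc]), a, hiso, ?_⟩
  refine IsPullback.of_right (h₁₂ := genι X) (h₂₂ := Neron.genPt R) (v₁₃ := X.hom) ?_ ?_ (isPullback_genι X)
  · rw [IsPullback.lift_fst]
    exact h1
  · exact IsPullback.lift_snd _ _ _ _

theorem bijective_appTop_fiber (X : Over (Spec (CommRingCat.of R)))
    (hH0 : IsIso ((Neron.genericFibre R).obj X).hom.appTop) :
    Function.Bijective ((X.hom.fiberToSpecResidueField (genericPoint (Spec (CommRingCat.of R)))).appTop) := by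
  obtain ⟨b, a, ha, h⟩ := exists_isPullback_fiber_iso X
  have hb : IsIso b := h.isIso_fst_of_isIso
  have ha' : IsIso a.appTop := inferInstanceAs (IsIso (a.app ⊤))
  have hb' : IsIso b.appTop := inferInstanceAs (IsIso (b.app ⊤))
  have h1 : ((Neron.genericFibre R).obj X).hom.appTop ≫ b.appTop =
      a.appTop ≫ (X.hom.fiberToSpecResidueField (genericPoint (Spec (CommRingCat.of R)))).appTop := by
    rw [← Scheme.Hom.comp_appTop, ← Scheme.Hom.comp_appTop, h.w]
  have h2 : (X.hom.fiberToSpecResidueField (genericPoint (Spec (CommRingCat.of R)))).appTop =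
      inv a.appTop ≫ ((Neron.genericFibre R).obj X).hom.appTop ≫ b.appTop := by
    rw [h1, IsIso.inv_hom_id_assoc]
  have h3 : IsIso ((X.hom.fiberToSpecResidueField (genericPoint (Spec (CommRingCat.of R)))).appTop) := by
    rw [h2]
    infer_instance
  exact ConcreteCategory.bijective_of_isIso _

/-- All fibres of a proper flat integral scheme over a normal domain are geometrically connected as soon as the
generic fibre has only constant global functions. -/
theorem geometricallyConnected_hom (hR : Pi1.IsNormalScheme (Spec (CommRingCat.of R)))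
    (X : Over (Spec (CommRingCat.of R))) [IsIntegral X.left] [Flat X.hom] [IsProper X.hom]
    (hH0 : IsIso ((Neron.genericFibre R).obj X).hom.appTop) : GeometricallyConnected X.hom := by
  refine (Groth.Agent.S1365.result X.hom hR ?_ (bijective_appTop_fiber X hH0)).2
  intro Z hZ x hx
  have h1 : Z = Set.univ := by
    rw [irreducibleComponents_eq_singleton] at hZ
    exact hZ
  rw [h1] at hx
  have h2 : x = genericPoint X.left := hx.eq (genericPoint_spec X.left)
  rw [h2]
  apply PrimeSpectrum.ext
  rw [asIdeal_hom_genericPoint, asIdeal_genericPoint]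

end Conn

section main

variable {R : Type u} [CommRing R] [IsDedekindDomain R]

/-- On a regular proper surface over a Dedekind domain whose generic fibre has `H⁰(O) = K` and
`H¹(O) ≠ 0`, two different (-1)-curves are disjoint. -/
theorem disjMinus (hR : ¬ IsField R) {W : Over (Spec (CommRingCat.of R))} (hW : IsRegSurf R W)
    (hH0 : IsIso ((Neron.genericFibre R).obj W).hom.appTop)
    (hg : Nontrivial (Coh.HH ((Neron.genericFibre R).obj W).left (Coh.structureModule _) 1)) :
    DisjMinus W.left := by
  intro E₁ E₂ hne
  have := hW.proper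
  have := hW.isIntegral
  have := hW.flat
  have hgc : GeometricallyConnected W.hom := geometricallyConnected_hom isNormalScheme_spec W hH0
  refine DisjLoc105.disjMinus W MinusLift515.exists_minusCurve_lift ?_ E₁ E₂ hne
  intro p hp F₁ F₂ hF
  have hmax : p.asIdeal.IsMaximal := (PrimeSpectrum.isClosed_singleton_iff_isMaximal _).1 hp
  have hbot : p.asIdeal ≠ ⊥ := Ring.ne_bot_of_isMaximal_of_not_isField hmax hR
  have hDVR : IsDiscreteValuationRing (Localization.AtPrime p.asIdeal) :=
    IsLocalization.AtPrime.isDiscreteValuationRing_of_dedekind_domain R hbot _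
  have hWp := isRegSurf_loc p.asIdeal hbot hW
  have h1 := hWp.isIntegral
  have h2 := hWp.proper
  have h3 := hWp.flat
  have h4 : GeometricallyConnected (loc p.asIdeal W).hom :=
    MorphismProperty.of_isPullback (P := @GeometricallyConnected) (isPullback_pr p.asIdeal W) hgc
  exact MinusDisjoint490.disjoint (Localization.AtPrime p.asIdeal) (loc p.asIdeal W)
    ((loc p.asIdeal W).hom.isConnected_preimage_singleton (IsLocalRing.closedPoint _)).isPreconnected
    (nontrivial_HH_loc p.asIdeal W 1 hg) F₁ F₂ hF

/-- The same, for a surface whose generic fibre is isomorphic to a given one. -/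
theorem disjMinus_of_iso (hR : ¬ IsField R) {X W : Over (Spec (CommRingCat.of R))} (hW : IsRegSurf R W)
    (hH0 : IsIso ((Neron.genericFibre R).obj X).hom.appTop)
    (hg : Nontrivial (Coh.HH ((Neron.genericFibre R).obj X).left (Coh.structureModule _) 1))
    (e : (Neron.genericFibre R).obj W ≅ (Neron.genericFibre R).obj X) :
    DisjMinus W.left := by
  have he : IsIso e.hom.left := inferInstance
  have hH0' : IsIso ((Neron.genericFibre R).obj W).hom.appTop := by
    have h1 : ((Neron.genericFibre R).obj W).hom = e.hom.left ≫ ((Neron.genericFibre R).obj X).hom :=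
      (Over.w e.hom).symm
    have he' : IsIso e.hom.left.appTop := inferInstanceAs (IsIso (e.hom.left.app ⊤))
    rw [h1, Scheme.Hom.comp_appTop]
    infer_instance
  refine disjMinus hR hW hH0' ?_
  rw [← not_subsingleton_iff_nontrivial] at hg ⊢
  intro h3
  apply hg
  rw [← Flat2H.ThickFibre.subsingleton_HH_pullback_iff e.hom.left (Coh.structureModule _)
    (Ega2.QCohLocal.isQCoh_of_isInvertible Fdesc.LocGen.isInvertible_structureModule) 1]
  exact Fga.HShift.subsingleton_of_iso (CurvesA.HHMap.pullbackUnit e.hom.left).symm 1 h3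

/-- An isomorphism of the generic fibres of a regular proper surface `X₁` and of an arithmetic surface `X₂` without
(-1)-curves extends to a morphism `X₁ ⟶ X₂`. -/
theorem exists_hom_of_isEmpty (X₁ X₂ : Over (Spec (CommRingCat.of R))) (h₁ : IsRegSurf R X₁)
    (h₂ : ArSurf.IsArithSurface R X₂) (hR : ¬ IsField R) (hemp : IsEmpty (MinusCurve X₂.left))
    (hH0 : IsIso ((Neron.genericFibre R).obj X₁).hom.appTop)
    (hg : Nontrivial (Coh.HH ((Neron.genericFibre R).obj X₁).left (Coh.structureModule _) 1))
    (φ : (Neron.genericFibre R).obj X₁ ≅ (Neron.genericFibre R).obj X₂) :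
    ∃ f : X₁ ⟶ X₂, (Neron.genericFibre R).map f = φ.hom := by
  refine exists_hom hR X₁ X₂ h₁ h₂ hemp ?_ φ
  intro W s m hs
  have hs' := isIso_genericFibre_of_rchain hR hs
  exact disjMinus_of_iso hR (hs.source (isRegSurf_of_isArithSurface h₂)) hH0 hg
    (asIso ((Neron.genericFibre R).map s) ≪≫ φ.symm)

/-- Uniqueness of relatively minimal models, given that they contain no (-1)-curves. -/
theorem existsUnique (X₁ X₂ : Over (Spec (CommRingCat.of R)))
    (h₁ : ArSurf.IsArithSurface R X₁) (h₂ : ArSurf.IsArithSurface R X₂)
    (m₁ : Neron.IsRelMinimalRegularModel R X₁) (hemp : ¬ IsField R → IsEmpty (MinusCurve X₂.left))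
    (hH0 : IsIso ((Neron.genericFibre R).obj X₁).hom.appTop)
    (hg : Nontrivial (Coh.HH ((Neron.genericFibre R).obj X₁).left (Coh.structureModule _) 1))
    (φ : (Neron.genericFibre R).obj X₁ ≅ (Neron.genericFibre R).obj X₂) :
    ∃! f : X₁ ⟶ X₂, IsIso f ∧ (Neron.genericFibre R).map f = φ.hom := by
  by_cases hR : IsField R
  · exact MinUniqField.exists_unique_of_isField hR X₁ X₂ φ
  · obtain ⟨f, hf⟩ := exists_hom_of_isEmpty X₁ X₂ (isRegSurf_of_isArithSurface h₁) h₂ hR (hemp hR) hH0 hg φ
    have h3 : IsIso ((Neron.genericFibre R).map f) := by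
      rw [hf]
      infer_instance
    have h4 := h₁.2.2.2.1
    have h5 := isProper_of_isProjectiveOver h₂.2.2.2.2
    refine ⟨f, ⟨m₁.2.2.2 X₂ h₂.1 h₂.2.2.2.2 h₂.2.2.2.1 f h3, hf⟩, ?_⟩
    rintro g ⟨-, hg'⟩
    exact GenExtUniq.ext_of_genericFibre (hg'.trans hf.symm)

end main

end K481.MinUniqH0
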