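import Groth.Agent.ArSurf.K481.GeomLen
import Mathlib.FieldTheory.Perfect
import Mathlib.RingTheory.Unramified.Field
import Mathlib.RingTheory.Etale.Field

/-!
# Functions on a scheme with geometrically connected fibre over a perfect field
-/

set_option autoImplicit false
universe u

open CategoryTheory CategoryTheory.Limits AlgebraicGeometry Opposite TopologicalSpace
open scoped TensorProduct

namespace K481.PerfConn

open IsLocalRing K481.GeomLen

/-- Pullback squares and monomorphisms. -/
theorem isPullback_of_comp_mono {C : Type*} [Category* C] {Z A B S T : C} {f : Z ⟶ A} {g : Z ⟶ B} {a : A ⟶ S} {b : B ⟶ S} (i : S ⟶ T)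
    [Mono i] (h : IsPullback f g (a ≫ i) (b ≫ i)) : IsPullback f g a b := by
  have hw : f ≫ a = g ≫ b := by
    rw [← cancel_mono i, Category.assoc, Category.assoc]
    exact h.w
  refine ⟨⟨hw⟩, ⟨PullbackCone.IsLimit.mk _ (fun s => h.lift s.fst s.snd ?_) ?_ ?_ ?_⟩⟩
  · rw [← Category.assoc, s.condition, Category.assoc]
  · exact fun s => h.lift_fst _ _ _
  · exact fun s => h.lift_snd _ _ _
  · intro s m h1 h2
    refine h.hom_ext ?_ ?_
    · rw [h1, h.lift_fst]
    · rw [h2, h.lift_snd]

/-- `Y` over a finite separable extension `κ` of `k`, with connected base change to an algebraically closed field `K`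
over `k`: then `κ = k`. -/
theorem finrank_eq_one {k κ K : Type u} [Field k] [Field κ] [Field K] [IsAlgClosed K] [Algebra k κ] [Algebra k K]
    [FiniteDimensional k κ] [Algebra.IsSeparable k κ] {Y Xb : Scheme.{u}} (t : Y ⟶ Spec (CommRingCat.of κ))
    (fst : Xb ⟶ Y) (snd : Xb ⟶ Spec (CommRingCat.of K))
    (hpb : IsPullback fst snd (t ≫ Spec.map (CommRingCat.ofHom (algebraMap k κ)))
      (Spec.map (CommRingCat.ofHom (algebraMap k K))))
    [hc : ConnectedSpace Xb] :
    Module.finrank k κ = 1 := by
  obtain ⟨x⟩ : Nonempty Xb := inferInstance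
  have hY : Nonempty Y := ⟨fst x⟩
  let A := CommRingCat.of (K ⊗[k] κ)
  let inl : CommRingCat.of K ⟶ A := CommRingCat.ofHom Algebra.TensorProduct.includeLeftRingHom
  let inr : CommRingCat.of κ ⟶ A :=
    CommRingCat.ofHom (Algebra.TensorProduct.includeRight (R := k) (A := K) (B := κ)).toRingHom
  have hA : IsPullback (Spec.map inl) (Spec.map inr) (Spec.map (CommRingCat.ofHom (algebraMap k K)))
      (Spec.map (CommRingCat.ofHom (algebraMap k κ))) :=
    isPullback_SpecMap_of_isPushout _ _ _ _ (CommRingCat.isPushout_tensorProduct k K κ)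
  let π : Xb ⟶ Spec A := hA.lift snd (fst ≫ t) (by rw [Category.assoc]; exact hpb.w.symm)
  have hπ : π ≫ Spec.map inl = snd := hA.lift_fst _ _ _
  have hπ' : π ≫ Spec.map inr = fst ≫ t := hA.lift_snd _ _ _
  have h1 : IsPullback π fst (Spec.map inr) t := by
    refine IsPullback.of_right ?_ hπ' hA
    rw [hπ]
    exact hpb.flip
  have hsub : Subsingleton (Spec (CommRingCat.of κ)) := inferInstanceAs (Subsingleton (PrimeSpectrum κ))
  have hst : Surjective t := ⟨fun y => ⟨hY.some, Subsingleton.elim _ _⟩⟩
  have hsj : Surjective π := MorphismProperty.of_isPullback h1.flip hst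
  have hfin : Module.Finite K (K ⊗[k] κ) := inferInstance
  have hAa : IsArtinianRing (K ⊗[k] κ) := IsArtinianRing.of_finite K _
  have hcs : ConnectedSpace (PrimeSpectrum (K ⊗[k] κ)) := by
    have h2 : Function.Surjective π := π.surjective
    exact h2.connectedSpace π.continuous
  have hl : IsLocalRing (K ⊗[k] κ) := isLocalRing_of_connected
  have hlen : Module.length (K ⊗[k] κ) (K ⊗[k] κ) = Module.finrank k κ := by
    rw [length_eq_finrank (K := K), Module.finrank_baseChange]
  have hunr : Algebra.FormallyUnramified k κ := Algebra.FormallyUnramified.of_isSeparable k κ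
  have hunr2 : Algebra.FormallyUnramified K (K ⊗[k] κ) := inferInstance
  have hred : IsReduced (K ⊗[k] κ) := Algebra.FormallyUnramified.isReduced_of_field K (K ⊗[k] κ)
  have hfield : IsField (K ⊗[k] κ) := by
    rw [IsLocalRing.isField_iff_maximalIdeal_eq]
    have h3 : IsNilpotent (maximalIdeal (K ⊗[k] κ)) := by
      have := IsArtinianRing.isNilpotent_jacobson_bot (R := K ⊗[k] κ)
      rwa [IsLocalRing.jacobson_eq_maximalIdeal _ bot_ne_top] at this
    exact h3.eq_zero
  let _ : Field (K ⊗[k] κ) := hfield.toField
  have h5 : Module.length (K ⊗[k] κ) (K ⊗[k] κ) = 1 := Module.length_eq_one _ _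
  rw [h5] at hlen
  exact_mod_cast hlen.symm


/-- `A → κ` a finite homomorphism to a field whose image contains the image of a perfect field; if the base change of
`Y → Spec κ → Spec A` to an algebraically closed field is connected then `A → κ` is surjective. -/
theorem surjective_of_connected {A κ K k : Type u} [CommRing A] [Field κ] [Field K] [IsAlgClosed K] [Field k]
    [PerfectField k] (φ : A →+* κ) (ι : κ →+* K) (ψ : k →+* κ) (hψ : ψ.Finite)
    (hψφ : ∀ c : k, ψ c ∈ φ.range) {Y Xb : Scheme.{u}} (t : Y ⟶ Spec (CommRingCat.of κ))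
    (fst : Xb ⟶ Y) (snd : Xb ⟶ Spec (CommRingCat.of K))
    (hpb : IsPullback fst snd (t ≫ Spec.map (CommRingCat.ofHom φ)) (Spec.map (CommRingCat.ofHom (ι.comp φ))))
    [hc : ConnectedSpace Xb] : Function.Surjective φ := by
  let ψ' : k →+* φ.range := ψ.codRestrict φ.range hψφ
  let _ : Algebra k κ := ψ.toAlgebra
  let _ : Algebra k φ.range := ψ'.toAlgebra
  have hst : IsScalarTower k φ.range κ := IsScalarTower.of_algebraMap_eq' rfl
  have hfin : Module.Finite k κ := hψ
  have hfin' : Module.Finite φ.range κ := Module.Finite.of_restrictScalars_finite k φ.range κ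
  have hf : IsField φ.range := isField_of_isIntegral_of_isField (R := φ.range) (S := κ)
    Subtype.val_injective (Field.toIsField κ)
  let _ : Field φ.range := hf.toField
  have hsep : Algebra.IsSeparable k κ := inferInstance
  have hsep' : Algebra.IsSeparable φ.range κ := Algebra.isSeparable_tower_top_of_isSeparable k φ.range κ
  let _ : Algebra φ.range K := (ι.comp (algebraMap φ.range κ)).toAlgebra
  have hcl : IsClosedImmersion (Spec.map (CommRingCat.ofHom φ.rangeRestrict)) :=
    IsClosedImmersion.spec_of_surjective _ φ.rangeRestrict_surjective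
  have h1 : IsPullback fst snd (t ≫ Spec.map (CommRingCat.ofHom (algebraMap φ.range κ)))
      (Spec.map (CommRingCat.ofHom (algebraMap φ.range K))) := by
    refine isPullback_of_comp_mono (Spec.map (CommRingCat.ofHom φ.rangeRestrict)) ?_
    rw [Category.assoc, ← Spec.map_comp, ← Spec.map_comp, ← CommRingCat.ofHom_comp, ← CommRingCat.ofHom_comp]
    exact hpb
  have h2 : Module.finrank φ.range κ = 1 := finrank_eq_one t fst snd h1
  have h3 : Function.Bijective (algebraMap φ.range κ) := Algebra.finrank_eq_one_iff_bijective_algebraMap.mp h2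
  intro x
  obtain ⟨⟨y, z, rfl⟩, hy⟩ := h3.2 x
  exact ⟨z, hy⟩

end K481.PerfConn
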