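import Groth.Agent.ArSurf.K481.RatNum
import Groth.Agent.ArSurf.K481.FundDiv
import Groth.Agent.Models.H47.EulerStep
import Groth.Agent.ModelsG.H46.InterProd
import Groth.Agent.Dix.Cast1
import Groth.Agent.CurvesB.HZero
import Groth.Agent.S8730

/-!
# Euler characteristics of vertical divisors supported on a configuration of curves
-/

set_option autoImplicit false
universe u

open CategoryTheory CategoryTheory.Limits AlgebraicGeometry Opposite TopologicalSpace

namespace K481.RatChi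

open Groth.Agent Groth.Agent.Dix.IdealModCartier Groth.Agent.Dix.InterSurf Groth.Agent.Dix.IdealQuot
open Groth.Agent.Models.H47 Groth.Agent.Models.H47.EulerLen Groth.Agent.ModelsG.H46 RatNum

variable {R : Type u} [CommRing R] [IsDomain R] [IsDiscreteValuationRing R]
variable {X : Over (Spec (CommRingCat.of R))} {r : ℕ}

/-- The ideal of `Σ c_j Γ_j`. -/
noncomputable abbrev DD (Γ : Fin r → ArSurf.VertComp R X) (c : Fin r → ℕ) : X.left.IdealSheafData :=
  ∏ j, (Γ j).ι.ker ^ c j

/-- `(Γ_j · Γ_i)`. -/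
noncomputable def AA (Γ : Fin r → ArSurf.VertComp R X) (L : Fin r → X.left.Modules) (j i : Fin r) : ℤ :=
  ArSurf.inter R X (L j) (Γ i)

/-- `χ(O_{Γ_i})`. -/
noncomputable def ww (Γ : Fin r → ArSurf.VertComp R X) (i : Fin r) : ℤ :=
  (Models.wdeg R X (Γ i) : ℤ) - (Models.h1 R X (Γ i) : ℤ)

/-- `χ(O_{Σ c_j Γ_j})`. -/
noncomputable def ch (Γ : Fin r → ArSurf.VertComp R X) (c : Fin r → ℕ) : ℤ :=
  chi R (ClSub.quotMod (DD Γ c))

theorem DD_zero (Γ : Fin r → ArSurf.VertComp R X) : DD Γ 0 = 1 :=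
  Finset.prod_eq_one fun _ _ => pow_zero _

theorem DD_add (Γ : Fin r → ArSurf.VertComp R X) (a b : Fin r → ℕ) : DD Γ (a + b) = DD Γ a * DD Γ b := by
  unfold DD
  rw [← Finset.prod_mul_distrib]
  exact Finset.prod_congr rfl fun j _ => pow_add _ _ _

theorem DD_single (Γ : Fin r → ArSurf.VertComp R X) (i : Fin r) : DD Γ (Pi.single i 1) = (Γ i).ι.ker := by
  unfold DD
  rw [Finset.prod_eq_single i]
  · rw [Pi.single_eq_same, pow_one]
  · intro j _ hj
    rw [Pi.single_eq_of_ne hj, pow_zero]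
  · intro h
    exact absurd (Finset.mem_univ i) h

variable (hX : ArSurf.IsArithSurface R X) {Γ : Fin r → ArSurf.VertComp R X}
  (hΓ : Function.Injective fun i => Set.range ((Γ i).ι.base : (Γ i).curve.left → X.left))
  {L : Fin r → X.left.Modules} (hL : ∀ j, ClSub.IsInverseOf (L j) (ClSub.idealMod (Γ j).ι.ker))

include hL in
theorem isEff (j : Fin r) : BlowUp.IsEffCartierIdeal (Γ j).ι.ker := isEffCartierIdeal_of_isInverseOf (hL j)

include hL in
theorem isEff_DD (c : Fin r → ℕ) : BlowUp.IsEffCartierIdeal (DD Γ c) :=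
  isEff_prod (fun j => (Γ j).ι.ker) (fun j => isEff hL j) _ c

include hX hΓ hL in
theorem AA_symm (i j : Fin r) : AA Γ L i j = AA Γ L j i := by
  by_cases h : i = j
  · rw [h]
  · exact S8730.result R X hX (Γ j) (Γ i) (fun h' => h (hΓ h').symm) (L j) (L i) (hL j) (hL i)

include hX hΓ hL in
theorem AA_nonneg (i j : Fin r) (h : i ≠ j) : 0 ≤ AA Γ L i j :=
  (FundDiv.inter_nonneg hX (Γ j) (Γ i) (fun h' => h (hΓ h').symm) (hL i)).1

theorem ch_zero : ch Γ 0 = 0 := by
  unfold ch
  rw [DD_zero]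
  exact GenusD.quotMod_one.2

include hX hL in
theorem good (c : Fin r → ℕ) : Good R (ClSub.quotMod (DD Γ c)) := by
  have hp : IsProper X.hom := isProper_hom hX
  have hfl : Flat X.hom := hX.2.2.2.1
  exact GenusD.good_chi_prod (fun j => isEff hL j) (fun l => EulerStep.step (Γ l)) c

include hX hL in
theorem qd_eq (c : Fin r → ℕ) (i : Fin r) : GenusD.qd (Γ i) (DD Γ c) = - dot (AA Γ L) c i := by
  have hp : IsProper X.hom := isProper_hom hX
  exact InterProd.inter_idealMod_prod_of_inverse (Γ i) _ L hL c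

include hX hL in
theorem ch_step (c : Fin r → ℕ) (i : Fin r) :
    ch Γ (c + Pi.single i 1) = ch Γ c - dot (AA Γ L) c i + ww Γ i := by
  have hp : IsProper X.hom := isProper_hom hX
  have hfl : Flat X.hom := hX.2.2.2.1
  unfold ch
  rw [DD_add, DD_single, ((EulerStep.step (Γ i)) _ (isEff_DD hL c) (good hX hL c)).2, qd_eq hX hL]
  unfold ww
  ring


/-- The ring map from `R` to the functions on a closed subscheme. -/
noncomputable abbrev rr (D : X.left.IdealSheafData) : R →+* Γ(D.subscheme, ⊤) :=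
  Coh.toGlobal (D.subschemeι ≫ X.hom)

omit [IsDomain R] [IsDiscreteValuationRing R] in
/-- `H^0(X, O_X / D)` as an `R`-module. -/
theorem length_H0 (D : X.left.IdealSheafData) :
    (letI := (rr D).toAlgebra; Module.length R Γ(D.subscheme, ⊤)) =
      Module.length R (Coh.HH X.left (ClSub.quotMod D) 0) := by
  let _ := (rr D).toAlgebra
  let e : Coh.HH X.left (ClSub.quotMod D) 0 ≃+ Γ(D.subscheme, ⊤) := CurvesB.HZero.equivAdd (ClSub.quotMod D)
  have he : ∀ (t : R) (x : Coh.HH X.left (ClSub.quotMod D) 0), e (t • x) = t • e x := by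
    intro t x
    refine (CurvesB.HZero.equivAdd_smul_over (A := R) (ClSub.quotMod D) t x).trans ?_
    rfl
  let e' : Coh.HH X.left (ClSub.quotMod D) 0 ≃ₗ[R] Γ(D.subscheme, ⊤) := { e with map_smul' := he }
  exact e'.length_eq.symm

variable (hb : ∀ a : Fin r → ℕ, a ≠ 0 →
      Subsingleton (Coh.HH (DD Γ a).subscheme (Coh.structureModule (DD Γ a).subscheme) 1))

include hb in
theorem subsingleton_H1 (c : Fin r → ℕ) (hc : c ≠ 0) : Subsingleton (Coh.HH X.left (ClSub.quotMod (DD Γ c)) 1) :=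
  Dix.Cast1.subsingleton_HH_push (DD Γ c).subschemeι _ 1 (hb c hc)

include hX hL hb in
/-- The length of `H^0(O_C)`. -/
theorem length_eq (c : Fin r → ℕ) (hc : c ≠ 0) :
    0 < ch Γ c ∧ (letI := (rr (DD Γ c)).toAlgebra; Module.length R Γ((DD Γ c).subscheme, ⊤)) =
      ((ch Γ c).toNat : ℕ∞) := by
  rw [length_H0]
  have hg := (good hX hL c).1 0
  have h1 := subsingleton_H1 hb c hc
  have h2 : ch Γ c = ((Module.length R (Coh.HH X.left (ClSub.quotMod (DD Γ c)) 0)).toNat : ℤ) := by
    unfold ch chi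
    rw [Module.length_eq_zero (M := Coh.HH X.left (ClSub.quotMod (DD Γ c)) 1)]
    simp
  have hne : Nontrivial Γ((DD Γ c).subscheme, ⊤) := by
    obtain ⟨i, hi⟩ : ∃ i, c i ≠ 0 := by
      by_contra hcon
      push Not at hcon
      exact hc (funext hcon)
    have h3 : (DD Γ c) ≤ (Γ i).ι.ker := by
      have h4 : DD Γ c = (Γ i).ι.ker ^ c i * ∏ j ∈ Finset.univ.erase i, (Γ j).ι.ker ^ c j :=
        (Finset.mul_prod_erase _ _ (Finset.mem_univ i)).symm
      rw [h4]
      refine (mul_le_of_le_one_right' (by rw [Scheme.IdealSheafData.one_eq_top]; exact le_top)).trans ?_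
      calc (Γ i).ι.ker ^ c i ≤ (Γ i).ι.ker ^ 1 :=
            pow_le_pow_right_of_le_one' (by rw [Scheme.IdealSheafData.one_eq_top]; exact le_top) (Nat.one_le_iff_ne_zero.2 hi)
        _ = _ := pow_one _
    have : IsIntegral (Γ i).curve.left := (Γ i).isIntegral
    obtain ⟨y⟩ : Nonempty (Γ i).curve.left := inferInstance
    let g : (Γ i).curve.left ⟶ (DD Γ c).subscheme :=
      IsClosedImmersion.lift (DD Γ c).subschemeι (Γ i).ι (by rwa [(DD Γ c).ker_subschemeι])
    exact (g.appTop.hom).domain_nontrivial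
  have hpos : 0 < Module.length R (Coh.HH X.left (ClSub.quotMod (DD Γ c)) 0) := by
    rw [← length_H0]
    let _ := (rr (DD Γ c)).toAlgebra
    exact Module.length_pos
  have hft : Module.length R (Coh.HH X.left (ClSub.quotMod (DD Γ c)) 0) ≠ ⊤ := Module.length_ne_top_iff.2 hg
  obtain ⟨n, hn⟩ := ENat.ne_top_iff_exists.1 hft
  rw [← hn] at hpos h2 ⊢
  rw [ENat.toNat_natCast] at h2
  rw [h2, Int.toNat_natCast]
  exact ⟨by exact_mod_cast hpos, rfl⟩

end K481.RatChi
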