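import Groth.Agent.ArSurf.K481.RatLoc
import Groth.Agent.CurvesC.MVSec
import Groth.Agent.Dix.CastPic
import Groth.Agent.Dix.Cast5

set_option autoImplicit false
universe u

open CategoryTheory CategoryTheory.Limits AlgebraicGeometry Opposite TopologicalSpace

namespace K481.RatCoh

open Groth.Agent Groth.Agent.Dix.IdealModCartier Groth.Agent.Fdesc.LocGen Groth.Agent.Dix.IdealModSec RatLoc
open Groth.Agent.Grpsch.PicGrp Groth.Agent.Dix Groth.Agent.Dix.CastPic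

variable {X : Scheme.{u}}

/-- `H^1(W, D) = 0` gives the splitting of two-term cocycles. -/
theorem split_of_H1 {D : X.IdealSheafData} {W : X.Opens}
    (h1 : Subsingleton (Coh.HH W ((ClSub.idealMod D).restrict W.ι) 1)) : Split D W := by
  intro G1 G2 hG1 hG2 hcov c hc
  obtain ⟨s, rfl⟩ := mem_iff_val.1 hc
  have e0 : ∀ G : X.Opens, W.ι ''ᵁ (W.ι ⁻¹ᵁ G) = W ⊓ G := fun G => by
    rw [Scheme.Hom.image_preimage_eq_opensRange_inf, Scheme.Opens.opensRange_ι]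
  have e1 : W.ι ''ᵁ (W.ι ⁻¹ᵁ G1) = G1 := by rw [e0]; exact inf_eq_right.2 hG1
  have e2 : W.ι ''ᵁ (W.ι ⁻¹ᵁ G2) = G2 := by rw [e0]; exact inf_eq_right.2 hG2
  have e3 : W.ι ''ᵁ (W.ι ⁻¹ᵁ G1 ⊓ W.ι ⁻¹ᵁ G2) = G1 ⊓ G2 := by
    rw [← Scheme.Hom.preimage_inf, e0]; exact inf_eq_right.2 (inf_le_left.trans hG1)
  have hc2 : W.ι ⁻¹ᵁ G1 ⊔ W.ι ⁻¹ᵁ G2 = ⊤ := by
    rw [← Scheme.Hom.preimage_sup, eq_top_iff]
    rintro x -
    exact hcov x.2
  obtain ⟨a, b, hab⟩ := CurvesC.MVSec.exists_sub _ h1 hc2 (res (ClSub.idealMod D) e3.le s)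
  have hab' : res (ClSub.idealMod D) (show W.ι ''ᵁ (W.ι ⁻¹ᵁ G1 ⊓ W.ι ⁻¹ᵁ G2) ≤ W.ι ''ᵁ (W.ι ⁻¹ᵁ G1) from
      W.ι.opensFunctor.monotone inf_le_left) a - res (ClSub.idealMod D)
      (show W.ι ''ᵁ (W.ι ⁻¹ᵁ G1 ⊓ W.ι ⁻¹ᵁ G2) ≤ W.ι ''ᵁ (W.ι ⁻¹ᵁ G2) from
      W.ι.opensFunctor.monotone inf_le_right) b = res (ClSub.idealMod D) e3.le s := hab
  have h2 := congrArg (res (ClSub.idealMod D) e3.ge) hab'
  rw [map_sub, res_res, res_res, res_res, res_refl] at h2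
  refine ⟨val D (res (ClSub.idealMod D) e1.ge a), - val D (res (ClSub.idealMod D) e2.ge b),
    mem_iff_val.2 ⟨_, rfl⟩, ?_, ?_⟩
  · rw [← zero_sub]
    exact (Mem.zero D _).sub (mem_iff_val.2 ⟨_, rfl⟩)
  · rw [map_neg, ← sub_eq_add_neg, ← val_res, ← val_res, ← h2]
    simp only [res_res]
    exact (map_sub ((ClSub.idealModι D).app _).hom _ _).symm

theorem split_of_V1 {D : X.IdealSheafData} (hD : BlowUp.IsEffCartierIdeal D) {W : X.Opens}
    (h1 : V1 (pull W.ι (mk (ClSub.idealMod D) (isInvertible_idealMod hD)))) : Split D W := by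
  refine split_of_H1 ?_
  rw [pull_mk, V1_mk] at h1
  exact Groth.Agent.Flat2F.HHSeq.subsingleton_HH_of_iso
    ((Scheme.Modules.restrictFunctorIsoPullback W.ι).symm.app _) 1 h1

/-- Functions lift from a closed subscheme. -/
theorem surj_of_V1 {S E : Scheme.{u}} (ι : E ⟶ S) [IsClosedImmersion ι] (heff : BlowUp.IsEffCartierIdeal ι.ker)
    (h1 : V1 (idc ι heff)) : Function.Surjective ι.appTop := by
  intro c
  have hO : PicF.IsInvertible (Coh.structureModule S) := isInvertible_structureModule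
  have h2 : Subsingleton (Coh.HH S (CohB1.tensorMod (ClSub.idealMod ι.ker) (Coh.structureModule S)) 1) := by
    have hI := (isInvertible_idealMod_iff ι.ker).2 heff
    rw [← V1_mk (isInvertible_tensorMod hI hO), ← mk_mul_mk hI hO]
    have h3 : mk (Coh.structureModule S) hO = 1 := (mk_eq_one_iff hO).2 ⟨Iso.refl _⟩
    rw [h3, mul_one]
    exact h1
  have hg : IsGen (one (X := S) ⊤) := isGen_one ⊤
  obtain ⟨t, ht⟩ := Cast1.wp1_lift ι _ hO h2 (c • pullTop ι (one (X := S) ⊤))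
  obtain ⟨a, rfl⟩ := hg.exists_eq t
  refine ⟨a, (IsGen.pullTop ι hg).ext (Eq.trans ?_ ht)⟩
  exact (pullSec_smul ι a (one (X := S) ⊤)).symm

/-- The class of the ideal of a closed subscheme contained in the open `W`. -/
theorem pull_mk_lift {E : Scheme.{u}} (ι : E ⟶ X) [IsClosedImmersion ι] (heff : BlowUp.IsEffCartierIdeal ι.ker)
    (W : X.Opens) (ι' : E ⟶ W) (h : ι' ≫ W.ι = ι) [IsClosedImmersion ι'] :
    ∃ heff' : BlowUp.IsEffCartierIdeal ι'.ker, pull W.ι (idc ι heff) = idc ι' heff' := by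
  subst h
  exact Cast5.pull_idc W.ι ι' heff

theorem isClosedImmersion_lift {E : Scheme.{u}} (ι : E ⟶ X) [IsClosedImmersion ι] (W : X.Opens) (ι' : E ⟶ W)
    (h : ι' ≫ W.ι = ι) : IsClosedImmersion ι' := by
  subst h
  exact IsClosedImmersion.of_comp ι' W.ι

theorem exists_lift {E : Scheme.{u}} (ι : E ⟶ X) (W : X.Opens) (h : ⊤ ≤ ι ⁻¹ᵁ W) : ∃ ι' : E ⟶ W, ι' ≫ W.ι = ι := by
  refine ⟨IsOpenImmersion.lift W.ι ι ?_, IsOpenImmersion.lift_fac _ _ _⟩
  rw [Scheme.Opens.range_ι]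
  rintro _ ⟨x, rfl⟩
  exact h (Opens.mem_top x)

theorem ic_eq_idc {D : X.IdealSheafData} (hD : BlowUp.IsEffCartierIdeal D) :
    ∃ h : BlowUp.IsEffCartierIdeal D.subschemeι.ker,
      mk (ClSub.idealMod D) (isInvertible_idealMod hD) = idc D.subschemeι h := by
  have h0 : D.subschemeι.ker = D := D.ker_subschemeι
  have key : ∀ (D' : X.IdealSheafData) (_ : D' = D), ∃ h : BlowUp.IsEffCartierIdeal D',
      mk (ClSub.idealMod D) (isInvertible_idealMod hD) = mk (ClSub.idealMod D') (isInvertible_idealMod h) := by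
    rintro D' rfl
    exact ⟨hD, rfl⟩
  exact key _ h0

theorem surj_ι (W : X.Opens) (e1 : (⊤ : (W : Scheme.{u}).Opens) ≤ W.ι ⁻¹ᵁ W) (c : Γ(W, ⊤)) :
    ∃ a : Γ(X, W), (W.ι.appLE W ⊤ e1).hom a = c := by
  have h1 : W ≤ W.ι ''ᵁ ⊤ := by simp
  refine ⟨ores h1 c, ?_⟩
  rw [Scheme.Opens.ι_appLE]
  have h2 : ores (show W.ι ''ᵁ ⊤ ≤ W by simp) (ores h1 c) = c := by
    rw [ores_ores, ores_refl]
  exact h2

/-- Surjectivity of restriction to a closed subscheme inside `W`. -/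
theorem surj_appLE {D : X.IdealSheafData} (hD : BlowUp.IsEffCartierIdeal D) {W : X.Opens}
    (hW : ⊤ ≤ D.subschemeι ⁻¹ᵁ W)
    (h1 : V1 (pull W.ι (mk (ClSub.idealMod D) (isInvertible_idealMod hD)))) :
    Function.Surjective (D.subschemeι.appLE W ⊤ hW).hom := by
  obtain ⟨ι', hι⟩ := exists_lift D.subschemeι W hW
  have h2 := isClosedImmersion_lift D.subschemeι W ι' hι
  obtain ⟨h3, h4⟩ := ic_eq_idc hD
  obtain ⟨h5, h6⟩ := pull_mk_lift D.subschemeι h3 W ι' hι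
  rw [h4, h6] at h1
  have h7 := surj_of_V1 ι' h5 h1
  have e1 : (⊤ : (W : Scheme.{u}).Opens) ≤ W.ι ⁻¹ᵁ W := by simp
  have h8 : W.ι.appLE W ⊤ e1 ≫ ι'.app ⊤ = D.subschemeι.appLE W ⊤ hW := by
    rw [Scheme.Hom.app_eq_appLE, Scheme.Hom.appLE_comp_appLE]
    simp only [hι]
    rfl
  intro c
  obtain ⟨d, rfl⟩ := h7 c
  obtain ⟨a, rfl⟩ := surj_ι W e1 d
  refine ⟨a, ?_⟩
  rw [← h8]
  rfl

/-- The kernel of restriction to a closed subscheme. -/
theorem appLE_eq_zero_iff {D : X.IdealSheafData} {W : X.Opens} (hW : ⊤ ≤ D.subschemeι ⁻¹ᵁ W) (a : Γ(X, W)) :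
    (D.subschemeι.appLE W ⊤ hW).hom a = 0 ↔ Mem D a := by
  have h1 : (D.subschemeι.appLE W ⊤ hW).hom a = ores hW ((D.subschemeι.app W).hom a) := rfl
  constructor
  · intro h
    rw [h1] at h
    have h2 := congrArg (ores (show D.subschemeι ⁻¹ᵁ W ≤ ⊤ from le_top)) h
    rw [ores_ores, ores_refl, map_zero] at h2
    exact h2
  · intro h
    rw [h1]
    have h2 : (D.subschemeι.app W).hom a = 0 := h
    rw [h2, map_zero]

end K481.RatCoh
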