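import Groth.Agent.ArSurf.K481.RatChi
import Groth.Agent.ArSurf.K481.RatCoh
import Groth.Agent.ArSurf.K482.CurveVan
import Groth.Agent.Models.H65.PicDeg

/-!
# Vanishing of `H^1` near a configuration of curves: descent along the configuration
-/

set_option autoImplicit false
set_option backward.isDefEq.respectTransparency false
universe u

open CategoryTheory CategoryTheory.Limits AlgebraicGeometry Opposite TopologicalSpace

namespace K481.RatDesc

open Groth.Agent Groth.Agent.Dix.IdealModCartier Groth.Agent.Fdesc.LocGen RatChi RatNum RatCoh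
open Groth.Agent.Grpsch.PicGrp Groth.Agent.Dix Groth.Agent.Dix.CastPic Groth.Agent.Models.H65.PicDeg
open Groth.Agent.Models.H47 Groth.Agent.Dix.InterSurf

theorem V1_of_closed {S E : Scheme.{u}} (ι : E ⟶ S) [IsClosedImmersion ι] (heff : BlowUp.IsEffCartierIdeal ι.ker)
    (c : Pic S) (hE : V1 (pull ι c)) (h : V1 (c * idc ι heff)) : V1 c := by
  obtain ⟨N, hN, rfl⟩ := exists_mk c
  rw [V1_mk]
  rw [mul_comm, idc, mk_mul_mk, V1_mk] at h
  refine Cast1.wp1_H1 ι N hN h ?_
  rw [pull_mk, V1_mk] at hE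
  exact hE

variable {R : Type u} [CommRing R] [IsDomain R] [IsDiscreteValuationRing R]
variable {X : Over (Spec (CommRingCat.of R))} {r : ℕ}
variable (hX : ArSurf.IsArithSurface R X) {Γ : Fin r → ArSurf.VertComp R X}
  (hΓ : Function.Injective fun i => Set.range ((Γ i).ι.base : (Γ i).curve.left → X.left))
  {L : Fin r → X.left.Modules} (hL : ∀ j, ClSub.IsInverseOf (L j) (ClSub.idealMod (Γ j).ι.ker))

/-- The class of the ideal of `Σ c_j Γ_j`. -/
noncomputable def cls (c : Fin r → ℕ) : Pic X.left :=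
  mk (ClSub.idealMod (DD Γ c)) (isInvertible_idealMod (isEff_DD hL c))

theorem cls_add (a b : Fin r → ℕ) : cls hL (a + b) = cls hL a * cls hL b := by
  have h1 : BlowUp.IsEffCartierIdeal (DD Γ a * DD Γ b) := DD_add Γ a b ▸ isEff_DD hL (a + b)
  obtain ⟨e⟩ := idealMod_mul (isEff_DD hL a) (isEff_DD hL b)
  rw [cls, cls, cls, mk_mul_mk, mk_eq_iff]
  exact ⟨eqToIso (by rw [DD_add]) ≪≫ e.symm⟩

theorem cls_single (i : Fin r) : cls hL (Pi.single i 1) = idc (Γ i).ι (isEff hL i) := by
  rw [cls, idc, mk_eq_iff]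
  exact ⟨eqToIso (by rw [DD_single])⟩

include hX in
theorem deg_cls [IsProper X.hom] (c : Fin r → ℕ) (i : Fin r) : deg (Γ i) (cls hL c) = - dot (AA Γ L) c i :=
  qd_eq hX hL c i

theorem V1_curve [IsProper X.hom] (E : ArSurf.VertComp R X) (c : Pic X.left)
    (h : -2 * ((Models.wdeg R X E : ℤ) - (Models.h1 R X E : ℤ)) < deg E c) : V1 (pull E.ι c) := by
  have h1 := isProper_curve E
  have h2 : IsIntegral E.curve.left := E.isIntegral
  obtain ⟨N, hN, rfl⟩ := exists_mk c
  rw [pull_mk, V1_mk]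
  refine K482.CurveVan.H1_vanish (IsLocalRing.ResidueField R) E.curve.left E.dim_eq _ (isInvertible_pullback E.ι hN) ?_
  have h3 : FGA.eulerCharLE (IsLocalRing.ResidueField R) E.curve.left (Coh.structureModule E.curve.left) 1 =
      (Models.wdeg R X E : ℤ) - (Models.h1 R X E : ℤ) := by
    simp [FGA.eulerCharLE, Finset.sum_range_succ, ← sub_eq_add_neg, Models.wdeg, Models.h1]
  rw [h3]
  exact h

include hX in
/-- One step of the descent. -/
theorem descend {W : X.left.Opens} (i : Fin r) (hW : ⊤ ≤ (Γ i).ι ⁻¹ᵁ W) (c : Fin r → ℕ)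
    (hdot : dot (AA Γ L) c i < 2 * ww Γ i) (h : V1 (pull W.ι (cls hL (c + Pi.single i 1)))) :
    V1 (pull W.ι (cls hL c)) := by
  obtain ⟨ι', hι⟩ := exists_lift (Γ i).ι W hW
  have h2 := isClosedImmersion_lift (Γ i).ι W ι' hι
  obtain ⟨h5, h6⟩ := pull_mk_lift (Γ i).ι (isEff hL i) W ι' hι
  refine V1_of_closed ι' h5 _ ?_ ?_
  · have hp : IsProper X.hom := isProper_hom hX
    rw [← pull_comp, hι]
    refine V1_curve (Γ i) _ ?_
    rw [deg_cls hX hL]
    unfold ww at hdot
    linarith
  · rw [← h6, ← cls_single hL, ← map_mul, ← cls_add]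
    exact h

variable (hb : ∀ a : Fin r → ℕ, a ≠ 0 →
      Subsingleton (Coh.HH (DD Γ a).subscheme (Coh.structureModule (DD Γ a).subscheme) 1))

include hX hΓ hb in
/-- The descent. -/
theorem descend_all {W : X.left.Opens} (hW : ∀ i, ⊤ ≤ (Γ i).ι ⁻¹ᵁ W) (c : Fin r → ℕ)
    (hc : ∀ i, dot (AA Γ L) c i ≤ 0) (b : Fin r → ℕ) (h : V1 (pull W.ι (cls hL (c + b)))) :
    V1 (pull W.ι (cls hL c)) := by
  obtain ⟨N, hN⟩ : ∃ N, ∑ i, b i = N := ⟨_, rfl⟩
  induction N generalizing b with
  | zero =>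
    have hb0 : b = 0 := by
      funext i
      exact (Finset.sum_eq_zero_iff.1 hN) i (Finset.mem_univ i)
    rw [hb0, add_zero] at h
    exact h
  | succ N ih =>
    have hb0 : b ≠ 0 := by
      rintro rfl
      simp at hN
    obtain ⟨i, hi1, hi2⟩ := exists_lt (A := AA Γ L) (w := ww Γ) (χ := ch Γ) (AA_symm hX hΓ hL) (ch_zero)
      (ch_step hX hL) b (length_eq hX hL hb b hb0).1
    have hbe : b = (b - Pi.single i 1) + Pi.single i 1 := by
      funext j
      by_cases hj : j = i
      · subst hj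
        simp only [Pi.add_apply, Pi.sub_apply, Pi.single_eq_same]
        omega
      · simp [Pi.single_eq_of_ne hj]
    have hsum : ∑ j, b j = ∑ j, (b - Pi.single i 1 : Fin r → ℕ) j + ∑ j, (Pi.single i 1 : Fin r → ℕ) j := by
      rw [← Finset.sum_add_distrib]
      exact Finset.sum_congr rfl fun j _ => congrFun hbe j
    rw [Finset.sum_pi_single', if_pos (Finset.mem_univ i), hN] at hsum
    refine ih (b - Pi.single i 1) ?_ (by omega)
    refine descend hX hL i (hW i) _ ?_ ?_
    · have h1 : dot (AA Γ L) b i = dot (AA Γ L) (b - Pi.single i 1) i + AA Γ L i i := by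
        conv_lhs => rw [hbe]
        rw [dot_add, dot_single]
      rw [dot_add]
      have := hc i
      linarith
    · rw [add_assoc, ← hbe]
      exact h

end K481.RatDesc
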