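import Groth.Agent.ArSurf.K481.RatSec
import Groth.Agent.Ega4dA.CurveLine
import Groth.Agent.Ega2.FiniteSet

/-!
# Generators of an effective Cartier ideal near a finite set of points
-/

set_option autoImplicit false
universe u

open CategoryTheory CategoryTheory.Limits AlgebraicGeometry Opposite TopologicalSpace

namespace K481.RatFin

open Groth.Agent Groth.Agent.Dix.IdealModCartier Groth.Agent.Fdesc.LocGen RatLoc RatSec

section General

variable {S : Scheme.{u}}

theorem mem_gl_iff {D : S.IdealSheafData} {V W : S.Opens} {b : Γ(S, W)} (h : V ≤ W) {e β : Γ(S, V)}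
    (he : GenOn D e) (hb : ores h b = β * e) {x : S} (hx : x ∈ V) : x ∈ gl D b ↔ x ∈ S.basicOpen β := by
  refine ⟨fun hx' => ?_, fun hx' => basicOpen_le_gl h he hb hx'⟩
  let l1 : gl D b ⊓ V ≤ gl D b := inf_le_left
  let l2 : gl D b ⊓ V ≤ V := inf_le_right
  have hg : GenOn D (ores l2 β * ores l2 e) := by
    rw [← map_mul, ← hb, ores_ores]
    have h1 := (genOn_gl (D := D) b).res l1
    rw [ores_ores] at h1
    exact h1
  obtain ⟨γ, hγ⟩ := isUnit_of_genOn (he.res l2) hg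
  have h3 : IsUnit (ores l2 β) := IsUnit.of_mul_eq_one_right γ hγ
  have h4 : x ∈ S.basicOpen (ores l2 β) := by
    rw [Scheme.basicOpen_of_isUnit _ h3]
    exact ⟨hx', hx⟩
  have h5 : S.basicOpen (ores l2 β) = (gl D b ⊓ V) ⊓ S.basicOpen β := Scheme.basicOpen_res _ _ _
  rw [h5] at h4
  exact h4.2

/-- The sections of `D` over `U`, not generating at `x`, form a submodule. -/
theorem add_notMem {D : S.IdealSheafData} (hD : BlowUp.IsEffCartierIdeal D) {W : S.Opens} {b c : Γ(S, W)}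
    (hb : Mem D b) (hc : Mem D c) {x : S} (hx : x ∈ W) (hb' : x ∉ gl D b) (hc' : x ∉ gl D c) :
    x ∉ gl D (b + c) := by
  obtain ⟨U₀, a₀, hxU₀, ha₀⟩ := exists_genOn hD x
  obtain ⟨U, hxU, hU⟩ := exists_affine_mem_le (U₀.1 ⊓ W) x ⟨hxU₀, hx⟩
  have he : GenOn D (ores (hU.trans inf_le_left) a₀) := ha₀.res _
  have hUW : U.1 ≤ W := hU.trans inf_le_right
  obtain ⟨β, hβ⟩ := exists_div he (hb.res hUW)
  obtain ⟨γ, hγ⟩ := exists_div he (hc.res hUW)
  have hβγ : ores hUW (b + c) = (β + γ) * ores (hU.trans inf_le_left) a₀ := by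
    rw [map_add, hβ, hγ, add_mul]
  rw [mem_gl_iff hUW he hβ hxU, Scheme.mem_basicOpen _ _ _ hxU] at hb'
  rw [mem_gl_iff hUW he hγ hxU, Scheme.mem_basicOpen _ _ _ hxU] at hc'
  rw [mem_gl_iff hUW he hβγ hxU, Scheme.mem_basicOpen _ _ _ hxU, map_add]
  exact fun h => (IsLocalRing.mem_maximalIdeal _).1 (Ideal.add_mem _ ((IsLocalRing.mem_maximalIdeal _).2 hb')
    ((IsLocalRing.mem_maximalIdeal _).2 hc')) h

theorem mul_notMem {D : S.IdealSheafData} (hD : BlowUp.IsEffCartierIdeal D) {W : S.Opens} {b c : Γ(S, W)}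
    (hb : Mem D b) {x : S} (hx : x ∈ W) (hb' : x ∉ gl D b) :
    x ∉ gl D (c * b) := by
  obtain ⟨U₀, a₀, hxU₀, ha₀⟩ := exists_genOn hD x
  obtain ⟨U, hxU, hU⟩ := exists_affine_mem_le (U₀.1 ⊓ W) x ⟨hxU₀, hx⟩
  have he : GenOn D (ores (hU.trans inf_le_left) a₀) := ha₀.res _
  have hUW : U.1 ≤ W := hU.trans inf_le_right
  obtain ⟨β, hβ⟩ := exists_div he (hb.res hUW)
  have hβγ : ores hUW (c * b) = (ores hUW c * β) * ores (hU.trans inf_le_left) a₀ := by
    rw [map_mul, hβ, mul_assoc]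
  rw [mem_gl_iff hUW he hβ hxU, Scheme.mem_basicOpen _ _ _ hxU] at hb'
  rw [mem_gl_iff hUW he hβγ hxU, Scheme.mem_basicOpen _ _ _ hxU, map_mul]
  exact fun h => hb' (isUnit_of_mul_isUnit_right h)

theorem zero_notMem {D : S.IdealSheafData} (hD : BlowUp.IsEffCartierIdeal D) {W : S.Opens} {x : S} (hx : x ∈ W) :
    x ∉ gl D (0 : Γ(S, W)) := by
  obtain ⟨U₀, a₀, hxU₀, ha₀⟩ := exists_genOn hD x
  obtain ⟨U, hxU, hU⟩ := exists_affine_mem_le (U₀.1 ⊓ W) x ⟨hxU₀, hx⟩
  have he : GenOn D (ores (hU.trans inf_le_left) a₀) := ha₀.res _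
  have hUW : U.1 ≤ W := hU.trans inf_le_right
  have hβ : ores hUW (0 : Γ(S, W)) = 0 * ores (hU.trans inf_le_left) a₀ := by rw [map_zero, zero_mul]
  rw [mem_gl_iff hUW he hβ hxU, Scheme.basicOpen_zero]
  exact fun h => h

/-- On an affine open, the sections of `D` generate at every point. -/
theorem exists_mem_gl {D : S.IdealSheafData} (hD : BlowUp.IsEffCartierIdeal D) {U : S.Opens} (hU : IsAffineOpen U)
    {x : S} (hx : x ∈ U) : ∃ e : Γ(S, U), Mem D e ∧ x ∈ gl D e := by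
  obtain ⟨V, a, hxV, ha⟩ := exists_genOn hD x
  obtain ⟨f, g, e, hf⟩ := exists_basicOpen_le_affine_inter hU V.2 x ⟨hx, hxV⟩
  have hfV : S.basicOpen f ≤ V.1 := by rw [e]; exact S.basicOpen_le g
  have hfU : S.basicOpen f ≤ U := S.basicOpen_le f
  let a' : Γ(S, S.basicOpen f) := ores hfV a
  have ha' : GenOn D a' := ha.res hfV
  have h1 : a' ∈ D.ideal (S.affineBasicOpen (U := ⟨U, hU⟩) f) :=
    mem_affine (U := S.affineBasicOpen (U := ⟨U, hU⟩) f).1 (mem_of_genOn ha')
  rw [← D.map_ideal_basicOpen ⟨U, hU⟩ f] at h1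
  have hloc := hU.isLocalization_basicOpen f
  let _ := (S.presheaf.map (homOfLE hfU).op).hom.toAlgebra
  have h2 : a' ∈ Ideal.map (algebraMap Γ(S, U) Γ(S, S.basicOpen f)) (D.ideal ⟨U, hU⟩) := h1
  have hloc' : IsLocalization.Away f Γ(S, S.basicOpen f) := hloc
  rw [IsLocalization.mem_map_algebraMap_iff (Submonoid.powers f)] at h2
  obtain ⟨⟨⟨c, hc⟩, ⟨_, n, rfl⟩⟩, h3⟩ := h2
  have h3' : a' * ores hfU (f ^ n) = ores hfU c := h3
  refine ⟨c, (mem_affine (U := ⟨U, hU⟩)).2 hc, ?_⟩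
  have h4 : ores hfU c = ores hfU (f ^ n) * a' := by rw [← h3', mul_comm]
  rw [mem_gl_iff hfU ha' h4 hf, Scheme.basicOpen_of_isUnit]
  · exact hf
  · rw [map_pow]
    exact (S.toRingedSpace.isUnit_res_basicOpen f).pow n

end General

variable {R : Type u} [CommRing R]
variable {X : Over (Spec (CommRingCat.of R))}

theorem exists_gen_finite [IsLocalRing R] [Infinite (IsLocalRing.ResidueField R)] {D : X.left.IdealSheafData}
    (hD : BlowUp.IsEffCartierIdeal D) {U : X.left.Opens} (hU : IsAffineOpen U) (F : Set X.left) (hF : F.Finite)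
    (hFU : F ⊆ U) : ∃ e : Γ(X.left, U), Mem D e ∧ ∀ x ∈ F, x ∈ gl D e := by
  let _ := (rW U).toAlgebra
  have : Finite F := hF
  let M : Submodule R Γ(X.left, U) := (JJ D U).restrictScalars R
  let N : F → Submodule R M := fun x =>
    { carrier := {e | x.1 ∉ gl D e.1}
      add_mem' := fun {a b} ha hb => add_notMem hD a.2 b.2 (hFU x.2) ha hb
      zero_mem' := zero_notMem hD (hFU x.2)
      smul_mem' := fun c e he => by
        have h1 : ((c • e : M) : Γ(X.left, U)) = rW U c * e.1 := rfl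
        change x.1 ∉ gl D (c • e : M).1
        rw [h1]
        exact mul_notMem hD e.2 (hFU x.2) he }
  obtain ⟨e, he⟩ := exists_forall_notMem N (by
    intro x
    obtain ⟨e, he1, he2⟩ := exists_mem_gl hD hU (hFU x.2)
    exact ⟨⟨e, he1⟩, fun h => h he2⟩)
  refine ⟨e.1, e.2, fun x hx => ?_⟩
  by_contra hcon
  exact he ⟨x, hx⟩ hcon

/-- The complement of a nonempty open in an integral curve is finite. -/
theorem finite_compl {T : Scheme.{u}} [IsIntegral T] [NoetherianSpace T] (hdim : topologicalKrullDim T ≤ 1)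
    {U : T.Opens} (hU : (U : Set T).Nonempty) : ((U : Set T)ᶜ).Finite := by
  refine Ega4dA.CurveLine.finite_compl hdim fun y hy => ⟨genericPoint T, genericPoint_specializes y, ?_⟩
  rintro rfl
  exact hy (((genericPoint_spec T).mem_open_set_iff U.isOpen).2 (by simpa using hU))

end K481.RatFin
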