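import Groth.Agent.ArSurf.K481.RatLoc

set_option autoImplicit false
universe u

open CategoryTheory CategoryTheory.Limits AlgebraicGeometry Opposite TopologicalSpace

namespace K481.RatLoc

open Groth.Agent Groth.Agent.Dix.IdealModCartier Groth.Agent.Fdesc.LocGen Groth.Agent.Dix.IdealModSec

variable {X : Scheme.{u}}

/-- The locus where `b` generates `D`. -/
def gl (D : X.IdealSheafData) {W : X.Opens} (b : Γ(X, W)) : X.Opens :=
  sSup {V | ∃ h : V ≤ W, GenOn D (ores h b)}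

theorem gl_le (D : X.IdealSheafData) {W : X.Opens} (b : Γ(X, W)) : gl D b ≤ W :=
  sSup_le fun _ ⟨h, _⟩ => h

theorem le_gl {D : X.IdealSheafData} {V W : X.Opens} {b : Γ(X, W)} (h : V ≤ W) (hV : GenOn D (ores h b)) :
    V ≤ gl D b :=
  le_sSup ⟨h, hV⟩

theorem mem_gl {D : X.IdealSheafData} {W : X.Opens} {b : Γ(X, W)} {x : X} :
    x ∈ gl D b ↔ ∃ (V : X.Opens) (h : V ≤ W), x ∈ V ∧ GenOn D (ores h b) := by
  unfold gl
  rw [Opens.mem_sSup]
  constructor
  · rintro ⟨V, ⟨h, hV⟩, hx⟩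
    exact ⟨V, h, hx, hV⟩
  · rintro ⟨V, h, hx, hV⟩
    exact ⟨V, ⟨h, hV⟩, hx⟩

theorem genOn_gl {D : X.IdealSheafData} {W : X.Opens} (b : Γ(X, W)) : GenOn D (ores (gl_le D b) b) := by
  refine genOn_of_local fun x hx => ?_
  obtain ⟨V, h, hxV, hV⟩ := mem_gl.1 hx
  refine ⟨V, le_gl h hV, hxV, ?_⟩
  rw [ores_ores]
  exact hV

theorem inf_le_gl_res {D : X.IdealSheafData} {V W : X.Opens} (b : Γ(X, W)) (h : V ≤ W) :
    gl D b ⊓ V ≤ gl D (ores h b) := by
  refine le_gl inf_le_right ?_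
  rw [ores_ores]
  have h1 := (genOn_gl (D := D) b).res (inf_le_left : gl D b ⊓ V ≤ gl D b)
  rw [ores_ores] at h1
  exact h1

/-- Multiplying a generator by a unit. -/
theorem genOn_unit_mul {D : X.IdealSheafData} {U : X.Opens} {a c : Γ(X, U)} (ha : GenOn D a) (hc : IsUnit c) :
    GenOn D (c * a) := by
  intro W hW
  have h1 : IsUnit (ores hW c) := hc.map _
  rw [map_mul]
  refine ⟨mul_mem h1.mem_nonZeroDivisors (ha W hW).1, ?_⟩
  rw [(ha W hW).2, Ideal.span_singleton_mul_left_unit h1]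

theorem isUnit_of_genOn {D : X.IdealSheafData} {U : X.Opens} {a c : Γ(X, U)} (ha : GenOn D a)
    (hc : GenOn D (c * a)) : ∃ d : Γ(X, U), d * c = 1 := by
  obtain ⟨d, hd⟩ := exists_div hc (mem_of_genOn ha)
  refine ⟨d, ha.cancel ?_⟩
  rw [one_mul, mul_assoc, ← hd]

theorem basicOpen_le_gl {D : X.IdealSheafData} {U W : X.Opens} {b : Γ(X, W)} (h : U ≤ W) {e β : Γ(X, U)}
    (he : GenOn D e) (hb : ores h b = β * e) : X.basicOpen β ≤ gl D b := by
  refine le_gl ((X.basicOpen_le β).trans h) ?_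
  rw [← ores_ores h (X.basicOpen_le β), hb, map_mul]
  exact genOn_unit_mul (he.res _) (X.toRingedSpace.isUnit_res_basicOpen β)

/-- If `b₁` generates `D` outside of `U`, there is a section generating `D` where `b₁` does not. -/
theorem exists_second {D : X.IdealSheafData} {U W : X.Opens} (hU : U ≤ W) {b₁ : Γ(X, W)}
    (hcov : W ≤ gl D b₁ ⊔ U) {e : Γ(X, U)} (he : GenOn D e) (hb₁ : Mem D b₁) (hs : Split 1 W) :
    ∃ b₂ : Γ(X, W), Mem D b₂ ∧ ∀ x ∈ U, x ∉ gl D b₁ → x ∈ gl D b₂ := by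
  obtain ⟨β, hβ⟩ := exists_div he (hb₁.res hU)
  let l1 : gl D b₁ ⊓ U ≤ gl D b₁ := inf_le_left
  let l2 : gl D b₁ ⊓ U ≤ U := inf_le_right
  have hg : GenOn D (ores l2 β * ores l2 e) := by
    rw [← map_mul, ← hβ, ores_ores]
    have h1 := (genOn_gl (D := D) b₁).res l1
    rw [ores_ores] at h1
    exact h1
  obtain ⟨γ, hγ⟩ := isUnit_of_genOn (he.res l2) hg
  obtain ⟨u1, u0, -, -, hu⟩ := hs _ _ (gl_le D b₁) hU hcov γ (mem_one γ)
  obtain ⟨b₂, h1, h2⟩ := exists_glue (gl_le D b₁) hU hcov (ores (gl_le D b₁) b₁ * u1) ((1 - β * u0) * e) (by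
    rw [map_mul, map_mul, map_sub, map_mul, map_one, ores_ores]
    have h3 : ores (l1.trans (gl_le D b₁)) b₁ = ores l2 β * ores l2 e := by
      rw [← map_mul, ← hβ, ores_ores]
    have h4 : ores l1 u1 = γ - ores l2 u0 := by rw [← hu]; ring
    change ores (l1.trans (gl_le D b₁)) b₁ * ores l1 u1 = (1 - ores l2 β * ores l2 u0) * ores l2 e
    rw [h3, h4]
    linear_combination (ores l2 e) * hγ)
  refine ⟨b₂, mem_of_two (gl_le D b₁) hU hcov ?_ ?_, fun x hx hx' => ?_⟩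
  · rw [h1, mul_comm]
    exact (hb₁.res _).mul_left _
  · rw [h2]
    exact (mem_of_genOn he).mul_left _
  · refine basicOpen_le_gl hU he h2 ?_
    have h3 : x ∉ X.basicOpen β := fun h => hx' (basicOpen_le_gl hU he hβ h)
    rw [Scheme.mem_basicOpen _ _ _ hx] at h3 ⊢
    by_contra hcon
    have h4 : X.presheaf.germ U x hx β * X.presheaf.germ U x hx u0 ∈ IsLocalRing.maximalIdeal _ :=
      Ideal.mul_mem_right _ _ ((IsLocalRing.mem_maximalIdeal _).2 h3)
    have h5 : X.presheaf.germ U x hx (1 - β * u0) ∈ IsLocalRing.maximalIdeal _ :=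
      (IsLocalRing.mem_maximalIdeal _).2 hcon
    rw [map_sub, map_one, map_mul] at h5
    have h6 := Ideal.add_mem _ h5 h4
    rw [sub_add_cancel] at h6
    exact (Ideal.ne_top_iff_one _).1 (IsLocalRing.maximalIdeal.isMaximal _).ne_top h6

/-- If `b` is a section of `D` generating nowhere on the reduced closed subscheme `E`, then `b` is a section
of `D * I_E`. -/
theorem mem_mul_of_gl {D : X.IdealSheafData} (hD : BlowUp.IsEffCartierIdeal D) {E : Scheme.{u}} (ι : E ⟶ X)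
    [IsReduced E] [QuasiCompact ι] {W : X.Opens} {b : Γ(X, W)} (hb : Mem D b) (h : ∀ z : E, ι z ∉ gl D b) :
    Mem (D * ι.ker) b := by
  refine mem_of_local fun x hx => ?_
  obtain ⟨U₀, a₀, hxU₀, ha₀⟩ := exists_genOn hD x
  obtain ⟨U, hxU, hU⟩ := exists_affine_mem_le (U₀.1 ⊓ W) x ⟨hxU₀, hx⟩
  let e := ores (hU.trans inf_le_left) a₀
  have he : GenOn D e := ha₀.res _
  let hUW : U.1 ≤ W := hU.trans inf_le_right
  obtain ⟨β, hβ⟩ := exists_div he (hb.res hUW)
  refine ⟨U.1, hUW, hxU, ?_⟩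
  rw [hβ, mul_comm D]
  refine Mem.mul ?_ (mem_of_genOn he)
  rw [mem_affine, Scheme.Hom.ker_apply, RingHom.mem_ker]
  have h1 : E.basicOpen ((ι.app U.1).hom β) = ⊥ := by
    rw [eq_bot_iff]
    intro z hz
    have h2 : z ∈ ι ⁻¹ᵁ X.basicOpen β := by
      rw [Scheme.preimage_basicOpen]
      exact hz
    exact (h z (basicOpen_le_gl hUW he hβ h2)).elim
  exact eq_zero_of_basicOpen_eq_bot _ h1

/-- If `b` is a section of `D` whose restriction to `E` vanishes then `b` is a section of `D * I_E`. -/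
theorem mem_mul_of_pullSec {D : X.IdealSheafData} (hD : BlowUp.IsEffCartierIdeal D) {E : Scheme.{u}} (ι : E ⟶ X)
    [QuasiCompact ι] {W : X.Opens} {s : Γ(ClSub.idealMod D, W)} (h : pullSec ι s = 0) :
    Mem (D * ι.ker) (val D s) := by
  refine mem_of_local fun x hx => ?_
  obtain ⟨U₀, a₀, hxU₀, ha₀⟩ := exists_genOn hD x
  obtain ⟨U, hxU, hU⟩ := exists_affine_mem_le (U₀.1 ⊓ W) x ⟨hxU₀, hx⟩
  let a := ores (hU.trans inf_le_left) a₀
  have ha : GenOn D a := ha₀.res _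
  obtain ⟨e, he⟩ := mem_iff_val.1 (mem_of_genOn ha)
  have hge : IsGen e := isGen_of_genOn (he.symm ▸ ha)
  let hUW : U.1 ≤ W := hU.trans inf_le_right
  obtain ⟨β, hβ⟩ := hge.exists_eq (res _ hUW s)
  refine ⟨U.1, hUW, hxU, ?_⟩
  rw [← val_res, hβ, val_smul, he, mul_comm D]
  refine Mem.mul ?_ (mem_of_genOn ha)
  rw [mem_affine, Scheme.Hom.ker_apply, RingHom.mem_ker]
  have h1 : pullSec ι (res _ hUW s) = 0 := by
    rw [← res_pullSec, h, map_zero]
  rw [hβ, pullSec_smul] at h1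
  refine (hge.pullSec ι).ext ?_
  rw [zero_smul]
  exact h1

end K481.RatLoc
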