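import Groth.Agent.ArSurf.K481.RatPair
import Groth.Agent.ArSurf.K480.Contr
import Mathlib.RingTheory.Localization.AtPrime.Basic

/-!
# Powers of the maximal ideal of a rational singularity
-/

set_option autoImplicit false
universe u

open CategoryTheory CategoryTheory.Limits AlgebraicGeometry Opposite TopologicalSpace

namespace K481.RatHilb

open Groth.Agent Groth.Agent.Dix.IdealModCartier Groth.Agent.Fdesc.LocGen RatChi RatNum RatCoh RatDesc RatLoc RatSec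
open RatFin RatNear RatPair
open Groth.Agent.Grpsch.PicGrp Groth.Agent.Dix Groth.Agent.Dix.CastPic Groth.Agent.Models.H65.PicDeg
open Groth.Agent.Models.H47 Groth.Agent.Dix.InterSurf

theorem length_local {R C B A : Type u} [CommRing R] [CommRing C] [CommRing B] [CommRing A] [IsLocalRing A]
    (rC : R →+* C) (φ : C →+* B) (hφ : Function.Bijective φ) (g : C →+* A) (q : Ideal C) [q.IsMaximal]
    (hg : letI := g.toAlgebra; IsLocalization.AtPrime A q) (J : Ideal B) (hJ : q = J.comap φ) (n : ℕ) :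
    (letI := (g.comp rC).toAlgebra; Module.length R (A ⧸ IsLocalRing.maximalIdeal A ^ n)) =
      (letI := (φ.comp rC).toAlgebra; Module.length R (B ⧸ J ^ n)) := by
  let _ := g.toAlgebra
  let e1 : (C ⧸ q ^ n) ≃+* A ⧸ IsLocalRing.maximalIdeal A ^ n :=
    (IsLocalization.AtPrime.equivQuotMaximalIdealPow q A n).toRingEquiv
  have he1 : ∀ c : C, e1 (Ideal.Quotient.mk _ c) = Ideal.Quotient.mk _ (g c) := fun c =>
    IsLocalization.AtPrime.equivQuotMaximalIdealPow_apply_mk q A n c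
  let φ' : C ≃+* B := RingEquiv.ofBijective φ hφ
  have hJ2 : J ^ n = (q ^ n).map (φ' : C →+* B) := by
    have h1 : (φ' : C →+* B) = φ := rfl
    rw [h1, Ideal.map_pow, hJ, Ideal.map_comap_of_surjective φ hφ.2]
  let e2 : (C ⧸ q ^ n) ≃+* B ⧸ J ^ n := Ideal.quotientEquiv _ _ φ' hJ2
  have he2 : ∀ c : C, e2 (Ideal.Quotient.mk _ c) = Ideal.Quotient.mk _ (φ c) := fun c => rfl
  let e := e1.symm.trans e2
  have he : ∀ c : C, e (Ideal.Quotient.mk _ (g c)) = Ideal.Quotient.mk _ (φ c) := by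
    intro c
    change e2 (e1.symm _) = _
    rw [← he1, RingEquiv.symm_apply_apply, he2]
  let _ := (g.comp rC).toAlgebra
  let _ := (φ.comp rC).toAlgebra
  have hlin : ∀ (t : R) (x : A ⧸ IsLocalRing.maximalIdeal A ^ n), e (t • x) = t • e x := by
    intro t x
    obtain ⟨b, rfl⟩ := Ideal.Quotient.mk_surjective x
    have h1 : t • (Ideal.Quotient.mk (IsLocalRing.maximalIdeal A ^ n) b) =
        Ideal.Quotient.mk (IsLocalRing.maximalIdeal A ^ n) (g (rC t) * b) := rfl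
    have h2 : ∀ w : B ⧸ J ^ n, t • w = Ideal.Quotient.mk (J ^ n) (φ (rC t)) * w := by
      intro w
      obtain ⟨w, rfl⟩ := Ideal.Quotient.mk_surjective w
      rfl
    rw [h1, map_mul, map_mul, he, h2]
  exact ({ e.toAddEquiv with map_smul' := hlin } : (A ⧸ IsLocalRing.maximalIdeal A ^ n) ≃ₗ[R] (B ⧸ J ^ n)).length_eq

variable {R : Type u} [CommRing R] [IsDomain R] [IsDiscreteValuationRing R]
variable {X : Over (Spec (CommRingCat.of R))} {r : ℕ}
variable (hX : ArSurf.IsArithSurface R X) {Γ : Fin r → ArSurf.VertComp R X}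
  (hΓ : Function.Injective fun i => Set.range ((Γ i).ι.base : (Γ i).curve.left → X.left))
  {L : Fin r → X.left.Modules} (hL : ∀ j, ClSub.IsInverseOf (L j) (ClSub.idealMod (Γ j).ι.ker))

theorem DD_nsmul_succ (z : Fin r → ℕ) (n : ℕ) : DD Γ ((n + 1) • z) = DD Γ z * DD Γ (n • z) := by
  rw [succ_nsmul, DD_add, mul_comm]

/-- The Koszul step. -/
theorem JJ_step {W : X.left.Opens} (z : Fin r → ℕ) (hz : ∀ i, dot (AA Γ L) z i ≤ 0)
    (hV1 : ∀ c : Fin r → ℕ, (∀ i, dot (AA Γ L) c i ≤ 0) → V1 (pull W.ι (cls hL c)))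
    (b₁ b₂ : Γ(X.left, W)) (hb₁ : Mem (DD Γ z) b₁) (hb₂ : Mem (DD Γ z) b₂)
    (hcov : W ≤ gl (DD Γ z) b₁ ⊔ gl (DD Γ z) b₂) (n : ℕ) :
    JJ (DD Γ ((n + 2) • z)) W = JJ (DD Γ z) W * JJ (DD Γ ((n + 1) • z)) W := by
  apply le_antisymm
  · intro s hs
    have hspl : Split (DD Γ (n • z)) W := split_of_V1 (isEff_DD hL _) (hV1 _ fun i => by
      rw [dot_smul]
      exact mul_nonpos_of_nonneg_of_nonpos (Int.natCast_nonneg _) (hz i))
    have hs' : Mem (DD Γ z * (DD Γ z * DD Γ (n • z))) s := by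
      rw [← DD_nsmul_succ, ← DD_nsmul_succ]
      exact hs
    obtain ⟨t1, t2, ht1, ht2, rfl⟩ := koszul (gl_le _ b₁) (gl_le _ b₂) hcov hb₁ hb₂ (genOn_gl b₁) (genOn_gl b₂)
      hspl hs'
    rw [← DD_nsmul_succ] at ht1 ht2
    rw [mul_comm (JJ _ _)]
    exact Ideal.add_mem _ (Ideal.mul_mem_mul (mem_JJ.2 ht1) (mem_JJ.2 hb₁)) (Ideal.mul_mem_mul (mem_JJ.2 ht2) (mem_JJ.2 hb₂))
  · rw [Ideal.mul_le]
    intro s hs t ht
    rw [mem_JJ, DD_nsmul_succ z (n + 1)]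
    exact Mem.mul hs ht

theorem JJ_pow {W : X.left.Opens} (z : Fin r → ℕ) (hz : ∀ i, dot (AA Γ L) z i ≤ 0)
    (hV1 : ∀ c : Fin r → ℕ, (∀ i, dot (AA Γ L) c i ≤ 0) → V1 (pull W.ι (cls hL c)))
    (b₁ b₂ : Γ(X.left, W)) (hb₁ : Mem (DD Γ z) b₁) (hb₂ : Mem (DD Γ z) b₂)
    (hcov : W ≤ gl (DD Γ z) b₁ ⊔ gl (DD Γ z) b₂) (n : ℕ) :
    JJ (DD Γ ((n + 1) • z)) W = JJ (DD Γ z) W ^ (n + 1) := by
  induction n with
  | zero => rw [zero_add, one_smul, pow_one]
  | succ n ih => rw [JJ_step hL z hz hV1 b₁ b₂ hb₁ hb₂ hcov n, ih, pow_succ' _ (n + 1)]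

end K481.RatHilb
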