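import Groth.Agent.Dix.IdealModCartier
import Groth.Agent.Dix.Cast1

/-!
# Functions belonging to an ideal sheaf on an open set

`Mem D a` for `a : Γ(X, U)`: the function `a` is a section of the ideal sheaf `D` over `U` (`U` arbitrary).
-/

set_option autoImplicit false
universe u

open CategoryTheory CategoryTheory.Limits AlgebraicGeometry Opposite TopologicalSpace

namespace K481.RatLoc

open Groth.Agent Groth.Agent.Dix.IdealModCartier Groth.Agent.Fdesc.LocGen Groth.Agent.Dix.IdealModSec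

variable {X : Scheme.{u}}

/-- `a` is a section of `D`. -/
def Mem (D : X.IdealSheafData) {U : X.Opens} (a : Γ(X, U)) : Prop := (D.subschemeι.app U).hom a = 0

theorem mem_iff_val {D : X.IdealSheafData} {U : X.Opens} {a : Γ(X, U)} :
    Mem D a ↔ ∃ s : Γ(ClSub.idealMod D, U), val D s = a := by
  constructor
  · intro h
    exact exists_of_subschemeι_app_eq_zero D U a h
  · rintro ⟨s, rfl⟩
    exact subschemeι_app_idealModι D U s

theorem Mem.res {D : X.IdealSheafData} {U V : X.Opens} {a : Γ(X, U)} (h : Mem D a) (hV : V ≤ U) :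
    Mem D (ores hV a) := by
  rw [mem_iff_val] at h ⊢
  obtain ⟨s, rfl⟩ := h
  exact ⟨Groth.Agent.Fdesc.LocGen.res _ hV s, val_res D hV s⟩

theorem mem_affine {D : X.IdealSheafData} {U : X.affineOpens} {a : Γ(X, U.1)} :
    Mem D a ↔ a ∈ D.ideal U := by
  rw [← D.ker_subschemeι_app U]
  rfl

theorem mem_of_local {D : X.IdealSheafData} {U : X.Opens} {a : Γ(X, U)}
    (h : ∀ x ∈ U, ∃ (V : X.Opens) (e : V ≤ U), x ∈ V ∧ Mem D (ores e a)) : Mem D a := by
  refine Groth.Agent.Divis.IdealFT.subschemeι_app_eq_zero D U a fun x hx => ?_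
  obtain ⟨V, e, hxV, hV⟩ := h x hx
  obtain ⟨W, hxW, hWV⟩ := exists_affine_mem_le V x hxV
  refine ⟨W, hWV.trans e, hxW, ?_⟩
  have h1 := hV.res hWV
  rw [ores_ores, mem_affine] at h1
  exact h1

theorem Mem.zero (D : X.IdealSheafData) (U : X.Opens) : Mem D (0 : Γ(X, U)) := map_zero _

theorem Mem.add {D : X.IdealSheafData} {U : X.Opens} {a b : Γ(X, U)} (ha : Mem D a) (hb : Mem D b) :
    Mem D (a + b) := by
  unfold Mem at *
  rw [map_add, ha, hb, add_zero]

theorem Mem.sub {D : X.IdealSheafData} {U : X.Opens} {a b : Γ(X, U)} (ha : Mem D a) (hb : Mem D b) :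
    Mem D (a - b) := by
  unfold Mem at *
  rw [map_sub, ha, hb, sub_zero]

theorem Mem.mul_left {D : X.IdealSheafData} {U : X.Opens} {a : Γ(X, U)} (ha : Mem D a) (c : Γ(X, U)) :
    Mem D (c * a) := by
  unfold Mem at *
  rw [map_mul, ha, mul_zero]

theorem Mem.mul {D E : X.IdealSheafData} {U : X.Opens} {a b : Γ(X, U)} (ha : Mem D a) (hb : Mem E b) :
    Mem (D * E) (a * b) := by
  refine mem_of_local fun x hx => ?_
  obtain ⟨W, hxW, hW⟩ := exists_affine_mem_le U x hx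
  refine ⟨W.1, hW, hxW, ?_⟩
  rw [mem_affine, map_mul]
  simp only [Scheme.IdealSheafData.ideal_mul, Pi.mul_apply]
  exact Ideal.mul_mem_mul (mem_affine.1 (ha.res hW)) (mem_affine.1 (hb.res hW))

theorem Mem.mono {D E : X.IdealSheafData} (h : D ≤ E) {U : X.Opens} {a : Γ(X, U)} (ha : Mem D a) : Mem E a := by
  refine mem_of_local fun x hx => ?_
  obtain ⟨W, hxW, hW⟩ := exists_affine_mem_le U x hx
  exact ⟨W.1, hW, hxW, mem_affine.2 (h W (mem_affine.1 (ha.res hW)))⟩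

theorem mem_one {U : X.Opens} (a : Γ(X, U)) : Mem 1 a := by
  refine mem_of_local fun x hx => ?_
  obtain ⟨W, hxW, hW⟩ := exists_affine_mem_le U x hx
  refine ⟨W.1, hW, hxW, mem_affine.2 ?_⟩
  rw [Scheme.IdealSheafData.one_eq_top]
  exact Submodule.mem_top

theorem mem_of_genOn {D : X.IdealSheafData} {U : X.Opens} {a : Γ(X, U)} (ha : GenOn D a) : Mem D a := by
  refine mem_of_local fun x hx => ?_
  obtain ⟨W, hxW, hW⟩ := exists_affine_mem_le U x hx
  refine ⟨W.1, hW, hxW, mem_affine.2 ?_⟩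
  rw [(ha W hW).2]
  exact Ideal.mem_span_singleton_self _

/-- Division by a generator. -/
theorem exists_div {D : X.IdealSheafData} {U : X.Opens} {a s : Γ(X, U)} (ha : GenOn D a) (hs : Mem D s) :
    ∃ c : Γ(X, U), s = c * a := by
  obtain ⟨e, he⟩ := mem_iff_val.1 (mem_of_genOn ha)
  obtain ⟨t, rfl⟩ := mem_iff_val.1 hs
  have hg : IsGen e := isGen_of_genOn (he.symm ▸ ha)
  obtain ⟨c, rfl⟩ := hg.exists_eq t
  exact ⟨c, by rw [val_smul, he]⟩

theorem mem_of_mul {D E : X.IdealSheafData} {U : X.Opens} {a c : Γ(X, U)} (ha : GenOn D a)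
    (h : Mem (D * E) (c * a)) : Mem E c := by
  refine mem_of_local fun x hx => ?_
  obtain ⟨W, hxW, hW⟩ := exists_affine_mem_le U x hx
  refine ⟨W.1, hW, hxW, mem_affine.2 ?_⟩
  have h1 := mem_affine.1 (h.res hW)
  simp only [Scheme.IdealSheafData.ideal_mul, Pi.mul_apply] at h1
  rw [(ha W hW).2, map_mul, Ideal.mem_span_singleton_mul] at h1
  obtain ⟨z, hz, hzc⟩ := h1
  rw [mul_comm] at hzc
  rw [(mul_cancel_right_mem_nonZeroDivisors (ha W hW).1).1 hzc] at hz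
  exact hz

theorem exists_div_mem {D E : X.IdealSheafData} {U : X.Opens} {a s : Γ(X, U)} (ha : GenOn D a)
    (hs : Mem (D * E) s) (hs' : Mem D s) : ∃ c : Γ(X, U), Mem E c ∧ s = c * a := by
  obtain ⟨c, rfl⟩ := exists_div ha hs'
  exact ⟨c, mem_of_mul ha hs, rfl⟩

theorem mul_le_left' (D E : X.IdealSheafData) : D * E ≤ D :=
  mul_le_of_le_one_right' (by rw [Scheme.IdealSheafData.one_eq_top]; exact le_top)

/-- Sections of an ideal over a union. -/
theorem genOn_of_local {D : X.IdealSheafData} {U : X.Opens} {a : Γ(X, U)}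
    (h : ∀ x ∈ U, ∃ (V : X.Opens) (e : V ≤ U), x ∈ V ∧ GenOn D (ores e a)) : GenOn D a := by
  obtain ⟨s, hs⟩ := mem_iff_val.1 (mem_of_local (D := D) (a := a) fun x hx => by
    obtain ⟨V, e, hxV, hV⟩ := h x hx
    exact ⟨V, e, hxV, mem_of_genOn hV⟩)
  rw [← hs]
  refine genOn_of_isGen ?_
  rw [isGen_iff_forall_exists]
  intro x hx
  obtain ⟨V, e, hxV, hV⟩ := h x hx
  refine ⟨V, e, hxV, isGen_of_genOn ?_⟩
  rw [val_res, hs]
  exact hV

/-- Gluing of two sections. -/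
theorem exists_glue {W G1 G2 : X.Opens} (h1 : G1 ≤ W) (h2 : G2 ≤ W) (hcov : W ≤ G1 ⊔ G2) (a : Γ(X, G1)) (b : Γ(X, G2))
    (hab : ores (inf_le_left : G1 ⊓ G2 ≤ G1) a = ores inf_le_right b) :
    ∃ t : Γ(X, W), ores h1 t = a ∧ ores h2 t = b := by
  let U : ULift.{u} Bool → X.Opens := fun i => if i.down then G1 else G2
  have hU : ∀ i, U i ≤ W := by
    rintro ⟨i⟩
    cases i
    · exact h2
    · exact h1
  have hcov' : W ≤ ⨆ i, U i := by
    refine hcov.trans (sup_le ?_ ?_)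
    · exact le_iSup U ⟨true⟩
    · exact le_iSup U ⟨false⟩
  obtain ⟨t, ht⟩ := ores_glue U hU hcov' (fun i => match i with
    | ⟨true⟩ => a
    | ⟨false⟩ => b) (by
      rintro ⟨i⟩ ⟨j⟩
      cases i <;> cases j
      · rfl
      · have h3 := congrArg (ores (show U ⟨false⟩ ⊓ U ⟨true⟩ ≤ G1 ⊓ G2 from le_inf inf_le_right inf_le_left)) hab
        rw [ores_ores, ores_ores] at h3
        exact h3.symm
      · exact hab
      · rfl)
  exact ⟨t, ht ⟨true⟩, ht ⟨false⟩⟩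

theorem ext_two {W G1 G2 : X.Opens} (h1 : G1 ≤ W) (h2 : G2 ≤ W) (hcov : W ≤ G1 ⊔ G2) {a b : Γ(X, W)}
    (ha : ores h1 a = ores h1 b) (hb : ores h2 a = ores h2 b) : a = b := by
  let U : ULift.{u} Bool → X.Opens := fun i => if i.down then G1 else G2
  have hU : ∀ i, U i ≤ W := by
    rintro ⟨i⟩
    cases i
    · exact h2
    · exact h1
  have hcov' : W ≤ ⨆ i, U i := by
    refine hcov.trans (sup_le ?_ ?_)
    · exact le_iSup U ⟨true⟩
    · exact le_iSup U ⟨false⟩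
  refine ores_ext U hU hcov' ?_
  rintro ⟨i⟩
  cases i
  · exact hb
  · exact ha

theorem mem_of_two {D : X.IdealSheafData} {W G1 G2 : X.Opens} (h1 : G1 ≤ W) (h2 : G2 ≤ W) (hcov : W ≤ G1 ⊔ G2) {a : Γ(X, W)}
    (ha : Mem D (ores h1 a)) (hb : Mem D (ores h2 a)) : Mem D a := by
  refine mem_of_local fun x hx => ?_
  rcases hcov hx with h | h
  · exact ⟨G1, h1, h, ha⟩
  · exact ⟨G2, h2, h, hb⟩

/-- `H^1(W, D) = 0`, in the form of splitting of two-term cocycles. -/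
def Split (D : X.IdealSheafData) (W : X.Opens) : Prop :=
  ∀ (G1 G2 : X.Opens) (_ : G1 ≤ W) (_ : G2 ≤ W) (_ : W ≤ G1 ⊔ G2) (c : Γ(X, G1 ⊓ G2)), Mem D c →
    ∃ (a : Γ(X, G1)) (b : Γ(X, G2)), Mem D a ∧ Mem D b ∧
      ores (inf_le_left : G1 ⊓ G2 ≤ G1) a + ores inf_le_right b = c

/-- The Koszul argument. -/
theorem koszul {D E : X.IdealSheafData} {W G1 G2 : X.Opens} (h1 : G1 ≤ W) (h2 : G2 ≤ W) (hcov : W ≤ G1 ⊔ G2)
    {b1 b2 : Γ(X, W)} (hb1 : Mem D b1) (hb2 : Mem D b2) (hg1 : GenOn D (ores h1 b1)) (hg2 : GenOn D (ores h2 b2))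
    (hsplit : Split E W) {s : Γ(X, W)} (hs : Mem (D * (D * E)) s) :
    ∃ t1 t2 : Γ(X, W), Mem (D * E) t1 ∧ Mem (D * E) t2 ∧ s = t1 * b1 + t2 * b2 := by
  obtain ⟨x1, hx1, hsx1⟩ := exists_div_mem hg1 (hs.res h1) ((hs.mono (mul_le_left' _ _)).res h1)
  obtain ⟨x2, hx2, hsx2⟩ := exists_div_mem hg2 (hs.res h2) ((hs.mono (mul_le_left' _ _)).res h2)
  -- on the intersection
  let l1 : G1 ⊓ G2 ≤ G1 := inf_le_left
  let l2 : G1 ⊓ G2 ≤ G2 := inf_le_right
  have hg1' := hg1.res l1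
  have hg2' := hg2.res l2
  rw [ores_ores] at hg1' hg2'
  have e1 : ores (l1.trans h1) s = ores l1 x1 * ores (l1.trans h1) b1 := by
    rw [← ores_ores h1 l1, hsx1, map_mul, ores_ores]
  have e2 : ores (l2.trans h2) s = ores l2 x2 * ores (l2.trans h2) b2 := by
    rw [← ores_ores h2 l2, hsx2, map_mul, ores_ores]
  have e3 : ores l1 x1 * ores (l1.trans h1) b1 = ores l2 x2 * ores (l1.trans h1) b2 := e1.symm.trans e2
  -- `x1 = c * b2`
  obtain ⟨c, hc, hcx⟩ := exists_div_mem (a := ores (l1.trans h1) b2) hg2' (hx1.res l1)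
    ((hx1.mono (mul_le_left' _ _)).res l1)
  have hcx2 : ores l2 x2 = c * ores (l1.trans h1) b1 := by
    apply hg2'.cancel
    change ores l2 x2 * ores (l1.trans h1) b2 = c * ores (l1.trans h1) b1 * ores (l1.trans h1) b2
    rw [← e3, hcx]
    ring
  obtain ⟨c1, c2, hc1, hc2, hcc⟩ := hsplit G1 G2 h1 h2 hcov c hc
  obtain ⟨t1, ht1, ht1'⟩ := exists_glue h1 h2 hcov (x1 - c1 * ores h1 b2) (c2 * ores h2 b2) (by
    rw [map_sub, map_mul, map_mul, ores_ores, ores_ores, hcx, ← hcc]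
    change _ - _ * ores (l1.trans h1) b2 = _ * ores (l1.trans h1) b2
    ring)
  obtain ⟨t2, ht2, ht2'⟩ := exists_glue h1 h2 hcov (c1 * ores h1 b1) (x2 - c2 * ores h2 b1) (by
    rw [map_sub, map_mul, map_mul, ores_ores, ores_ores]
    change _ * ores (l1.trans h1) b1 = ores l2 x2 - _ * ores (l1.trans h1) b1
    rw [hcx2, ← hcc]
    ring)
  refine ⟨t1, t2, ?_, ?_, ?_⟩
  · refine mem_of_two h1 h2 hcov ?_ ?_
    · rw [ht1]
      refine hx1.sub ?_
      rw [mul_comm D E]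
      exact hc1.mul (hb2.res h1)
    · rw [ht1', mul_comm D E]
      exact hc2.mul (hb2.res h2)
  · refine mem_of_two h1 h2 hcov ?_ ?_
    · rw [ht2, mul_comm D E]
      exact hc1.mul (hb1.res h1)
    · rw [ht2']
      refine hx2.sub ?_
      rw [mul_comm D E]
      exact hc2.mul (hb1.res h2)
  · refine ext_two h1 h2 hcov ?_ ?_
    · rw [hsx1, map_add, map_mul, map_mul, ht1, ht2]
      ring
    · rw [hsx2, map_add, map_mul, map_mul, ht1', ht2']
      ring

end K481.RatLoc
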