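import Groth.Agent.ArSurf.K481.RatHilb

/-!
# The Hilbert-Samuel function of a rational singularity
-/

set_option autoImplicit false
universe u

open CategoryTheory CategoryTheory.Limits AlgebraicGeometry Opposite TopologicalSpace

namespace K481.RatMain

open Groth.Agent Groth.Agent.Dix.IdealModCartier Groth.Agent.Fdesc.LocGen RatChi RatNum RatCoh RatDesc RatLoc RatSec
open RatFin RatNear RatPair RatHilb
open Groth.Agent.Grpsch.PicGrp Groth.Agent.Dix Groth.Agent.Dix.CastPic Groth.Agent.Models.H65.PicDeg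
open Groth.Agent.Models.H47 Groth.Agent.Dix.InterSurf

theorem ker_isMaximal {S : Scheme.{u}} (D : S.IdealSheafData) {W : S.Opens} (hW : ⊤ ≤ D.subschemeι ⁻¹ᵁ W)
    (hs : Function.Surjective (D.subschemeι.appLE W ⊤ hW).hom) (hF : IsField Γ(D.subscheme, ⊤)) :
    (JJ D W).IsMaximal := by
  have hker : JJ D W = RingHom.ker (D.subschemeι.appLE W ⊤ hW).hom := by
    ext b
    exact (appLE_eq_zero_iff hW b).symm
  let e1 : (Γ(S, W) ⧸ JJ D W) ≃+* Γ(D.subscheme, ⊤) :=
    (Ideal.quotEquivOfEq hker).trans (RingHom.quotientKerEquivOfSurjective hs)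
  exact Ideal.Quotient.maximal_of_isField _ (e1.toMulEquiv.isField hF)

variable {R : Type u} [CommRing R] [IsDomain R] [IsDiscreteValuationRing R]
variable {X : Over (Spec (CommRingCat.of R))} {r : ℕ}

omit [IsDomain R] [IsDiscreteValuationRing R] in
/-- The structure map is compatible with morphisms. -/
theorem comp_rW_app {Y : Over (Spec (CommRingCat.of R))} (f : X ⟶ Y) (V : Y.left.Opens) :
    (f.left.app V).hom.comp (rW V) = rW (f.left ⁻¹ᵁ V) := by
  have h1 : (Coh.toGlobal X.hom : R →+* Γ(X.left, ⊤)) = f.left.appTop.hom.comp (Coh.toGlobal Y.hom) := by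
    unfold Coh.toGlobal
    rw [← Over.w f, Scheme.Hom.comp_appTop]
    rfl
  rw [rW, rW, h1, ← RingHom.comp_assoc, ← RingHom.comp_assoc]
  congr 1
  have h2 := f.left.naturality (homOfLE (show V ≤ ⊤ from le_top)).op
  exact congrArg CommRingCat.Hom.hom h2

omit [IsDomain R] [IsDiscreteValuationRing R] in
theorem comp_germ {Y : Over (Spec (CommRingCat.of R))} (V : Y.left.Opens) (y : Y.left) (hy : y ∈ V) :
    (Y.left.presheaf.germ V y hy).hom.comp (rW V) = Models.stalkHom R Y y := by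
  unfold rW Models.stalkHom
  rw [← RingHom.comp_assoc]
  congr 1
  have h := Y.left.presheaf.germ_res (homOfLE (show V ≤ ⊤ from le_top)) y hy
  exact congrArg CommRingCat.Hom.hom h

section

variable (hX : ArSurf.IsArithSurface R X) {Γ : Fin r → ArSurf.VertComp R X}
  {L : Fin r → X.left.Modules} (hL : ∀ j, ClSub.IsInverseOf (L j) (ClSub.idealMod (Γ j).ι.ker))

/-- Functions near `y` whose pull back lies in the ideal of a divisor supported on the whole fibre vanish at `y`. -/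
theorem comap_le {Y : Over (Spec (CommRingCat.of R))} (f : X ⟶ Y) (y : Y.left)
    (hfpre : f.left ⁻¹' {y} = ⋃ i, Set.range (Γ i).ι) (hr : Nonempty (Fin r)) (z : Fin r → ℕ) (hz1 : ∀ i, 1 ≤ z i)
    (V : Y.left.Opens) (c : Γ(Y.left, V)) (hc : Mem (DD Γ z) ((f.left.app V).hom c)) :
    y ∉ Y.left.basicOpen c := by
  intro hyc
  obtain ⟨i⟩ := hr
  have : IsIntegral (Γ i).curve.left := (Γ i).isIntegral
  obtain ⟨w⟩ : Nonempty (Γ i).curve.left := inferInstance
  have h1 : (Γ i).ι w ∈ Set.range (DD Γ z).subschemeι := by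
    rw [support_DD z hz1]
    exact Set.mem_iUnion.2 ⟨i, w, rfl⟩
  obtain ⟨x, hx⟩ := h1
  have h2 : f.left ((DD Γ z).subschemeι x) = y := by
    rw [hx]
    have h3 : (Γ i).ι w ∈ f.left ⁻¹' {y} := by
      rw [hfpre]
      exact Set.mem_iUnion.2 ⟨i, w, rfl⟩
    exact h3
  have h4 : x ∈ (DD Γ z).subschemeι ⁻¹ᵁ (f.left ⁻¹ᵁ Y.left.basicOpen c) := by
    change f.left ((DD Γ z).subschemeι x) ∈ Y.left.basicOpen c
    rw [h2]
    exact hyc
  rw [Scheme.preimage_basicOpen, Scheme.preimage_basicOpen] at h4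
  have h5 : ((DD Γ z).subschemeι.app (f.left ⁻¹ᵁ V)) ((f.left.app V) c) = 0 := hc
  rw [h5, Scheme.basicOpen_zero] at h4
  exact h4

variable (hΓ : Function.Injective fun i => Set.range ((Γ i).ι.base : (Γ i).curve.left → X.left))
  (hb : ∀ a : Fin r → ℕ, a ≠ 0 →
      Subsingleton (Coh.HH (DD Γ a).subscheme (Coh.structureModule (DD Γ a).subscheme) 1))

include hX hΓ hL hb in
/-- The Hilbert-Samuel function. -/
theorem main [Infinite (IsLocalRing.ResidueField R)]
    (hconn : _root_.IsConnected (⋃ i, Set.range ((Γ i).ι.base : (Γ i).curve.left → X.left)))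
    (hneg : ∀ c : Fin r → ℤ, c ≠ 0 →
      (Finset.univ : Finset (Fin r × Fin r)).sum (fun p => c p.1 * c p.2 * ArSurf.inter R X (L p.2) (Γ p.1)) < 0)
    (hpic : ∀ a : Fin r → ℕ, a ≠ 0 → ∀ N : ((DD Γ a).subscheme).Modules, PicF.IsInvertible N →
        (∀ (i : Fin r) (g : (Γ i).curve.left ⟶ (DD Γ a).subscheme), g ≫ (DD Γ a).subschemeι = (Γ i).ι →
          ArSurf.curveDeg (IsLocalRing.ResidueField R) (Γ i).curve.left ((Scheme.Modules.pullback g).obj N) = 0) →
        Nonempty (N ≅ Coh.structureModule (DD Γ a).subscheme))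
    (z : Fin r → ℕ) (hz1 : ∀ i, 1 ≤ z i) (hz : ∀ i, dot (AA Γ L) z i ≤ 0)
    (hmin : ∀ z' : Fin r → ℕ, (∀ i, 1 ≤ z' i) → (∀ i, ∑ j, (z' j : ℤ) * ArSurf.inter R X (L j) (Γ i) ≤ 0) →
      ∀ i, z i ≤ z' i)
    (Y : Over (Spec (CommRingCat.of R))) (f : X ⟶ Y)
    (hYint : IsIntegral Y.left) (hYnor : ∀ q : Y.left, IsIntegrallyClosed (Y.left.presheaf.stalk q))
    (hYdim : topologicalKrullDim Y.left = 2) (hYpr : Neron.IsProjectiveOver R Y)
    (y : Y.left) (hy : f.left.base '' (⋃ i, Set.range (Γ i).ι.base) = {y})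
    (hfpre : f.left.base ⁻¹' {y} = ⋃ i, Set.range (Γ i).ι.base)
    (hfiso : ∀ V : Y.left.Opens, y ∉ V → IsIso (f.left ∣_ V)) (n : ℕ) :
    (letI : Algebra R (Y.left.presheaf.stalk y) := (Models.stalkHom R Y y).toAlgebra;
      Module.length R (Y.left.presheaf.stalk y ⧸ IsLocalRing.maximalIdeal (Y.left.presheaf.stalk y) ^ (n + 1))) =
        ((ch Γ ((n + 1) • z)).toNat : ℕ∞) := by
  have hp : IsProper X.hom := isProper_hom hX
  have hYp : IsProper Y.hom := GenFibre.isProper_of_isProjectiveOver hYpr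
  have hf : IsProper f.left := by
    have : IsProper (f.left ≫ Y.hom) := by rw [Over.w f]; exact hp
    exact IsProper.of_comp f.left Y.hom
  have hXint : IsIntegral X.left := hX.2.1
  have hYN : IsLocallyNoetherian Y.left := LocallyOfFiniteType.isLocallyNoetherian Y.hom
  have hXN : IsLocallyNoetherian X.left := LocallyOfFiniteType.isLocallyNoetherian X.hom
  have hr : Nonempty (Fin r) := by
    obtain ⟨x, hx⟩ := hconn.nonempty
    obtain ⟨i, -⟩ := Set.mem_iUnion.1 hx
    exact ⟨i⟩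
  have hycl : IsClosed ({y} : Set Y.left) := by
    rw [← hy]
    exact f.left.isClosedMap _ (isClosed_iUnion_of_finite fun i => (Γ i).ι.isClosedEmbedding.isClosed_range)
  have hbir : Dix.ExcPts.IsBir f.left := by
    refine K480.Bir.isBir_of_restrict f.left ⟨⟨{y}ᶜ, hycl.isOpen_compl⟩, ⟨genericPoint Y.left, ?_⟩, ?_⟩
    · exact K480.Contr.genericPoint_ne hYdim y hycl
    · exact hfiso _ fun h => h rfl
  obtain ⟨V, hV, hyV, hsub, hvan, b₁, b₂, hb₁, hb₂, hcov⟩ :=
    exists_pair hX hΓ hL hb hneg hpic hr z hz1 hz f y hfpre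
  have hφ : Function.Bijective (f.left.app V).hom :=
    (ConcreteCategory.isIso_iff_bijective _).1 (K480.Rigid.isIso_app_of_isBir hYnor f.left hbir V)
  have hF : IsField Γ((DD Γ z).subscheme, ⊤) := FundDiv.isField_fundamental hX hΓ hconn L hL z hz1 hz hmin
  have hmax : (JJ (DD Γ z) (f.left ⁻¹ᵁ V)).IsMaximal :=
    ker_isMaximal _ (le_preimage_DD hsub z) (surj_appLE (isEff_DD hL z) _ (hvan z hz)) hF
  let q := (hV.primeIdealOf ⟨y, hyV⟩).asIdeal
  have hcm : ((JJ (DD Γ z) (f.left ⁻¹ᵁ V)).comap (f.left.app V).hom).IsMaximal :=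
    Ideal.comap_isMaximal_of_surjective _ hφ.2
  have hq : q = (JJ (DD Γ z) (f.left ⁻¹ᵁ V)).comap (f.left.app V).hom := by
    refine (hcm.eq_of_le (hV.primeIdealOf ⟨y, hyV⟩).isPrime.ne_top ?_).symm
    intro c hc
    have h1 := comap_le f y hfpre hr z hz1 V c hc
    rw [Scheme.mem_basicOpen _ _ _ hyV] at h1
    have h2 : (Y.left.presheaf.germ V y hyV).hom c ∈ IsLocalRing.maximalIdeal _ := (IsLocalRing.mem_maximalIdeal _).2 h1
    change c ∈ (hV.primeIdealOf ⟨y, hyV⟩).asIdeal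
    rw [hV.primeIdealOf_eq_map_closedPoint]
    exact h2
  have hqm : q.IsMaximal := hq ▸ hcm
  have hloc := hV.isLocalization_stalk ⟨y, hyV⟩
  have h1 := length_local (A := Y.left.presheaf.stalk y) (rW V) (f.left.app V).hom hφ
    (Y.left.presheaf.germ V y hyV).hom q hloc (JJ (DD Γ z) (f.left ⁻¹ᵁ V)) hq (n + 1)
  rw [comp_germ, comp_rW_app] at h1
  refine h1.trans ?_
  rw [← JJ_pow hL z hz hvan b₁ b₂ hb₁ hb₂ hcov n]
  refine length_quot_eq hX hL hb (le_preimage_DD hsub) hvan _ ?_ ?_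
  · intro h0
    obtain ⟨i⟩ := hr
    have h2 := congrFun h0 i
    have h3 := hz1 i
    simp only [Pi.smul_apply, smul_eq_mul, Pi.zero_apply, mul_eq_zero] at h2
    omega
  · intro i
    rw [dot_smul]
    exact mul_nonpos_of_nonneg_of_nonpos (Int.natCast_nonneg _) (hz i)

theorem length_residueField {R A : Type u} [CommRing R] [CommRing A] [IsLocalRing A] (rA : R →+* A) :
    (letI := ((IsLocalRing.residue A).comp rA).toAlgebra; Module.length R (IsLocalRing.ResidueField A)) =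
      (letI := rA.toAlgebra; Module.length R (A ⧸ IsLocalRing.maximalIdeal A ^ (0 + 1))) := by
  let _ := ((IsLocalRing.residue A).comp rA).toAlgebra
  let _ := rA.toAlgebra
  let e : IsLocalRing.ResidueField A ≃+* A ⧸ IsLocalRing.maximalIdeal A ^ (0 + 1) :=
    Ideal.quotEquivOfEq (by rw [zero_add, pow_one])
  have hlin : ∀ (t : R) (x : IsLocalRing.ResidueField A), e (t • x) = t • e x := by
    intro t x
    obtain ⟨b, rfl⟩ := Ideal.Quotient.mk_surjective x
    rfl
  exact ({ e.toAddEquiv with map_smul' := hlin } :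
    IsLocalRing.ResidueField A ≃ₗ[R] (A ⧸ IsLocalRing.maximalIdeal A ^ (0 + 1))).length_eq

include hX hL in
/-- Values of the Hilbert-Samuel function. -/
theorem ch_nsmul (z : Fin r → ℕ) (n : ℕ) : ch Γ ((n + 1) • z) = ch Γ (n • z) + ch Γ z +
    n * -((Finset.univ : Finset (Fin r × Fin r)).sum
                (fun p => (z p.1 : ℤ) * (z p.2 : ℤ) * ArSurf.inter R X (L p.2) (Γ p.1))) := by
  rw [succ_nsmul, chi_add (A := AA Γ L) (w := ww Γ) (χ := ch Γ) (ch_zero) (ch_step hX hL) (n • z) z]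
  have h1 : ∑ i, (z i : ℤ) * dot (AA Γ L) (n • z) i = n * ((Finset.univ : Finset (Fin r × Fin r)).sum
                (fun p => (z p.1 : ℤ) * (z p.2 : ℤ) * ArSurf.inter R X (L p.2) (Γ p.1))) := by
    rw [← Finset.univ_product_univ, Finset.sum_product, Finset.mul_sum]
    refine Finset.sum_congr rfl fun i _ => ?_
    rw [dot_smul]
    unfold dot
    rw [Finset.mul_sum, Finset.mul_sum, Finset.mul_sum]
    refine Finset.sum_congr rfl fun j _ => ?_
    unfold AA
    ring
  rw [h1]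
  ring

end

end K481.RatMain
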