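import Groth.Agent.ArSurf.K481.RatDesc
import Groth.Agent.ArSurf.K479.ArtinData

/-!
# Vanishing of `H^1` near a configuration of curves: the ample class
-/

set_option autoImplicit false
set_option backward.isDefEq.respectTransparency false
universe u

open CategoryTheory CategoryTheory.Limits AlgebraicGeometry Opposite TopologicalSpace

namespace K481.RatNear

open Groth.Agent Groth.Agent.Dix.IdealModCartier Groth.Agent.Fdesc.LocGen RatChi RatNum RatCoh RatDesc
open Groth.Agent.Grpsch.PicGrp Groth.Agent.Dix Groth.Agent.Dix.CastPic Groth.Agent.Models.H65.PicDeg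
open Groth.Agent.Models.H47 Groth.Agent.Dix.InterSurf K479 K479.Artin

variable {R : Type u} [CommRing R] [IsDomain R] [IsDiscreteValuationRing R]
variable {X : Over (Spec (CommRingCat.of R))} {r : ℕ}
variable (hX : ArSurf.IsArithSurface R X) {Γ : Fin r → ArSurf.VertComp R X}
  (hΓ : Function.Injective fun i => Set.range ((Γ i).ι.base : (Γ i).curve.left → X.left))
  {L : Fin r → X.left.Modules} (hL : ∀ j, ClSub.IsInverseOf (L j) (ClSub.idealMod (Γ j).ι.ker))

include hL in
theorem cls_nsmul (k : ℕ) (a : Fin r → ℕ) : cls hL (k • a) = cls hL a ^ k := by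
  induction k with
  | zero =>
    rw [zero_smul, pow_zero]
    have h := cls_add hL 0 0
    rw [add_zero] at h
    exact (mul_eq_left.1 h.symm)
  | succ k ih => rw [succ_nsmul, cls_add, ih, pow_succ]

theorem support_DD (a : Fin r → ℕ) (ha : ∀ j, 0 < a j) :
    Set.range (DD Γ a).subschemeι = ⋃ j, Set.range (Γ j).ι := by
  have hsupp : ∀ j, ((Γ j).ι.ker.support : Set X.left) = Set.range (Γ j).ι := fun j => by
    ext x; exact VertGeom.mem_support_ker_iff (Γ j).ι x
  rw [Scheme.IdealSheafData.range_subschemeι]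
  apply Set.Subset.antisymm
  · intro x hx
    obtain ⟨j, -, -, hj⟩ := IdealQuot.support_prod (fun j => (Γ j).ι.ker) Finset.univ a x hx
    exact Set.mem_iUnion.2 ⟨j, by rw [← hsupp]; exact hj⟩
  · refine Set.iUnion_subset fun j => ?_
    rw [← hsupp]
    have h2 : DD Γ a = (Γ j).ι.ker ^ a j * ∏ i ∈ Finset.univ.erase j, (Γ i).ι.ker ^ a i :=
      (Finset.mul_prod_erase _ _ (Finset.mem_univ j)).symm
    rw [h2, Scheme.IdealSheafData.support_mul, Scheme.IdealSheafData.support_pow _ _ (ha j).ne']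
    exact Set.subset_union_left

theorem support_DD_subset (a : Fin r → ℕ) :
    Set.range (DD Γ a).subschemeι ⊆ ⋃ j, Set.range (Γ j).ι := by
  rw [Scheme.IdealSheafData.range_subschemeι]
  intro x hx
  obtain ⟨j, -, -, hj⟩ := IdealQuot.support_prod (fun j => (Γ j).ι.ker) Finset.univ a x hx
  exact Set.mem_iUnion.2 ⟨j, (VertGeom.mem_support_ker_iff (Γ j).ι x).1 hj⟩

include hX hΓ in
/-- Near the configuration the ideal of a suitable divisor is a power of an ample module. -/
theorem exists_ample (hneg : ∀ c : Fin r → ℤ, c ≠ 0 →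
      (Finset.univ : Finset (Fin r × Fin r)).sum (fun p => c p.1 * c p.2 * ArSurf.inter R X (L p.2) (Γ p.1)) < 0)
    (hpic : ∀ a : Fin r → ℕ, a ≠ 0 → ∀ N : ((DD Γ a).subscheme).Modules, PicF.IsInvertible N →
        (∀ (i : Fin r) (g : (Γ i).curve.left ⟶ (DD Γ a).subscheme), g ≫ (DD Γ a).subschemeι = (Γ i).ι →
          ArSurf.curveDeg (IsLocalRing.ResidueField R) (Γ i).curve.left ((Scheme.Modules.pullback g).obj N) = 0) →
        Nonempty (N ≅ Coh.structureModule (DD Γ a).subscheme))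
    (hr : Nonempty (Fin r)) :
    ∃ (a : Fin r → ℕ) (n : ℕ) (H : X.left.Modules) (hH : CohB1.IsAmple H) (U : X.left.Opens), 0 < n ∧
      (∀ i, Set.range (Γ i).ι ⊆ U) ∧
      ∀ W : X.left.Opens, W ≤ U → pull W.ι (cls hL a) = pull W.ι (mk H hH.1) ^ n := by
  obtain ⟨hXreg, hXint, hXdim, hXflat, hXproj⟩ := id hX
  obtain ⟨hprop, A, hA⟩ := CastAmple.exists_ample X hXproj
  obtain ⟨H, hH, J, hJ, σ, hV, hV', hσa, hσc⟩ := exists_H X.hom hA hA.1
  obtain ⟨n, a, hn, ha, hna⟩ := ArtinNum.exists_pos_solution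
    (fun i j => ArSurf.inter R X (L j) (Γ i)) hneg
    (fun i j hij => Artin.inter_nonneg (Γ i) (Γ j) (fun h => hij (hΓ h)) (hL j))
    (fun i => ArSurf.inter R X H (Γ i)) (fun i => inter_pos (Γ i) hH)
  obtain ⟨hz, hcz⟩ := ic_eq_idc (isEff_DD hL a)
  set z := (DD Γ a).subschemeι with hzdef
  have ha0 : a ≠ 0 := by
    obtain ⟨i⟩ := hr
    intro h0
    have := ha i
    rw [h0] at this
    exact lt_irrefl _ this
  have hinv := (isInvertible_idealMod_iff z.ker).2 hz
  have hDu : PicF.IsInvertible (dual (ClSub.idealMod z.ker)) := isInvertible_dual hinv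
  have hDc : mk (dual (ClSub.idealMod z.ker)) hDu = (idc z hz)⁻¹ := (inv_mk hinv).symm
  have hHn : PicF.IsInvertible (CohB1.tensorPow H n) := isInvertible_tensorPow hH.1 n
  let M := CohB1.tensorMod (CohB1.tensorPow H n) (dual (ClSub.idealMod z.ker))
  have hM : PicF.IsInvertible M := isInvertible_tensorMod hHn hDu
  have hMc : mk M hM = mk H hH.1 ^ n * (idc z hz)⁻¹ := by
    rw [← mk_mul_mk hHn hDu, hDc, mk_tensorPow hH.1 n]
  have hM0 : ∀ i, ArSurf.inter R X M (Γ i) = 0 := by
    intro i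
    have h1 : ArSurf.inter R X M (Γ i) = deg (Γ i) (mk M hM) := rfl
    have h2 : deg (Γ i) (mk H hH.1) = ArSurf.inter R X H (Γ i) := rfl
    have h3 : deg (Γ i) (idc z hz) = - dot (AA Γ L) a i := by
      rw [← deg_cls hX hL, cls]
      exact congrArg _ hcz.symm
    rw [h1, hMc, deg_mul, deg_pow, deg_inv, h3, h2, neg_neg]
    exact hna i
  have htriv : pull z (mk M hM) = 1 := by
    rw [pull_mk, mk_eq_one_iff]
    refine hpic a ha0 _ (isInvertible_pullback z hM) fun i g hg => ?_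
    rw [ArtinData.curveDeg_comp (Γ i) z g hg M]
    exact hM0 i
  obtain ⟨t, ht⟩ := exists_gen z hz M hM
    (by rw [hMc, mul_assoc, inv_mul_cancel, mul_one]; exact hV n hn) htriv
  refine ⟨a, n, H, hH, CohB1.genLocus M t, hn, fun i => Set.Subset.trans ?_ ht, fun W hW => ?_⟩
  · rw [hzdef, support_DD a ha]
    exact Set.subset_iUnion (fun j => Set.range (Γ j).ι) i
  · obtain ⟨e⟩ := SecTriv.nonempty_iso_of_range W.ι hM t (by
      rw [Scheme.Opens.range_ι]
      exact hW)
    have h1 : pull W.ι (mk M hM) = 1 := by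
      rw [pull_mk, mk_eq_one_iff]
      exact ⟨e⟩
    rw [hMc, map_mul, map_pow, map_inv, mul_inv_eq_one] at h1
    rw [h1, cls]
    exact congrArg _ hcz

variable {Y : Over (Spec (CommRingCat.of R))} (f : X ⟶ Y)

include hX in
/-- The inverse image of an affine open is proper over a noetherian affine scheme, and is affine over `X`. -/
theorem exists_proper [IsSeparated Y.hom] [LocallyOfFiniteType Y.hom] {V : Y.left.Opens} (hV : IsAffineOpen V) :
    ∃ (B : Type u) (_ : CommRing B) (_ : IsNoetherianRing B)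
      (g : ((f.left ⁻¹ᵁ V : X.left.Opens) : Scheme.{u}) ⟶ Spec (CommRingCat.of B)),
      IsProper g ∧ IsAffineHom (f.left ⁻¹ᵁ V).ι := by
  have hp : IsProper X.hom := isProper_hom hX
  have hw : f.left ≫ Y.hom = X.hom := Over.w f
  have hf : IsProper f.left := by
    have : IsProper (f.left ≫ Y.hom) := by rw [hw]; exact hp
    exact IsProper.of_comp f.left Y.hom
  have hY : IsLocallyNoetherian Y.left := LocallyOfFiniteType.isLocallyNoetherian Y.hom
  have hN : IsNoetherianRing Γ(Y.left, V) := IsLocallyNoetherian.component_noetherian ⟨V, hV⟩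
  have hVa : IsAffine V := hV
  have h1 : IsAffineHom V.ι := by
    have : IsAffineHom (V.ι ≫ Y.hom) := inferInstance
    exact IsAffineHom.of_comp V.ι Y.hom
  refine ⟨Γ(Y.left, V), inferInstance, hN, (f.left ∣_ V) ≫ hV.isoSpec.hom, inferInstance, ?_⟩
  exact MorphismProperty.of_isPullback (isPullback_morphismRestrict f.left V) h1

variable (hb : ∀ a : Fin r → ℕ, a ≠ 0 →
      Subsingleton (Coh.HH (DD Γ a).subscheme (Coh.structureModule (DD Γ a).subscheme) 1))

include hX hΓ hb in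
/-- The vanishing theorem. -/
theorem V1_near [IsSeparated Y.hom] [LocallyOfFiniteType Y.hom] {a : Fin r → ℕ} {n : ℕ} {H : X.left.Modules}
    (hH : CohB1.IsAmple H) (hn : 0 < n)
    {V : Y.left.Opens} (hV : IsAffineOpen V)
    (he : pull (f.left ⁻¹ᵁ V).ι (cls hL a) = pull (f.left ⁻¹ᵁ V).ι (mk H hH.1) ^ n)
    (hVΓ : ∀ i, ⊤ ≤ (Γ i).ι ⁻¹ᵁ (f.left ⁻¹ᵁ V)) (c : Fin r → ℕ) (hc : ∀ i, dot (AA Γ L) c i ≤ 0) :
    V1 (pull (f.left ⁻¹ᵁ V).ι (cls hL c)) := by
  obtain ⟨B, _, _, g, hg, hι⟩ := exists_proper hX f hV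
  set j := (f.left ⁻¹ᵁ V).ι with hj
  have hA := CohqB.AmpCocycle.isAmple_pullback j hH
  obtain ⟨N, hN, hNc⟩ := exists_mk (pull j (cls hL c))
  have hLN : IsLocallyNoetherian ((f.left ⁻¹ᵁ V : X.left.Opens) : Scheme.{u}) :=
    LocallyOfFiniteType.isLocallyNoetherian g
  obtain ⟨n₁, hn₁⟩ := (Groth.Agent.S0051.result B _ g _ hA.1).1 hA N (Groth.Agent.S2329.isCoh_of_isInvertible hN)
  have h1 : V1 (pull j (cls hL (c + n₁ • a))) := by
    have h2 := hn₁ (n * n₁) (Nat.le_mul_of_pos_left _ hn) 1 one_pos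
    have h3 := (V1_mk (isInvertible_tensorMod hN (isInvertible_tensorPow hA.1 (n * n₁)))).2 h2
    rw [← mk_mul_mk hN (isInvertible_tensorPow hA.1 (n * n₁)), mk_tensorPow, ← hNc] at h3
    rw [cls_add, cls_nsmul, map_mul, map_pow, he, ← pow_mul]
    exact h3
  exact descend_all hX hΓ hL hb hVΓ c hc (n₁ • a) h1

end K481.RatNear
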