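import Mathlib.Algebra.BigOperators.Fin
import Mathlib.Algebra.Order.BigOperators.Group.Finset
import Mathlib.Algebra.BigOperators.Ring.Finset
import Mathlib.Tactic.Linarith
import Mathlib.Tactic.Ring

/-!
# Arithmetic of Euler characteristics of divisors supported on a configuration of curves

`A j i` plays the part of `(Γ_j · Γ_i)`, `w i` that of `χ(O_{Γ_i})` and `χ c` that of `χ(O_{Σ c_j Γ_j})`.
-/

set_option autoImplicit false

namespace K481.RatNum

variable {r : ℕ} (A : Fin r → Fin r → ℤ) (w : Fin r → ℤ) (χ : (Fin r → ℕ) → ℤ)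

/-- `(Σ c_j Γ_j) · Γ_i`. -/
def dot (c : Fin r → ℕ) (i : Fin r) : ℤ := ∑ j, (c j : ℤ) * A j i

theorem dot_add (a b : Fin r → ℕ) (i : Fin r) : dot A (a + b) i = dot A a i + dot A b i := by
  unfold dot
  rw [← Finset.sum_add_distrib]
  refine Finset.sum_congr rfl fun j _ => ?_
  rw [Pi.add_apply]
  push_cast
  ring

theorem dot_single (k i : Fin r) : dot A (Pi.single k 1) i = A k i := by
  classical
  unfold dot
  rw [Finset.sum_eq_single k]
  · simp
  · intro j _ hj
    rw [Pi.single_eq_of_ne hj]
    simp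
  · simp

theorem dot_zero (i : Fin r) : dot A 0 i = 0 := by
  unfold dot
  simp

theorem dot_smul (n : ℕ) (a : Fin r → ℕ) (i : Fin r) : dot A (n • a) i = n * dot A a i := by
  unfold dot
  rw [Finset.mul_sum]
  refine Finset.sum_congr rfl fun j _ => ?_
  simp only [Pi.smul_apply, smul_eq_mul]
  push_cast
  ring

/-- Induction on divisors. -/
theorem ind {P : (Fin r → ℕ) → Prop} (h0 : P 0) (hs : ∀ c i, P c → P (c + Pi.single i 1)) (c : Fin r → ℕ) : P c := by
  classical
  obtain ⟨N, hN⟩ : ∃ N, ∑ i, c i = N := ⟨_, rfl⟩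
  induction N generalizing c with
  | zero =>
    have : c = 0 := by
      funext i
      exact (Finset.sum_eq_zero_iff.1 hN) i (Finset.mem_univ i)
    rw [this]
    exact h0
  | succ N ih =>
    obtain ⟨i, hi⟩ : ∃ i, c i ≠ 0 := by
      by_contra hcon
      push Not at hcon
      rw [Finset.sum_eq_zero fun i _ => hcon i] at hN
      omega
    have h1 : c = (c - Pi.single i 1) + Pi.single i 1 := by
      funext j
      by_cases hj : j = i
      · subst hj
        simp only [Pi.add_apply, Pi.sub_apply, Pi.single_eq_same]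
        omega
      · simp [Pi.single_eq_of_ne hj]
    rw [h1]
    refine hs _ i (ih _ ?_)
    have h2 : ∑ j, c j = ∑ j, (c - Pi.single i 1 : Fin r → ℕ) j + ∑ j, (Pi.single i 1 : Fin r → ℕ) j := by
      rw [← Finset.sum_add_distrib]
      exact Finset.sum_congr rfl fun j _ => congrFun h1 j
    rw [Finset.sum_pi_single', if_pos (Finset.mem_univ i), hN] at h2
    omega

variable {A w χ}

theorem two_chi (hA : ∀ i j, A i j = A j i) (h0 : χ 0 = 0)
    (hs : ∀ c i, χ (c + Pi.single i 1) = χ c - dot A c i + w i) (c : Fin r → ℕ) :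
    2 * χ c = ∑ i, (c i : ℤ) * (2 * w i + A i i - dot A c i) := by
  classical
  induction c using ind with
  | h0 => simp [h0]
  | hs c i ih =>
    rw [hs, mul_add, mul_sub, ih]
    have h1 : ∀ k, (((c + Pi.single i 1 : Fin r → ℕ) k : ℕ) : ℤ) * (2 * w k + A k k - dot A (c + Pi.single i 1) k) =
        (c k : ℤ) * (2 * w k + A k k - dot A c k) - (c k : ℤ) * A k i +
          ((Pi.single i 1 : Fin r → ℕ) k : ℤ) * (2 * w k + A k k - dot A c k - A i k) := by
      intro k
      rw [dot_add, dot_single, Pi.add_apply, hA i k]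
      push_cast
      ring
    rw [Finset.sum_congr rfl fun k _ => h1 k, Finset.sum_add_distrib, Finset.sum_sub_distrib]
    have h2 : ∑ k, ((Pi.single i 1 : Fin r → ℕ) k : ℤ) * (2 * w k + A k k - dot A c k - A i k) =
        2 * w i + A i i - dot A c i - A i i := by
      rw [Finset.sum_eq_single i]
      · simp
      · intro j _ hj
        rw [Pi.single_eq_of_ne hj]
        simp
      · simp
    rw [h2]
    have h3 : ∑ k, (c k : ℤ) * A k i = dot A c i := rfl
    rw [h3]
    ring

theorem chi_add (h0 : χ 0 = 0)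
    (hs : ∀ c i, χ (c + Pi.single i 1) = χ c - dot A c i + w i) (a b : Fin r → ℕ) :
    χ (a + b) = χ a + χ b - ∑ i, (b i : ℤ) * dot A a i := by
  classical
  induction b using ind with
  | h0 => simp [h0]
  | hs b i ih =>
    rw [← add_assoc, hs, ih, hs, dot_add]
    have h1 : ∑ k, (((b + Pi.single i 1 : Fin r → ℕ) k : ℕ) : ℤ) * dot A a k =
        ∑ k, (b k : ℤ) * dot A a k + dot A a i := by
      have h2 : ∑ k, ((Pi.single i 1 : Fin r → ℕ) k : ℤ) * dot A a k = dot A a i := by
        rw [Finset.sum_eq_single i]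
        · simp
        · intro j _ hj
          rw [Pi.single_eq_of_ne hj]
          simp
        · simp
      rw [← h2, ← Finset.sum_add_distrib]
      refine Finset.sum_congr rfl fun k _ => ?_
      rw [Pi.add_apply]
      push_cast
      ring
    rw [h1]
    ring

/-- If `χ(O_C) > 0` some component `Γ_i` of `C` has `(C - Γ_i) · Γ_i < 2 χ(O_{Γ_i})`. -/
theorem exists_lt (hA : ∀ i j, A i j = A j i) (h0 : χ 0 = 0)
    (hs : ∀ c i, χ (c + Pi.single i 1) = χ c - dot A c i + w i) (c : Fin r → ℕ) (hc : 0 < χ c) :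
    ∃ i, 1 ≤ c i ∧ dot A c i - A i i < 2 * w i := by
  by_contra hcon
  push Not at hcon
  have h1 := two_chi hA h0 hs c
  have h2 : ∑ i, (c i : ℤ) * (2 * w i + A i i - dot A c i) ≤ 0 := by
    refine Finset.sum_nonpos fun i _ => ?_
    by_cases h : 1 ≤ c i
    · have h3 := hcon i h
      have h4 : (0 : ℤ) ≤ c i := Int.natCast_nonneg _
      nlinarith
    · have : c i = 0 := by omega
      rw [this]
      simp
  linarith

/-- The chain from `Γ_{i₀}` to a divisor `C ≤ Z` with `-(Z + C)` nef. -/
theorem exists_chain_nef (hoff : ∀ i j, i ≠ j → 0 ≤ A i j) (z : Fin r → ℕ) (hz1 : ∀ i, 1 ≤ z i)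
    (hz : ∀ i, dot A z i ≤ 0) (P : (Fin r → ℕ) → Prop) (i₀ : Fin r) (h0 : P (Pi.single i₀ 1))
    (hs : ∀ c i, c ≤ z → P c → 0 < dot A (z + c) i → P (c + Pi.single i 1)) :
    ∃ c, c ≤ z ∧ 1 ≤ c i₀ ∧ P c ∧ ∀ i, dot A (z + c) i ≤ 0 := by
  classical
  have key : ∀ (N : ℕ) (c : Fin r → ℕ), c ≤ z → 1 ≤ c i₀ → P c → ∑ i, (z i - c i) = N →
      ∃ c, c ≤ z ∧ 1 ≤ c i₀ ∧ P c ∧ ∀ i, dot A (z + c) i ≤ 0 := by
    intro N
    induction N using Nat.strong_induction_on with
    | _ N ih =>
      intro c hc hc0 hP hN
      by_cases h : ∀ i, dot A (z + c) i ≤ 0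
      · exact ⟨c, hc, hc0, hP, h⟩
      · push Not at h
        obtain ⟨i, hi⟩ := h
        have hlt : c i < z i := by
          by_contra hcon
          have hci : c i = z i := le_antisymm (hc i) (not_lt.1 hcon)
          have h1 : dot A c i ≤ dot A z i := by
            unfold dot
            refine Finset.sum_le_sum fun j _ => ?_
            by_cases hji : j = i
            · subst hji
              rw [hci]
            · have h2 : (c j : ℤ) ≤ z j := by exact_mod_cast hc j
              exact mul_le_mul_of_nonneg_right h2 (hoff j i hji)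
          rw [dot_add] at hi
          have h3 := hz i
          linarith
        refine ih _ ?_ (c + Pi.single i 1) ?_ ?_ (hs c i hc hP hi) rfl
        · rw [← hN]
          refine Finset.sum_lt_sum (fun j _ => ?_) ⟨i, Finset.mem_univ i, ?_⟩
          · rw [Pi.add_apply]
            omega
          · rw [Pi.add_apply, Pi.single_eq_same]
            omega
        · intro j
          by_cases hj : j = i
          · subst hj
            simp only [Pi.add_apply, Pi.single_eq_same]
            omega
          · simp only [Pi.add_apply, Pi.single_eq_of_ne hj, add_zero]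
            exact hc j
        · simp only [Pi.add_apply]
          omega
  refine key _ (Pi.single i₀ 1) ?_ (by simp) h0 rfl
  intro j
  by_cases hj : j = i₀
  · subst hj
    simpa using hz1 j
  · simp [Pi.single_eq_of_ne hj]

end K481.RatNum
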