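import Groth.Agent.ArSurf.K481.RatSec

set_option autoImplicit false
universe u

open CategoryTheory CategoryTheory.Limits AlgebraicGeometry Opposite TopologicalSpace

namespace K481.RatSec

open Groth.Agent Groth.Agent.Dix.IdealModCartier Groth.Agent.Fdesc.LocGen RatChi RatNum RatCoh RatDesc RatLoc
open Groth.Agent.Grpsch.PicGrp Groth.Agent.Dix Groth.Agent.Dix.CastPic Groth.Agent.Models.H65.PicDeg
open Groth.Agent.Models.H47 Groth.Agent.Dix.InterSurf

variable {R : Type u} [CommRing R] [IsDomain R] [IsDiscreteValuationRing R]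
variable {X : Over (Spec (CommRingCat.of R))} {r : ℕ}
variable (hX : ArSurf.IsArithSurface R X) {Γ : Fin r → ArSurf.VertComp R X}
  (hΓ : Function.Injective fun i => Set.range ((Γ i).ι.base : (Γ i).curve.left → X.left))
  {L : Fin r → X.left.Modules} (hL : ∀ j, ClSub.IsInverseOf (L j) (ClSub.idealMod (Γ j).ι.ker))

include hX hL in
/-- A section of `O(-C)` near the configuration vanishes on `Γ_i` if `(C · Γ_i) > 0`. -/
theorem mem_step {W : X.left.Opens} (i : Fin r) (hW : ⊤ ≤ (Γ i).ι ⁻¹ᵁ W) (c : Fin r → ℕ)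
    (hdot : 0 < dot (AA Γ L) c i) {b : Γ(X.left, W)} (hb : Mem (DD Γ c) b) :
    Mem (DD Γ (c + Pi.single i 1)) b := by
  have hp : IsProper X.hom := isProper_hom hX
  have h1 := isProper_curve (Γ i)
  have h2 : IsIntegral (Γ i).curve.left := (Γ i).isIntegral
  rw [DD_add, DD_single]
  obtain ⟨s, rfl⟩ := mem_iff_val.1 hb
  refine mem_mul_of_pullSec (isEff_DD hL c) (Γ i).ι ?_
  have hdeg : Curv2.deg (IsLocalRing.ResidueField R) (Γ i).curve.left
      ((Scheme.Modules.pullback (Γ i).ι).obj (ClSub.idealMod (DD Γ c))) 1 < 0 := by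
    rw [← Models.H65.PicDeg.inter_eq]
    have h3 := deg_cls hX hL c i
    have h4 : ArSurf.inter R X (ClSub.idealMod (DD Γ c)) (Γ i) = - dot (AA Γ L) c i := h3
    rw [h4]
    linarith
  have hinv := isInvertible_pullback (Γ i).ι (isInvertible_idealMod (isEff_DD hL c))
  have h5 := ModelsG.H46.FieldStep.sec_eq_zero_of_deg_neg _ _ (Γ i).dim_eq _ hinv hdeg (res _ hW (pullSec (Γ i).ι s))
  have h6 := congrArg (res _ (show (Γ i).ι ⁻¹ᵁ W ≤ ⊤ from le_top)) h5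
  rw [res_res, res_refl, map_zero] at h6
  exact h6

variable (hb : ∀ a : Fin r → ℕ, a ≠ 0 →
      Subsingleton (Coh.HH (DD Γ a).subscheme (Coh.structureModule (DD Γ a).subscheme) 1))

include hX hL hb in
theorem length_quot_eq {W : X.left.Opens} (hWD : ∀ c, ⊤ ≤ (DD Γ c).subschemeι ⁻¹ᵁ W)
    (hV1 : ∀ c : Fin r → ℕ, (∀ i, dot (AA Γ L) c i ≤ 0) → V1 (pull W.ι (cls hL c)))
    (c : Fin r → ℕ) (hc0 : c ≠ 0) (hc : ∀ i, dot (AA Γ L) c i ≤ 0) :
    (letI := (rW W).toAlgebra; Module.length R (Γ(X.left, W) ⧸ JJ (DD Γ c) W)) = ((ch Γ c).toNat : ℕ∞) := by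
  rw [length_quot (DD Γ c) (hWD c) (surj_appLE (isEff_DD hL c) (hWD c) (hV1 c hc))]
  exact (length_eq hX hL hb c hc0).2

include hX hΓ hL hb in
theorem exists_notMem {W : X.left.Opens} (hWΓ : ∀ i, ⊤ ≤ (Γ i).ι ⁻¹ᵁ W) (hWD : ∀ c, ⊤ ≤ (DD Γ c).subschemeι ⁻¹ᵁ W)
    (hV1 : ∀ c : Fin r → ℕ, (∀ i, dot (AA Γ L) c i ≤ 0) → V1 (pull W.ι (cls hL c)))
    (z : Fin r → ℕ) (hz1 : ∀ i, 1 ≤ z i) (hz : ∀ i, dot (AA Γ L) z i ≤ 0) (i₀ : Fin r) :
    ∃ b : Γ(X.left, W), Mem (DD Γ z) b ∧ ¬ Mem (DD Γ (z + Pi.single i₀ 1)) b := by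
  by_contra hcon
  push Not at hcon
  obtain ⟨c, hcz, hc1, hP, hc⟩ := exists_chain_nef (A := AA Γ L) (AA_nonneg hX hΓ hL) z hz1 hz
    (fun c => ∀ b : Γ(X.left, W), Mem (DD Γ z) b → Mem (DD Γ (z + c)) b) i₀ hcon (by
      intro c i hc hP hpos b hb'
      rw [← add_assoc]
      exact mem_step hX hL i (hWΓ i) _ hpos (hP b hb'))
  have hJ : JJ (DD Γ (z + c)) W = JJ (DD Γ z) W := by
    apply le_antisymm
    · intro b hb'
      rw [mem_JJ, DD_add] at hb'
      exact hb'.mono (mul_le_left' _ _)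
    · intro b hb'
      exact hP b hb'
  have hz0 : z ≠ 0 := by
    intro h0
    have := hz1 i₀
    rw [h0] at this
    simp at this
  have hzc0 : z + c ≠ 0 := by
    intro h0
    have h1 := congrFun h0 i₀
    have := hz1 i₀
    simp only [Pi.add_apply, Pi.zero_apply] at h1
    omega
  have hc0 : c ≠ 0 := by
    intro h0
    rw [h0] at hc1
    simp at hc1
  have h1 := length_quot_eq hX hL hb hWD hV1 z hz0 hz
  have h2 := length_quot_eq hX hL hb hWD hV1 (z + c) hzc0 hc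
  rw [hJ, h1] at h2
  have h3 := (length_eq hX hL hb z hz0).1
  have h4 := (length_eq hX hL hb (z + c) hzc0).1
  have h5 := (length_eq hX hL hb c hc0).1
  have h6 := chi_add (A := AA Γ L) (w := ww Γ) (χ := ch Γ) (ch_zero) (ch_step hX hL) z c
  have h7 : ∑ i, (c i : ℤ) * dot (AA Γ L) z i ≤ 0 :=
    Finset.sum_nonpos fun i _ => mul_nonpos_of_nonneg_of_nonpos (Int.natCast_nonneg _) (hz i)
  have h8 : (ch Γ z).toNat = (ch Γ (z + c)).toNat := by exact_mod_cast h2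
  omega

include hX hΓ hL hb in
/-- A section of `O(-Z)` which generates at some point of every component. -/
theorem exists_b1 [Infinite (IsLocalRing.ResidueField R)] {W : X.left.Opens} (hWΓ : ∀ i, ⊤ ≤ (Γ i).ι ⁻¹ᵁ W)
    (hWD : ∀ c, ⊤ ≤ (DD Γ c).subschemeι ⁻¹ᵁ W)
    (hV1 : ∀ c : Fin r → ℕ, (∀ i, dot (AA Γ L) c i ≤ 0) → V1 (pull W.ι (cls hL c)))
    (z : Fin r → ℕ) (hz1 : ∀ i, 1 ≤ z i) (hz : ∀ i, dot (AA Γ L) z i ≤ 0) :
    ∃ b : Γ(X.left, W), Mem (DD Γ z) b ∧ ∀ i, ∃ w : (Γ i).curve.left, (Γ i).ι w ∈ gl (DD Γ z) b := by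
  let _ := (rW W).toAlgebra
  let M : Submodule R Γ(X.left, W) := (JJ (DD Γ z) W).restrictScalars R
  let N : Fin r → Submodule R M := fun i => ((JJ (DD Γ (z + Pi.single i 1)) W).restrictScalars R).comap M.subtype
  obtain ⟨b, hb'⟩ := exists_forall_notMem N (by
    intro i
    obtain ⟨b, hb1, hb2⟩ := exists_notMem hX hΓ hL hb hWΓ hWD hV1 z hz1 hz i
    exact ⟨⟨b, hb1⟩, hb2⟩)
  refine ⟨b.1, b.2, fun i => ?_⟩
  by_contra hcon
  push Not at hcon
  have h2 : IsIntegral (Γ i).curve.left := (Γ i).isIntegral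
  apply hb' i
  change Mem (DD Γ (z + Pi.single i 1)) b.1
  rw [DD_add, DD_single]
  exact mem_mul_of_gl (isEff_DD hL z) (Γ i).ι b.2 hcon

end K481.RatSec
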