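import Groth.Agent.ArSurf.K481.RatNear
import Groth.Agent.ArSurf.K481.RatSec2
import Groth.Agent.ArSurf.K481.RatFin

/-!
# Two sections of `O(-Z)` without common zero near a rational configuration
-/

set_option autoImplicit false
universe u

open CategoryTheory CategoryTheory.Limits AlgebraicGeometry Opposite TopologicalSpace

namespace K481.RatPair

open Groth.Agent Groth.Agent.Dix.IdealModCartier Groth.Agent.Fdesc.LocGen RatChi RatNum RatCoh RatDesc RatLoc RatSec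
open RatFin RatNear
open Groth.Agent.Grpsch.PicGrp Groth.Agent.Dix Groth.Agent.Dix.CastPic Groth.Agent.Models.H65.PicDeg
open Groth.Agent.Models.H47 Groth.Agent.Dix.InterSurf

/-- Neighbourhoods of a fibre of a closed map. -/
theorem exists_shrink {S T : Scheme.{u}} (f : S ⟶ T) (hf : IsClosedMap f) (y : T) (V₀ : T.Opens) (hy : y ∈ V₀)
    (G : S.Opens) (hG : f ⁻¹' {y} ⊆ G) : ∃ V : T.Opens, IsAffineOpen V ∧ y ∈ V ∧ V ≤ V₀ ∧ f ⁻¹ᵁ V ≤ G := by
  let C : Set T := f '' (G : Set S)ᶜ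
  have hC : IsClosed C := hf _ G.isOpen.isClosed_compl
  have hyC : y ∉ C := by
    rintro ⟨x, hx, hxy⟩
    exact hx (hG hxy)
  let V₁ : T.Opens := V₀ ⊓ ⟨Cᶜ, hC.isOpen_compl⟩
  obtain ⟨V, hV, hyV, hVV⟩ := exists_isAffineOpen_mem_and_subset (U := V₁) (x := y) ⟨hy, hyC⟩
  refine ⟨V, hV, hyV, fun t ht => (hVV ht).1, ?_⟩
  intro x hx
  by_contra hcon
  exact (hVV hx).2 ⟨x, hcon, rfl⟩

variable {R : Type u} [CommRing R] [IsDomain R] [IsDiscreteValuationRing R]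
variable {X : Over (Spec (CommRingCat.of R))} {r : ℕ}
variable (hX : ArSurf.IsArithSurface R X) {Γ : Fin r → ArSurf.VertComp R X}
  (hΓ : Function.Injective fun i => Set.range ((Γ i).ι.base : (Γ i).curve.left → X.left))
  {L : Fin r → X.left.Modules} (hL : ∀ j, ClSub.IsInverseOf (L j) (ClSub.idealMod (Γ j).ι.ker))

theorem le_preimage {W : X.left.Opens} (hW : (⋃ i, Set.range (Γ i).ι) ⊆ W) (i : Fin r) : ⊤ ≤ (Γ i).ι ⁻¹ᵁ W :=
  fun w _ => hW (Set.mem_iUnion.2 ⟨i, w, rfl⟩)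

theorem le_preimage_DD {W : X.left.Opens} (hW : (⋃ i, Set.range (Γ i).ι) ⊆ W) (c : Fin r → ℕ) :
    ⊤ ≤ (DD Γ c).subschemeι ⁻¹ᵁ W :=
  fun w _ => hW (support_DD_subset c ⟨w, rfl⟩)

include hX in
/-- The points of the configuration where `b` does not generate are finite in number. -/
theorem finite_notMem {W : X.left.Opens} (D : X.left.IdealSheafData) (b : Γ(X.left, W))
    (h : ∀ i, ∃ w : (Γ i).curve.left, (Γ i).ι w ∈ gl D b) :
    ((⋃ i, Set.range (Γ i).ι) ∩ (gl D b : Set X.left)ᶜ).Finite := by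
  have hp : IsProper X.hom := isProper_hom hX
  rw [Set.iUnion_inter]
  refine Set.finite_iUnion fun i => ?_
  have h1 := isProper_curve (Γ i)
  have h2 : IsIntegral (Γ i).curve.left := (Γ i).isIntegral
  have h3 : IsNoetherian (Γ i).curve.left := CurvesB.CurveRR.isNoetherian_of_proper (IsLocalRing.ResidueField R) _
  have h4 := finite_compl (T := (Γ i).curve.left) (Γ i).dim_eq.le (U := (Γ i).ι ⁻¹ᵁ gl D b) (h i)
  refine (h4.image (Γ i).ι).subset ?_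
  rintro _ ⟨⟨w, rfl⟩, hw⟩
  exact ⟨w, hw, rfl⟩

variable (hb : ∀ a : Fin r → ℕ, a ≠ 0 →
      Subsingleton (Coh.HH (DD Γ a).subscheme (Coh.structureModule (DD Γ a).subscheme) 1))

include hX hΓ hb in
/-- Two sections of `O(-Z)` without common zero. -/
theorem exists_pair [Infinite (IsLocalRing.ResidueField R)] (hneg : ∀ c : Fin r → ℤ, c ≠ 0 →
      (Finset.univ : Finset (Fin r × Fin r)).sum (fun p => c p.1 * c p.2 * ArSurf.inter R X (L p.2) (Γ p.1)) < 0)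
    (hpic : ∀ a : Fin r → ℕ, a ≠ 0 → ∀ N : ((DD Γ a).subscheme).Modules, PicF.IsInvertible N →
        (∀ (i : Fin r) (g : (Γ i).curve.left ⟶ (DD Γ a).subscheme), g ≫ (DD Γ a).subschemeι = (Γ i).ι →
          ArSurf.curveDeg (IsLocalRing.ResidueField R) (Γ i).curve.left ((Scheme.Modules.pullback g).obj N) = 0) →
        Nonempty (N ≅ Coh.structureModule (DD Γ a).subscheme))
    (hr : Nonempty (Fin r)) (z : Fin r → ℕ) (hz1 : ∀ i, 1 ≤ z i) (hz : ∀ i, dot (AA Γ L) z i ≤ 0)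
    {Y : Over (Spec (CommRingCat.of R))} (f : X ⟶ Y) [IsSeparated Y.hom] [LocallyOfFiniteType Y.hom]
    (y : Y.left) (hfpre : f.left ⁻¹' {y} = ⋃ i, Set.range (Γ i).ι) :
    ∃ V : Y.left.Opens, IsAffineOpen V ∧ y ∈ V ∧ (⋃ i, Set.range (Γ i).ι) ⊆ (f.left ⁻¹ᵁ V : X.left.Opens) ∧
      (∀ c : Fin r → ℕ, (∀ i, dot (AA Γ L) c i ≤ 0) → V1 (pull (f.left ⁻¹ᵁ V).ι (cls hL c))) ∧
      ∃ b₁ b₂ : Γ(X.left, f.left ⁻¹ᵁ V), Mem (DD Γ z) b₁ ∧ Mem (DD Γ z) b₂ ∧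
        f.left ⁻¹ᵁ V ≤ gl (DD Γ z) b₁ ⊔ gl (DD Γ z) b₂ := by
  have hp : IsProper X.hom := isProper_hom hX
  have hf : IsProper f.left := by
    have : IsProper (f.left ≫ Y.hom) := by rw [Over.w f]; exact hp
    exact IsProper.of_comp f.left Y.hom
  obtain ⟨a, n, H, hH, U, hn, hUΓ, hUe⟩ := exists_ample hX hΓ hL hneg hpic hr
  have hUΔ : (⋃ i, Set.range (Γ i).ι) ⊆ (U : Set X.left) := Set.iUnion_subset hUΓ
  obtain ⟨V₀, hV₀, hyV₀, -, hV₀U⟩ := exists_shrink f.left f.left.isClosedMap y ⊤ trivial U (by rw [hfpre]; exact hUΔ)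
  -- the facts valid on every smaller affine neighbourhood
  have hsub : ∀ V : Y.left.Opens, y ∈ V → (⋃ i, Set.range (Γ i).ι) ⊆ (f.left ⁻¹ᵁ V : X.left.Opens) := by
    intro V hyV x hx
    rw [← hfpre] at hx
    have h1 : f.left x = y := hx
    change f.left x ∈ V
    rw [h1]
    exact hyV
  have hvan : ∀ V : Y.left.Opens, IsAffineOpen V → y ∈ V → V ≤ V₀ → ∀ c : Fin r → ℕ,
      (∀ i, dot (AA Γ L) c i ≤ 0) → V1 (pull (f.left ⁻¹ᵁ V).ι (cls hL c)) := by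
    intro V hV hyV hVV c hc
    refine V1_near hX hΓ hL f hb hH hn hV (hUe _ ?_) (fun i => le_preimage (hsub V hyV) i) c hc
    exact (f.left.preimage_mono hVV).trans hV₀U
  -- the first section
  obtain ⟨b, hb1, hb2⟩ := exists_b1 hX hΓ hL hb (fun i => le_preimage (hsub V₀ hyV₀) i)
    (fun c => le_preimage_DD (hsub V₀ hyV₀) c) (hvan V₀ hV₀ hyV₀ le_rfl) z hz1 hz
  have hF := finite_notMem hX (DD Γ z) b hb2
  set F := (⋃ i, Set.range (Γ i).ι) ∩ (gl (DD Γ z) b : Set X.left)ᶜ with hFdef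
  obtain ⟨m, s, hFs, hs, hsa⟩ := Groth.Agent.Ega2.FiniteSet.exists_affine_genLocus_of_finite hH F hF (f.left ⁻¹ᵁ V₀)
    (fun x hx => hsub V₀ hyV₀ hx.1)
  obtain ⟨e, he1, he2⟩ := exists_gen_finite (isEff_DD hL z) hsa F hF hFs
  set U₀ : X.left.Opens := gl (DD Γ z) e with hU₀
  have hcov : f.left ⁻¹' {y} ⊆ (gl (DD Γ z) b ⊔ U₀ : X.left.Opens) := by
    rw [hfpre]
    intro x hx
    by_cases h : x ∈ gl (DD Γ z) b
    · exact Or.inl h
    · exact Or.inr (he2 x ⟨hx, h⟩)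
  obtain ⟨V, hV, hyV, hVV, hVG⟩ := exists_shrink f.left f.left.isClosedMap y V₀ hyV₀ _ hcov
  refine ⟨V, hV, hyV, hsub V hyV, hvan V hV hyV hVV, ?_⟩
  have hWW : f.left ⁻¹ᵁ V ≤ f.left ⁻¹ᵁ V₀ := f.left.preimage_mono hVV
  have hb' := hb1.res hWW
  have hcov' : f.left ⁻¹ᵁ V ≤ gl (DD Γ z) (ores hWW b) ⊔ (U₀ ⊓ f.left ⁻¹ᵁ V) := by
    intro x hx
    rcases hVG hx with h | h
    · exact Or.inl (inf_le_gl_res b hWW ⟨h, hx⟩)
    · exact Or.inr ⟨h, hx⟩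
  have hspl : Split 1 (f.left ⁻¹ᵁ V) := by
    rw [← DD_zero Γ]
    refine split_of_V1 (isEff_DD hL 0) (hvan V hV hyV hVV 0 fun i => ?_)
    rw [dot_zero]
  obtain ⟨b₂, hb₂, hb₂'⟩ := exists_second (U := U₀ ⊓ f.left ⁻¹ᵁ V) inf_le_right hcov'
    ((genOn_gl (D := DD Γ z) e).res inf_le_left) hb' hspl
  refine ⟨ores hWW b, b₂, hb', hb₂, ?_⟩
  intro x hx
  by_cases h : x ∈ gl (DD Γ z) (ores hWW b)
  · exact Or.inl h
  · rcases hcov' hx with h' | h'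
    · exact absurd h' h
    · exact Or.inr (hb₂' x h' h)

end K481.RatPair
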