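import Groth.Agent.ArSurf.K481.RatGen
import Groth.Agent.ArSurf.K481.RatDesc
import Groth.Agent.ModelsG.H46.FieldStep
import Mathlib.GroupTheory.CosetCover

/-!
# Functions on a neighbourhood of a configuration of curves
-/

set_option autoImplicit false
universe u

open CategoryTheory CategoryTheory.Limits AlgebraicGeometry Opposite TopologicalSpace

namespace K481.RatSec

open Groth.Agent Groth.Agent.Dix.IdealModCartier Groth.Agent.Fdesc.LocGen RatChi RatNum RatCoh RatDesc RatLoc
open Groth.Agent.Grpsch.PicGrp Groth.Agent.Dix Groth.Agent.Dix.CastPic Groth.Agent.Models.H65.PicDeg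
open Groth.Agent.Models.H47 Groth.Agent.Dix.InterSurf

/-- A module over a local ring with infinite residue field is not a finite union of proper submodules. -/
theorem exists_forall_notMem {R M ι : Type*} [CommRing R] [IsLocalRing R] [Infinite (IsLocalRing.ResidueField R)]
    [AddCommGroup M] [Module R M] [Finite ι] (N : ι → Submodule R M) (h : ∀ i, ∃ m, m ∉ N i) :
    ∃ m, ∀ i, m ∉ N i := by
  classical
  by_contra hcon
  push Not at hcon
  have := Fintype.ofFinite ι
  have hcov : ⋃ i ∈ (Finset.univ : Finset ι), (N i : Set M) = Set.univ := by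
    rw [Set.eq_univ_iff_forall]
    intro m
    obtain ⟨i, hi⟩ := hcon m
    exact Set.mem_biUnion (Finset.mem_coe.2 (Finset.mem_univ i)) hi
  obtain ⟨k, -, hk⟩ := Submodule.exists_finiteIndex_of_cover hcov
  have hfin : Finite (M ⧸ N k) := AddSubgroup.finite_quotient_of_finiteIndex
  obtain ⟨m, hm⟩ := h k
  let s : IsLocalRing.ResidueField R → R := Function.surjInv (IsLocalRing.residue_surjective (R := R))
  have hs : ∀ a, IsLocalRing.residue R (s a) = a := Function.surjInv_eq _
  have hinj : Function.Injective fun a : IsLocalRing.ResidueField R => (N k).mkQ (s a • m) := by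
    intro a b hab
    by_contra hne
    have h1 : (s a - s b) • m ∈ N k := by
      have h2 : (N k).mkQ ((s a - s b) • m) = 0 := by
        rw [sub_smul, map_sub]
        exact sub_eq_zero.2 hab
      exact (Submodule.Quotient.mk_eq_zero _).1 h2
    have h2 : IsUnit (s a - s b) := by
      by_contra h3
      have h4 : IsLocalRing.residue R (s a - s b) = 0 :=
        (IsLocalRing.residue_eq_zero_iff _).2 ((IsLocalRing.mem_maximalIdeal _).2 h3)
      rw [map_sub, hs, hs, sub_eq_zero] at h4
      exact hne h4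
    obtain ⟨u, hu⟩ := h2
    rw [← hu] at h1
    apply hm
    have h5 := (N k).smul_mem ((u⁻¹ : Rˣ) : R) h1
    rwa [smul_smul, Units.inv_mul, one_smul] at h5
  exact not_injective_infinite_finite _ hinj

/-- The sections of `D` over `W`. -/
noncomputable def JJ {S : Scheme.{u}} (D : S.IdealSheafData) (W : S.Opens) : Ideal Γ(S, W) :=
  RingHom.ker (D.subschemeι.app W).hom

theorem mem_JJ {S : Scheme.{u}} {D : S.IdealSheafData} {W : S.Opens} {b : Γ(S, W)} : b ∈ JJ D W ↔ Mem D b :=
  Iff.rfl

variable {R : Type u} [CommRing R]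
variable {X : Over (Spec (CommRingCat.of R))} {r : ℕ}

/-- The structure map. -/
noncomputable def rW (W : X.left.Opens) : R →+* Γ(X.left, W) :=
  (ores (show W ≤ ⊤ from le_top)).comp (Coh.toGlobal X.hom)

theorem comp_rW (D : X.left.IdealSheafData) {W : X.left.Opens} (hW : ⊤ ≤ D.subschemeι ⁻¹ᵁ W) :
    (D.subschemeι.appLE W ⊤ hW).hom.comp (rW W) = rr D := by
  have h1 : rr D = D.subschemeι.appTop.hom.comp (Coh.toGlobal X.hom) := by
    unfold rr Coh.toGlobal
    rw [Scheme.Hom.comp_appTop]
    rfl
  rw [h1, rW, ← RingHom.comp_assoc]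
  congr 1
  have h2 : X.left.presheaf.map (homOfLE (show W ≤ ⊤ from le_top)).op ≫ D.subschemeι.appLE W ⊤ hW =
      D.subschemeι.appTop := by
    rw [Scheme.Hom.map_appLE]
    exact (Scheme.Hom.app_eq_appLE _).symm
  rw [← h2]
  rfl

/-- Length of the quotient by the sections of an ideal. -/
theorem length_quot (D : X.left.IdealSheafData) {W : X.left.Opens} (hW : ⊤ ≤ D.subschemeι ⁻¹ᵁ W)
    (hs : Function.Surjective (D.subschemeι.appLE W ⊤ hW).hom) :
    (letI := (rW W).toAlgebra; Module.length R (Γ(X.left, W) ⧸ JJ D W)) =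
      (letI := (rr D).toAlgebra; Module.length R Γ(D.subscheme, ⊤)) := by
  let _ := (rW W).toAlgebra
  let _ := (rr D).toAlgebra
  have hker : JJ D W = RingHom.ker (D.subschemeι.appLE W ⊤ hW).hom := by
    ext b
    exact (appLE_eq_zero_iff hW b).symm
  let e1 : (Γ(X.left, W) ⧸ JJ D W) ≃+* Γ(D.subscheme, ⊤) :=
    (Ideal.quotEquivOfEq hker).trans (RingHom.quotientKerEquivOfSurjective hs)
  have he : ∀ b : Γ(X.left, W), e1 (Ideal.Quotient.mk _ b) = (D.subschemeι.appLE W ⊤ hW).hom b := fun b => rfl
  have hlin : ∀ (t : R) (x : Γ(X.left, W) ⧸ JJ D W), e1 (t • x) = t • e1 x := by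
    intro t x
    obtain ⟨b, rfl⟩ := Ideal.Quotient.mk_surjective x
    have h1 : t • (Ideal.Quotient.mk (JJ D W) b) = Ideal.Quotient.mk (JJ D W) (rW W t * b) := rfl
    rw [h1, he, he, map_mul, Algebra.smul_def]
    congr 1
    exact congrArg (fun φ : R →+* Γ(D.subscheme, ⊤) => φ t) (comp_rW D hW)
  exact ({ e1.toAddEquiv with map_smul' := hlin } : (Γ(X.left, W) ⧸ JJ D W) ≃ₗ[R] Γ(D.subscheme, ⊤)).length_eq

end K481.RatSec
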