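import Groth.Agent.Dix.CastG70
import Groth.Agent.Dix.Cast0
import Groth.Agent.VarietyB.GlobGen
import Groth.Agent.VarietyB.GenLocusTensor
import Groth.Agent.Models.H65.PicDeg

/-!
# Vanishing and global generation along a rational curve of negative self-intersection
-/

set_option autoImplicit false
set_option backward.isDefEq.respectTransparency false
universe u

open CategoryTheory CategoryTheory.Limits AlgebraicGeometry Opposite TopologicalSpace

namespace K481.RatVan

open Groth.Agent Groth.Agent.Fdesc.LocGen Groth.Agent.Fdesc Groth.Agent.Grpsch.PicGrp Groth.Agent.Dix.P1Van490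
open Groth.Agent.Dix.IdealModCartier Groth.Agent.Dix.CastV832

section Scheme

variable {k' : Type u} [Field k'] {X : Scheme.{u}} (ι : P1 k' ⟶ X) [IsClosedImmersion ι]
  (heff : BlowUp.IsEffCartierIdeal ι.ker)

include heff in
/-- The vanishing. -/
theorem van (c : Pic X) (h : Van c) (m : ℤ) (hm : 0 < m) (hdeg : dg k' (pull ι (idc ι heff)) = m) (i : ℕ)
    (hi : (i : ℤ) * m ≤ dg k' (pull ι c)) : Van (c * (idc ι heff)⁻¹ ^ i) := by
  induction i with
  | zero => rw [pow_zero, mul_one]; exact h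
  | succ i ih =>
    refine van_step ι heff _ ?_ ?_
    · rw [pow_succ, mul_assoc, mul_assoc, inv_mul_cancel, mul_one]
      refine ih (le_trans ?_ hi)
      push_cast
      nlinarith
    · rw [map_mul, map_pow, map_inv, dg_mul, dg_pow, dg_inv, hdeg]
      push_cast at hi ⊢
      linarith

/-- Global generation. -/
theorem isGloballyGenerated (H N : X.Modules) (hH : PicF.IsInvertible H) (hN : PicF.IsInvertible N)
    (hHg : Curv2.IsGloballyGenerated H) (hHv : Van (mk H hH)) (m : ℤ) (hm : 0 < m)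
    (hdeg : dg k' (pull ι (idc ι heff)) = m) (r : ℕ) (hr : (r : ℤ) * m = dg k' (pull ι (mk H hH)))
    (hNc : mk N hN = mk H hH * (idc ι heff)⁻¹ ^ r) : Curv2.IsGloballyGenerated N := by
  have hI : PicF.IsInvertible (ClSub.idealMod ι.ker) := (isInvertible_idealMod_iff _).2 heff
  rcases Nat.eq_zero_or_pos r with rfl | hrpos
  · rw [pow_zero, mul_one, mk_eq_iff] at hNc
    obtain ⟨e⟩ := hNc
    obtain ⟨κ, p, hp⟩ := hHg
    exact ⟨κ, p ≫ e.inv, inferInstance⟩
  obtain ⟨n, rfl⟩ : ∃ n, r = n + 1 := ⟨r - 1, by omega⟩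
  have hdi : PicF.IsInvertible (dual (ClSub.idealMod ι.ker)) := isInvertible_dual hI
  have hdp := isInvertible_tensorPow hdi (n + 1)
  obtain ⟨s₀, hs₀⟩ := Dix.Cast5.exists_section ι heff
  obtain ⟨ed⟩ : Nonempty (CohB1.tensorMod H (CohB1.tensorPow (dual (ClSub.idealMod ι.ker)) (n + 1)) ≅ N) := by
    rw [← mk_eq_iff (isInvertible_tensorMod hH hdp) hN, hNc, ← mk_mul_mk hH hdp, mk_tensorPow hdi, inv_mk]
  -- the restriction of `N` to the curve is trivial
  have hdegN : dg k' (pull ι (mk N hN)) = 0 := by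
    rw [hNc, map_mul, map_pow, map_inv, dg_mul, dg_pow, dg_inv, hdeg, ← hr]
    ring
  obtain ⟨φ⟩ := Dix.CastG70.nonempty_iso_unit_of_deg_zero k' (isInvertible_pullback ι hN) hdegN
  have hvan : Van (mk N hN * idc ι heff) := by
    rw [hNc, pow_succ, mul_assoc, mul_assoc, inv_mul_cancel, mul_one]
    refine van ι heff _ hHv m hm hdeg n ?_
    rw [← hr]
    push_cast
    nlinarith
  have hv1 : Subsingleton (Coh.HH X (CohB1.tensorMod (ClSub.idealMod ι.ker) N) 1) := by
    refine hvan _ (isInvertible_tensorMod hI hN) ?_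
    rw [← mk_mul_mk, mul_comm]
  obtain ⟨t, ht⟩ := Dix.Cast1.wp1_lift ι N hN hv1 (sec φ.hom ⊤)
  have hgen : IsGen (pullTop ι t) := by
    rw [ht, ← isIso_iff_isGen]
    infer_instance
  have hrange := Dix.CastG70.range_subset_genLocus ι hN t hgen
  have hcase : ∀ x : X, ∃ s : Coh.structureModule X ⟶ N, x ∈ CohB1.genLocus _ s := by
    intro x
    by_cases hx : x ∈ Set.range ι
    · exact ⟨homOf t, hrange hx⟩
    · obtain ⟨σ, hσ⟩ := VarietyB.GenLocusTensor.exists_mem_genLocus hH hHg x
      refine ⟨tmulHom σ (powHom s₀ (n + 1)) ≫ ed.hom, ?_⟩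
      rw [Ega2.Weight.genLocus_comp, genLocus_tmulHom hH hdp, genLocus_powHom hdi]
      have : x ∈ (CohB1.genLocus _ s₀ : Set X) := by rw [hs₀]; exact hx
      exact ⟨hσ, this⟩
  choose s hs using hcase
  exact VarietyB.GlobGen.isGloballyGenerated_of_cover (κ := X) s (fun x => ⟨x, hs x⟩)

end Scheme


section Surface

variable {R : Type u} [CommRing R] [IsDomain R] [IsDiscreteValuationRing R]
  {X : Over (Spec (CommRingCat.of R))}

/-- Intersection numbers with a component which is a projective line. -/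
theorem inter_eq (E : ArSurf.VertComp R X)
    (k' : Type u) [Field k'] [Algebra (IsLocalRing.ResidueField R) k']
    (e : E.curve.left ≅ CohB1.ProjSpace 1 k')
    (he : e.hom ≫ CohB1.ProjSpace.toSpec 1 k' ≫
      Spec.map (CommRingCat.ofHom (algebraMap (IsLocalRing.ResidueField R) k')) = E.curve.hom)
    {M : X.left.Modules} (hM : PicF.IsInvertible M) :
    ArSurf.inter R X M E = (Module.finrank (IsLocalRing.ResidueField R) k' : ℤ) *
      dg k' (pull (e.inv ≫ E.ι) (mk M hM)) := by
  have hN := Fdesc.LocGen.isInvertible_pullback E.ι hM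
  have hq := (Groth.Agent.S2329.isCoh_of_isInvertible hN).1
  let i : (CohB1.ProjSpace 1 k').Over (Spec (CommRingCat.of (IsLocalRing.ResidueField R))) :=
    ⟨(CohB1.ProjSpace 1 k' ↘ Spec (CommRingCat.of k')) ≫
      Spec.map (CommRingCat.ofHom (algebraMap (IsLocalRing.ResidueField R) k'))⟩
  have h4 := Dix.Cast0.curveDeg_const (IsLocalRing.ResidueField R) k' (CohB1.ProjSpace 1 k') rfl
    ((Scheme.Modules.pullback e.inv).obj ((Scheme.Modules.pullback E.ι).obj M))
  have h5 := Dix.Cast0.curveDeg_pullback_iso (IsLocalRing.ResidueField R) (X := CohB1.ProjSpace 1 k')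
    (Y := E.curve.left) e.inv ((Iso.inv_comp_eq _).2 he.symm) _ hq
  rw [pull_mk, dg_mk]
  have h6 : ArSurf.curveDeg k' (P1 k') ((Scheme.Modules.pullback (e.inv ≫ E.ι)).obj M) =
      ArSurf.curveDeg k' (P1 k') ((Scheme.Modules.pullback e.inv).obj ((Scheme.Modules.pullback E.ι).obj M)) :=
    Dix.Cast0.curveDeg_congr k' ((Scheme.Modules.pullbackComp e.inv E.ι).symm.app _)
  rw [h6, ← h4, h5]
  rfl

/-- The statement S7940. -/
theorem main (E : ArSurf.VertComp R X)
    (hP1 : ∃ (k' : Type u) (_ : Field k') (_ : Algebra (IsLocalRing.ResidueField R) k')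
      (e : E.curve.left ≅ CohB1.ProjSpace 1 k'),
      e.hom ≫ CohB1.ProjSpace.toSpec 1 k' ≫
        Spec.map (CommRingCat.ofHom (algebraMap (IsLocalRing.ResidueField R) k')) = E.curve.hom)
    (LE : X.left.Modules) (hLE : ClSub.IsInverseOf LE (ClSub.idealMod E.ι.ker))
    (hneg : ArSurf.inter R X LE E < 0)
    (LH : X.left.Modules) (hLHi : PicF.IsInvertible LH)
    (h1 : Subsingleton (Coh.HH X.left LH 1)) :
    (∀ i : ℕ, (i : ℤ) * (-ArSurf.inter R X LE E) ≤ ArSurf.inter R X LH E →
        Subsingleton (Coh.HH X.left (CohB1.tensorMod LH (CohB1.tensorPow LE i)) 1)) ∧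
      ∀ r : ℕ, Curv2.IsGloballyGenerated LH → ArSurf.inter R X LH E = (r : ℤ) * (-ArSurf.inter R X LE E) →
        Nonempty ((Scheme.Modules.pullback E.ι).obj (CohB1.tensorMod LH (CohB1.tensorPow LE r)) ≅
            Coh.structureModule E.curve.left) ∧
          Curv2.IsGloballyGenerated (CohB1.tensorMod LH (CohB1.tensorPow LE r)) := by
  obtain ⟨k', i1, i2, e, he⟩ := hP1
  obtain ⟨hLEi, hI⟩ := isInvertible_of_isInverseOf hLE
  have hmul := fun {M : X.left.Modules} (hM : PicF.IsInvertible M) => inter_eq E k' e he hM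
  let ι : P1 k' ⟶ X.left := e.inv ≫ E.ι
  have hker : ι.ker = E.ι.ker := Scheme.Hom.ker_comp_of_isIso e.inv E.ι
  have heff : BlowUp.IsEffCartierIdeal ι.ker := by
    rw [hker]
    exact isEffCartierIdeal_of_isInverseOf hLE
  have hcE : mk LE hLEi = (idc ι heff)⁻¹ := by
    refine Models.H65.PicDeg.mk_of_isInverseOf hLEi _ ?_
    rw [hker]
    exact hLE
  set c : ℤ := (Module.finrank (IsLocalRing.ResidueField R) k' : ℤ) with hc
  set m : ℤ := dg k' (pull ι (idc ι heff)) with hm
  have hE : ArSurf.inter R X LE E = - (c * m) := by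
    rw [hmul hLEi, hcE, map_inv, dg_inv]
    ring
  have hH : ArSurf.inter R X LH E = c * dg k' (pull ι (mk LH hLHi)) := hmul hLHi
  have hc0 : 0 < c := by
    have h2 : 0 ≤ c := Int.natCast_nonneg _
    rcases h2.lt_or_eq with h | h
    · exact h
    · rw [hE, ← h] at hneg
      simp at hneg
  have hm0 : 0 < m := by
    rw [hE] at hneg
    by_contra h
    push Not at h
    nlinarith
  have hvan : Van (mk LH hLHi) := van_mk hLHi h1
  have hpow : ∀ i : ℕ, ∃ h : PicF.IsInvertible (CohB1.tensorMod LH (CohB1.tensorPow LE i)),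
      mk _ h = mk LH hLHi * (idc ι heff)⁻¹ ^ i := by
    intro i
    refine ⟨isInvertible_tensorMod hLHi (isInvertible_tensorPow hLEi i), ?_⟩
    rw [← mk_mul_mk hLHi (isInvertible_tensorPow hLEi i), mk_tensorPow hLEi, hcE]
  refine ⟨fun i hi => ?_, fun r hg hr => ?_⟩
  · obtain ⟨h2, h3⟩ := hpow i
    refine van ι heff _ hvan m hm0 rfl i ?_ _ h2 h3
    rw [hE, hH] at hi
    have h4 : c * (i * m) ≤ c * dg k' (pull ι (mk LH hLHi)) := by linarith
    exact le_of_mul_le_mul_left h4 hc0
  · obtain ⟨h2, h3⟩ := hpow r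
    have hr' : (r : ℤ) * m = dg k' (pull ι (mk LH hLHi)) := by
      rw [hE, hH] at hr
      have h4 : c * (r * m) = c * dg k' (pull ι (mk LH hLHi)) := by linarith
      exact mul_left_cancel₀ hc0.ne' h4
    refine ⟨?_, isGloballyGenerated ι heff LH _ hLHi h2 hg hvan m hm0 rfl r hr' h3⟩
    have hdegN : dg k' (pull ι (mk _ h2)) = 0 := by
      rw [h3, map_mul, map_pow, map_inv, dg_mul, dg_pow, dg_inv, ← hr']
      ring
    obtain ⟨φ⟩ := Dix.CastG70.nonempty_iso_unit_of_deg_zero k' (isInvertible_pullback ι h2) hdegN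
    have h5 : pull ι (mk _ h2) = 1 := by
      rw [pull_mk, mk_eq_one_iff]
      exact ⟨φ.symm⟩
    have h6 : pull E.ι (mk _ h2) = 1 := by
      have h7 : E.ι = e.hom ≫ ι := by
        simp only [ι, Iso.hom_inv_id_assoc]
      rw [h7, pull_comp, h5, map_one]
    rw [pull_mk, mk_eq_one_iff] at h6
    exact h6

end Surface

end K481.RatVan
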