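import Groth.Agent.ArSurf.K481.RatNear
import Groth.Agent.ArSurf.K481.FibreField
import Groth.Agent.Models.H37.Main
import Groth.Agent.S1659
import Groth.Agent.S8727

/-!
# Invertible modules on an arithmetic surface trivial on the generic fibre and of degree zero on the components
-/

set_option autoImplicit false
universe u

open CategoryTheory CategoryTheory.Limits AlgebraicGeometry Opposite TopologicalSpace

namespace K481.VertTriv

open Groth.Agent Groth.Agent.Dix.IdealModCartier Groth.Agent.Fdesc.LocGen RatChi RatNum RatDesc RatNear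
open Groth.Agent.Grpsch.PicGrp Groth.Agent.Dix Groth.Agent.Models.H65.PicDeg
open Groth.Agent.Models.H36.FibreFact Groth.Agent.Models.H38.TrivGen

variable {R : Type u} [CommRing R] [IsDomain R] [IsDiscreteValuationRing R]
variable {X : Over (Spec (CommRingCat.of R))} {n : ℕ} {Γ : Fin n → ArSurf.VertComp R X}

/-- The class of the ideal of the closed fibre is trivial. -/
theorem cls_mult [IsProper X.hom] [Flat X.hom] (hreg : Models.IsRegularScheme X.left)
    (hΓ : Models.IsComponentList R X Γ)
    {L : Fin n → X.left.Modules} (hL : ∀ j, ClSub.IsInverseOf (L j) (ClSub.idealMod (Γ j).ι.ker)) :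
    cls hL (fun i => Models.mult R X (Γ i)) = 1 := by
  obtain ⟨e⟩ := Models.H37.Main.idealMod_specialFibreIdeal (R := R) (X := X)
  have h1 : DD Γ (fun i => Models.mult R X (Γ i)) = Models.specialFibreIdeal R X := (specialFibreIdeal_eq_prod hreg hΓ).symm
  rw [cls, mk_eq_one_iff]
  exact ⟨eqToIso (by rw [h1]) ≪≫ e.symm⟩

/-- An invertible module trivial on the generic fibre and of degree zero on all components of the closed fibre is
trivial, if some component has multiplicity one. -/
theorem main (hX : ArSurf.IsArithSurface R X) (hconn : _root_.IsConnected (Models.specialFibreSet R X))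
    (hΓ : Models.IsComponentList R X Γ) {M : X.left.Modules} (hM : PicF.IsInvertible M)
    {K : Type u} [Field K] [Algebra R K] [IsFractionRing R K] {C : Scheme.{u}} {g : C ⟶ X.left}
    {f : C ⟶ Spec (CommRingCat.of K)}
    (hg : IsPullback g f X.hom (Spec.map (CommRingCat.ofHom (algebraMap R K))))
    (htriv : Nonempty ((Scheme.Modules.pullback g).obj M ≅ Coh.structureModule C))
    (hdeg : ∀ i, ArSurf.inter R X M (Γ i) = 0) (i₀ : Fin n) (hi₀ : Models.mult R X (Γ i₀) = 1) :
    Nonempty (M ≅ Coh.structureModule X.left) := by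
  have hp : IsProper X.hom := InterSurf.isProper_hom hX
  have hflat : Flat X.hom := hX.2.2.2.1
  have hreg : Models.IsRegularScheme X.left := hX.1
  have hN : IsNoetherian X.left := isNoetherian (R := R)
  obtain ⟨L, hL⟩ := FibreField.exists_inv hreg hΓ
  obtain ⟨D, hD, hMD, hsup⟩ := exists_divisor_of_trivial hg hM htriv
  obtain ⟨a, ha⟩ := S1659.result X.left D hD n (fun i => (Γ i).ι.ker)
    (fun i => isEff hL i) (fun i => Models.H36.FibreFact.isIntegral_ker_subscheme (Γ i).ι) (by
      intro x hx
      obtain ⟨i, hi⟩ := exists_mem_range hΓ (hsup hx)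
      exact Set.mem_iUnion.2 ⟨i, (VertGeom.mem_support_ker_iff (Γ i).ι x).2 hi⟩)
  have h1 : mk M hM * cls hL a = 1 := by
    rw [cls, mk_mul_mk, mk_eq_one_iff]
    have h2 : DD Γ a = D := ha.symm
    rw [h2]
    exact hMD
  have h3 : ∀ i, dot (AA Γ L) a i = 0 := by
    intro i
    have h4 := deg_cls hX hL a i
    have h5 : deg (Γ i) (mk M hM) = 0 := hdeg i
    have h6 := deg_mul (Γ i) (mk M hM) (cls hL a)
    rw [h1, deg_one, h5, h4] at h6
    linarith
  have h7 := (S8727.result R X hX hconn Γ hΓ.1 (fun x hx => exists_mem_range hΓ hx) L hL (fun i => (a i : ℤ))).1 (by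
    intro i
    exact h3 i)
  obtain ⟨c, hc⟩ := h7
  have hc' : ∀ i, (((a i : ℕ) : ℤ) : ℚ) = c * (Models.mult R X (Γ i) : ℚ) := hc
  have h8 : c = (a i₀ : ℚ) := by
    have := hc' i₀
    rw [hi₀] at this
    simpa using this.symm
  have h9 : a = a i₀ • (fun i => Models.mult R X (Γ i)) := by
    funext i
    have := hc' i
    rw [h8] at this
    have h10 : ((a i : ℕ) : ℚ) = ((a i₀ * Models.mult R X (Γ i) : ℕ) : ℚ) := by
      push_cast
      exact_mod_cast this
    exact_mod_cast h10
  rw [h9, cls_nsmul, cls_mult hreg hΓ hL, one_pow, mul_one, mk_eq_one_iff] at h1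
  exact h1

end K481.VertTriv
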