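import Mathlib.RingTheory.Valuation.Discrete.IsDiscreteValuationRing
import Mathlib.RingTheory.DedekindDomain.AdicValuation
import Mathlib.GroupTheory.ArchimedeanDensely

/-!
# Weak approximation for finitely many pairwise incomparable discrete valuations
-/

set_option autoImplicit false

open scoped WithZero

namespace K481.WeakApprox

variable {K : Type*} [Field K] {ι : Type*} (v : ι → Valuation K ℤᵐ⁰)

lemma pow_ev {a c : ℤᵐ⁰} (ha : a < 1) (hc : c ≠ 0) : ∃ N : ℕ, ∀ n ≥ N, a ^ n < c := by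
  obtain ⟨N, hN⟩ := exists_pow_lt₀ ha (Units.mk0 c hc)
  exact ⟨N, fun n hn => (pow_le_pow_right_of_le_one' ha.le hn).trans_lt hN⟩

lemma pow_ev_fin {κ : Type*} (S : Finset κ) (a c : κ → ℤᵐ⁰) (ha : ∀ i ∈ S, a i < 1)
    (hc : ∀ i ∈ S, c i ≠ 0) : ∃ N : ℕ, ∀ n ≥ N, ∀ i ∈ S, a i ^ n < c i := by
  classical
  induction S using Finset.induction_on with
  | empty => exact ⟨0, by simp⟩
  | insert k S hk ih =>
    obtain ⟨N, hN⟩ := ih (fun i hi => ha i (Finset.mem_insert_of_mem hi))
      (fun i hi => hc i (Finset.mem_insert_of_mem hi))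
    obtain ⟨M, hM⟩ := pow_ev (ha k (Finset.mem_insert_self _ _)) (hc k (Finset.mem_insert_self _ _))
    refine ⟨max N M, fun n hn i hi => ?_⟩
    rcases Finset.mem_insert.1 hi with rfl | hi
    · exact hM n (le_trans (le_max_right _ _) hn)
    · exact hN n (le_trans (le_max_left _ _) hn) i hi

lemma exists_pair (h : ∀ i j, i ≠ j → ∃ a, v i a ≤ 1 ∧ 1 < v j a) {i j : ι} (hij : i ≠ j) :
    ∃ w, 1 < v i w ∧ v j w < 1 := by
  obtain ⟨a, ha, ha'⟩ := h i j hij
  obtain ⟨b, hb, hb'⟩ := h j i hij.symm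
  have ha0 : a ≠ 0 := by
    rintro rfl
    simp at ha'
  have hia : 0 < v i a := zero_lt_iff.2 ((Valuation.ne_zero_iff _).2 ha0)
  have hja : 0 < v j a := zero_lt_iff.2 ((Valuation.ne_zero_iff _).2 ha0)
  refine ⟨b / a, ?_, ?_⟩
  · rw [map_div₀, one_lt_div₀ hia]
    exact ha.trans_lt hb'
  · rw [map_div₀, div_lt_one₀ hja]
    exact hb.trans_lt ha'

lemma map_one_add {w : Valuation K ℤᵐ⁰} {z : K} (hz : 1 < w z) : w (1 + z) = w z := by
  rw [add_comm]
  exact Valuation.map_add_eq_of_lt_left w (by rwa [map_one])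

lemma map_one_add' {w : Valuation K ℤᵐ⁰} {z : K} (hz : w z < 1) : w (1 + z) = 1 := by
  rw [add_comm]
  have := Valuation.map_add_eq_of_lt_right w (x := z) (y := 1) (by rwa [map_one])
  rwa [map_one] at this

lemma exists_sep (h : ∀ i j, i ≠ j → ∃ a, v i a ≤ 1 ∧ 1 < v j a) (hn : ∀ i, ∃ a, 1 < v i a)
    (i : ι) (S : Finset ι) (hS : i ∉ S) : ∃ z, 1 < v i z ∧ ∀ j ∈ S, v j z < 1 := by
  classical
  induction S using Finset.induction_on with
  | empty =>
    obtain ⟨a, ha⟩ := hn i
    exact ⟨a, ha, by simp⟩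
  | insert k S hk ih =>
    obtain ⟨z, hz, hzS⟩ := ih (fun hi => hS (Finset.mem_insert_of_mem hi))
    have hik : i ≠ k := fun e => hS (e ▸ Finset.mem_insert_self _ _)
    obtain ⟨w, hw, hw'⟩ := exists_pair v h hik
    have hw0 : w ≠ 0 := by rintro rfl; simp at hw
    have hz0 : z ≠ 0 := by rintro rfl; simp at hz
    rcases lt_trichotomy (v k z) 1 with hk1 | hk1 | hk1
    · exact ⟨z, hz, fun j hj => (Finset.mem_insert.1 hj).elim (fun e => e ▸ hk1) (hzS j)⟩
    · -- multiply a high power of `z` with `w`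
      obtain ⟨N, hN⟩ := pow_ev_fin S (fun j => v j z) (fun j => (v j w)⁻¹) hzS
        (fun j _ => inv_ne_zero ((Valuation.ne_zero_iff _).2 hw0))
      refine ⟨z ^ N * w, ?_, fun j hj => ?_⟩
      · rw [map_mul, map_pow]
        exact one_lt_mul_of_le_of_lt (one_le_pow_of_one_le' hz.le N) hw
      · rcases Finset.mem_insert.1 hj with rfl | hj
        · rw [map_mul, map_pow, hk1, one_pow, one_mul]
          exact hw'
        · have h1 := hN N le_rfl j hj
          have h2 : 0 < v j w := zero_lt_iff.2 ((Valuation.ne_zero_iff _).2 hw0)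
          rw [map_mul, map_pow]
          calc v j z ^ N * v j w < (v j w)⁻¹ * v j w := mul_lt_mul_of_pos_right h1 h2
            _ = 1 := inv_mul_cancel₀ h2.ne'
    · -- use `z ^ N / (1 + z ^ N)`
      obtain ⟨N, hN⟩ := pow_ev_fin S (fun j => v j z) (fun j => min 1 (v j w)⁻¹) hzS
        (fun j _ => (lt_min zero_lt_one (zero_lt_iff.2
          (inv_ne_zero ((Valuation.ne_zero_iff _).2 hw0)))).ne')
      have hN' := hN (N + 1) (Nat.le_succ N)
      set M := N + 1 with hM
      have hM0 : M ≠ 0 := Nat.succ_ne_zero N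
      have hbig : ∀ l, 1 < v l z → v l (z ^ M / (1 + z ^ M)) = 1 := by
        intro l hl
        have h1 : 1 < v l (z ^ M) := by
          rw [map_pow]
          exact one_lt_pow' hl hM0
        rw [map_div₀, map_one_add h1, div_self (zero_lt_one.trans h1).ne']
      refine ⟨z ^ M / (1 + z ^ M) * w, ?_, fun j hj => ?_⟩
      · rw [map_mul, hbig i hz, one_mul]
        exact hw
      · rcases Finset.mem_insert.1 hj with rfl | hj
        · rw [map_mul, hbig _ hk1, one_mul]
          exact hw'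
        · have h1 := hN' j hj
          have h2 : 0 < v j w := zero_lt_iff.2 ((Valuation.ne_zero_iff _).2 hw0)
          have h3 : v j (z ^ M) < 1 := by
            rw [map_pow]
            exact h1.trans_le (min_le_left _ _)
          rw [map_mul, map_div₀, map_one_add' h3, div_one, map_pow]
          calc v j z ^ M * v j w < (v j w)⁻¹ * v j w :=
                mul_lt_mul_of_pos_right (h1.trans_le (min_le_right _ _)) h2
            _ = 1 := inv_mul_cancel₀ h2.ne'

/-- Approximate idempotents. -/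
lemma exists_near [Finite ι] (h : ∀ i j, i ≠ j → ∃ a, v i a ≤ 1 ∧ 1 < v j a)
    (hn : ∀ i, ∃ a, 1 < v i a) (c : ℤᵐ⁰) (hc : c ≠ 0) (i : ι) :
    ∃ e, v i e = 1 ∧ ∀ j, j ≠ i → v j e < c := by
  classical
  have := Fintype.ofFinite ι
  obtain ⟨z, hz, hz'⟩ := exists_sep v h hn i (Finset.univ.erase i) (by simp)
  obtain ⟨N, hN⟩ := pow_ev_fin (Finset.univ.erase i) (fun j => v j z) (fun _ => min 1 c) hz'
    (fun j _ => (lt_min zero_lt_one (zero_lt_iff.2 hc)).ne')
  have hN' := hN (N + 1) (Nat.le_succ N)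
  set M := N + 1 with hM
  have hM0 : M ≠ 0 := Nat.succ_ne_zero N
  refine ⟨z ^ M / (1 + z ^ M), ?_, fun j hj => ?_⟩
  · have h1 : 1 < v i (z ^ M) := by
      rw [map_pow]
      exact one_lt_pow' hz hM0
    rw [map_div₀, map_one_add h1, div_self (zero_lt_one.trans h1).ne']
  · have h1 := hN' j (Finset.mem_erase.2 ⟨hj, Finset.mem_univ j⟩)
    have h3 : v j (z ^ M) < 1 := by
      rw [map_pow]
      exact h1.trans_le (min_le_left _ _)
    rw [map_div₀, map_one_add' h3, div_one, map_pow]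
    exact h1.trans_le (min_le_right _ _)

/-- Weak approximation, valuation form: prescribed values at finitely many pairwise incomparable discrete
valuations are attained. -/
theorem exists_eq [Finite ι] (h : ∀ i j, i ≠ j → ∃ a, v i a ≤ 1 ∧ 1 < v j a)
    (hn : ∀ i, ∃ a, 1 < v i a) (x : ι → K) (hx : ∀ i, x i ≠ 0) : ∃ f, ∀ i, v i f = v i (x i) := by
  classical
  have := Fintype.ofFinite ι
  -- a lower bound of all ratios
  obtain ⟨c, hc0, hc⟩ : ∃ c : ℤᵐ⁰, c ≠ 0 ∧ ∀ i j, c * v j (x i) ≤ v j (x j) := by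
    have key : ∀ S : Finset (ι × ι), ∃ c : ℤᵐ⁰, c ≠ 0 ∧ ∀ p ∈ S, c * v p.2 (x p.1) ≤ v p.2 (x p.2) := by
      intro S
      induction S using Finset.induction_on with
      | empty => exact ⟨1, one_ne_zero, by simp⟩
      | insert p S hp ih =>
        obtain ⟨c, hc0, hc⟩ := ih
        have h1 : v p.2 (x p.1) ≠ 0 := (Valuation.ne_zero_iff _).2 (hx _)
        have h2 : v p.2 (x p.2) ≠ 0 := (Valuation.ne_zero_iff _).2 (hx _)
        refine ⟨min c (v p.2 (x p.2) / v p.2 (x p.1)), ?_, ?_⟩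
        · exact (lt_min (zero_lt_iff.2 hc0) (zero_lt_iff.2 (div_ne_zero h2 h1))).ne'
        · intro q hq
          rcases Finset.mem_insert.1 hq with rfl | hq
          · calc min c (v q.2 (x q.2) / v q.2 (x q.1)) * v q.2 (x q.1) ≤
                (v q.2 (x q.2) / v q.2 (x q.1)) * v q.2 (x q.1) :=
                  mul_le_mul_left (min_le_right _ _) _
              _ = _ := div_mul_cancel₀ _ h1
          · exact (mul_le_mul_left (min_le_left _ _) _).trans (hc q hq)
    obtain ⟨c, hc0, hc⟩ := key Finset.univ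
    exact ⟨c, hc0, fun i j => hc (i, j) (Finset.mem_univ _)⟩
  choose e he he' using exists_near v h hn c hc0
  refine ⟨∑ i, e i * x i, fun j => ?_⟩
  rw [← Finset.add_sum_erase Finset.univ _ (Finset.mem_univ j)]
  have h1 : v j (e j * x j) = v j (x j) := by rw [map_mul, he, one_mul]
  rw [Valuation.map_add_eq_of_lt_left, h1]
  rw [h1]
  refine Valuation.map_sum_lt (v j) ((Valuation.ne_zero_iff _).2 (hx j)) fun i hi => ?_
  have hij : j ≠ i := ((Finset.mem_erase.1 hi).1).symm
  rw [map_mul]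
  have h2 : 0 < v j (x i) := zero_lt_iff.2 ((Valuation.ne_zero_iff _).2 (hx i))
  exact (mul_lt_mul_of_pos_right (he' i j hij) h2).trans_le (hc i j)

end K481.WeakApprox
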